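import Mathlib
import Cfsg.Prelude.Def_Local
import Cfsg.Agent.Lib.PLocal.Constrained
import Cfsg.Agent.Lib.Solvable.CoprimeAction
import Cfsg.Agent.Lib.OddOrder.OmegaFix

/-!
`2`-constrained groups with trivial odd core act faithfully modulo `O₂` on the Frattini quotient of `O₂`.
-/

set_option autoImplicit false

open Cfsg
open scoped commutatorElement

namespace CfsgLib.StdForm

variable {X : Type*} [Group X]

theorem centralizer_pCore_le [Finite X] (hc : IsPConstrained 2 X) (hO : oddCore X = ⊥) :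
    Subgroup.centralizer (pCore 2 X : Set X) ≤ pCore 2 X := by
  haveI : Fact (Nat.Prime 2) := ⟨Nat.prime_two⟩
  exact (CfsgLib.PLoc.isPConstrained_iff_of_surjective (f := MonoidHom.id X) Function.surjective_id
    (MonoidHom.ker_id.trans hO.symm)).mp hc

/-- An action by conjugation of `X` on a quotient of a normal subgroup by a characteristic one. -/
noncomputable def conjQuot (Q : Subgroup X) [Q.Normal] (N : Subgroup ↥Q) [N.Characteristic] :
    X →* MulAut (↥Q ⧸ N) where
  toFun x := QuotientGroup.congr N N (MulAut.conjNormal x)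
    (Subgroup.characteristic_iff_map_eq.mp inferInstance _)
  map_one' := by
    ext v; induction v using QuotientGroup.induction_on with
    | H y => simp
  map_mul' a b := by
    ext v; induction v using QuotientGroup.induction_on with
    | H y =>
      simp only [map_mul, MulAut.mul_apply]
      rfl

theorem mem_ker_conjQuot {Q : Subgroup X} [Q.Normal] {N : Subgroup ↥Q} [N.Characteristic] {x : X} :
    x ∈ (conjQuot Q N).ker ↔ ∀ k : ↥Q, MulAut.conjNormal x k * k⁻¹ ∈ N := by
  rw [MonoidHom.mem_ker]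
  constructor
  · intro h k
    have h2 := MulEquiv.congr_fun h (QuotientGroup.mk k)
    have h3 : (QuotientGroup.mk (MulAut.conjNormal x k) : ↥Q ⧸ N) = QuotientGroup.mk k := h2
    rw [← div_eq_mul_inv]
    exact (QuotientGroup.eq_iff_div_mem).mp h3
  · intro h
    ext v; induction v using QuotientGroup.induction_on with
    | H k =>
      show (QuotientGroup.mk (MulAut.conjNormal x k) : ↥Q ⧸ N) = QuotientGroup.mk k
      rw [QuotientGroup.eq_iff_div_mem, div_eq_mul_inv]
      exact h k

theorem exists_hom_frattini_quotient [Finite X] (hc : IsPConstrained 2 X) (hO : oddCore X = ⊥)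
    [(pCore 2 X).Normal] :
    ∃ g : X ⧸ pCore 2 X →* MulAut (↥(pCore 2 X) ⧸ frattini ↥(pCore 2 X)),
      Function.Injective g ∧ ∀ (x : X) (k : ↥(pCore 2 X)),
        g (QuotientGroup.mk x) (QuotientGroup.mk k) = QuotientGroup.mk (MulAut.conjNormal x k) := by
  haveI : Fact (Nat.Prime 2) := ⟨Nat.prime_two⟩
  generalize hQ : pCore 2 X = Q at *
  have hQp : IsPGroup 2 ↥Q := hQ ▸ CfsgLib.PLoc.pCore_pgroup 2 X
  have hle : Q ≤ (conjQuot Q (frattini ↥Q)).ker := by
    intro x hx
    refine mem_ker_conjQuot.mpr fun k => CfsgLib.OddOrder.commutator_le_frattini_of_isPGroup hQp ?_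
    have : MulAut.conjNormal x k * k⁻¹ = ⁅(⟨x, hx⟩ : ↥Q), k⁆ := by
      apply Subtype.ext
      simp [commutatorElement_def, mul_assoc]
    rw [this]
    exact Subgroup.commutator_mem_commutator (Subgroup.mem_top _) (Subgroup.mem_top _)
  have hker : (conjQuot Q (frattini ↥Q)).ker ≤ Q := by
    conv_rhs => rw [← hQ]
    refine CfsgLib.PLoc.le_pCore_of inferInstance fun y => ?_
    obtain ⟨k, r, hr, hord⟩ := Nat.exists_eq_two_pow_mul_odd (orderOf_pos (y : X)).ne'
    refine ⟨k, Subtype.ext ?_⟩
    simp only [SubgroupClass.coe_pow, OneMemClass.coe_one]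
    generalize hz : (y : X) ^ (2 ^ k) = z
    have hzr : z ^ r = 1 := by rw [← hz, ← pow_mul, ← hord, pow_orderOf_eq_one]
    have hzK : z ∈ (conjQuot Q (frattini ↥Q)).ker := hz ▸ Subgroup.pow_mem _ y.2 _
    have hcen : Subgroup.zpowers z ≤ Subgroup.centralizer (Q : Set X) := by
      refine CfsgLib.Solvable.le_centralizer_of_trivial_on_frattini_quotient ?_ ?_
      · obtain ⟨e, he⟩ := IsPGroup.iff_card.mp (hQp.to_subgroup (frattini ↥Q))
        rw [Nat.card_zpowers, he]
        exact ((Nat.coprime_two_right.mpr (hr.of_dvd_nat (orderOf_dvd_of_pow_eq_one hzr)))).pow_right e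
      · intro a ha q hq
        have hK : a ∈ (conjQuot Q (frattini ↥Q)).ker := (Subgroup.zpowers_le.mpr hzK) ha
        refine Subgroup.mem_map.mpr ⟨_, mem_ker_conjQuot.mp hK ⟨q, hq⟩, ?_⟩
        simp
    have hzQ : z ∈ Q := by
      have := centralizer_pCore_le hc hO
      rw [hQ] at this
      exact this (hcen (Subgroup.mem_zpowers z))
    obtain ⟨e, he⟩ := hQp ⟨z, hzQ⟩
    have he' : z ^ (2 ^ e) = 1 := congrArg Subtype.val he
    exact orderOf_eq_one_iff.mp (Nat.eq_one_of_dvd_coprimes
      ((Nat.coprime_two_right.mpr hr).pow_right e) (orderOf_dvd_of_pow_eq_one hzr) (orderOf_dvd_of_pow_eq_one he'))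
  refine ⟨QuotientGroup.lift Q (conjQuot Q (frattini ↥Q)) hle, ?_, fun x k => rfl⟩
  rw [← MonoidHom.ker_eq_bot_iff, eq_bot_iff]
  intro v hv
  induction v using QuotientGroup.induction_on with
  | H x => exact (QuotientGroup.eq_one_iff x).mpr (hker hv)

theorem frattini_quotient_elementary {Q : Type*} [Group Q] [Finite Q] (hQ : IsPGroup 2 Q) :
    (∀ v : Q ⧸ frattini Q, v * v = 1) ∧ (∀ v w : Q ⧸ frattini Q, v * w = w * v) := by
  haveI : Fact (Nat.Prime 2) := ⟨Nat.prime_two⟩
  have h2 : ∀ v : Q ⧸ frattini Q, v * v = 1 := by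
    intro v
    induction v using QuotientGroup.induction_on with
    | H k =>
      rw [← QuotientGroup.mk_mul, QuotientGroup.eq_one_iff, ← sq]
      exact CfsgLib.OddOrder.pow_mem_frattini_of_isPGroup hQ k
  refine ⟨h2, fun v w => ?_⟩
  calc v * w = (v * w)⁻¹ := (inv_eq_of_mul_eq_one_left (h2 _)).symm
    _ = w * v := by rw [mul_inv_rev, inv_eq_of_mul_eq_one_left (h2 v), inv_eq_of_mul_eq_one_left (h2 w)]

theorem card_frattini_quotient_le {Q : Type*} [Group Q] [Finite Q] (hQ : IsPGroup 2 Q) {k : ℕ}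
    (h : SectionalPRankLE 2 k Q) : Nat.card (Q ⧸ frattini Q) ≤ 2 ^ k := by
  obtain ⟨h2, hcomm⟩ := frattini_quotient_elementary hQ
  let f : ↥(⊤ : Subgroup Q) →* Q ⧸ frattini Q := (QuotientGroup.mk' (frattini Q)).comp (⊤ : Subgroup Q).subtype
  have hf : Function.Surjective f :=
    (QuotientGroup.mk'_surjective _).comp (fun x => ⟨⟨x, Subgroup.mem_top x⟩, rfl⟩)
  let e := QuotientGroup.quotientKerEquivOfSurjective f hf
  have := h ⊤ f.ker ⊤
    ⟨⟨fun a b => Subtype.ext (e.injective (by
      show e ((a : ↥(⊤ : Subgroup Q) ⧸ f.ker) * b) = e ((b : ↥(⊤ : Subgroup Q) ⧸ f.ker) * a)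
      rw [map_mul, map_mul, hcomm]))⟩⟩
    (fun a _ => e.injective (by rw [sq, map_mul, h2, map_one]))
  rwa [Subgroup.card_top, Nat.card_congr e.toEquiv] at this

/-- Automorphisms of an elementary abelian group of order at most 16 embed in `GL₄(2)`. -/
theorem exists_mulAut_hom_GL {V : Type*} [Group V] [Finite V] (h2 : ∀ v : V, v * v = 1)
    (hcomm : ∀ v w : V, v * w = w * v) (h16 : Nat.card V ≤ 16) :
    ∃ f : MulAut V →* GL (Fin 4) (ZMod 2), Function.Injective f := by
  classical
  letI iV : CommGroup V := { (inferInstance : Group V) with mul_comm := hcomm }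
  letI : Module (ZMod 2) (Additive V) := AddCommGroup.zmodModule (fun v => by
    rw [two_nsmul]; exact congrArg Additive.ofMul (h2 v.toMul))
  haveI : Module.Finite (ZMod 2) (Additive V) := Module.Finite.of_finite
  generalize hd : Module.finrank (ZMod 2) (Additive V) = d
  have hd4 : d ≤ 4 := by
    have hcard := Module.natCard_eq_pow_finrank (K := ZMod 2) (V := Additive V)
    rw [Nat.card_zmod, hd, Nat.card_congr Additive.toMul] at hcard
    by_contra h
    have := Nat.pow_le_pow_right (show 0 < 2 by norm_num) (show 5 ≤ d by omega)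
    omega
  obtain ⟨e⟩ : Nonempty ((Additive V × (Fin (4 - d) → ZMod 2)) ≃ₗ[ZMod 2] (Fin 4 → ZMod 2)) :=
    FiniteDimensional.nonempty_linearEquiv_of_finrank_eq (by
      rw [Module.finrank_prod, hd, Module.finrank_fin_fun, Module.finrank_fin_fun]; omega)
  let lin : MulAut V → (Fin 4 → ZMod 2) →ₗ[ZMod 2] (Fin 4 → ZMod 2) := fun φ =>
    e.toLinearMap ∘ₗ (((MonoidHom.toAdditive φ.toMonoidHom).toZModLinearMap 2).prodMap LinearMap.id) ∘ₗ e.symm.toLinearMap
  have hlin : ∀ φ ψ, lin (φ * ψ) = lin φ ∘ₗ lin ψ := by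
    intro φ ψ
    refine LinearMap.ext fun x => ?_
    simp only [lin, LinearMap.comp_apply, LinearEquiv.coe_coe, e.symm_apply_apply]
    rfl
  let m : MulAut V →* Matrix (Fin 4) (Fin 4) (ZMod 2) :=
    { toFun := fun φ => LinearMap.toMatrix' (lin φ)
      map_one' := by
        rw [← LinearMap.toMatrix'_id]
        congr 1
        refine LinearMap.ext fun x => ?_
        show e ((((MonoidHom.toAdditive (1 : MulAut V).toMonoidHom).toZModLinearMap 2).prodMap LinearMap.id) (e.symm x)) = x
        exact e.apply_symm_apply x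
      map_mul' := fun φ ψ => by rw [hlin, LinearMap.toMatrix'_comp] }
  refine ⟨m.toHomUnits, fun φ ψ h => MulEquiv.ext fun v => ?_⟩
  have h2' : lin φ = lin ψ := LinearMap.toMatrix'.injective (congrArg Units.val h)
  have := LinearMap.congr_fun h2' (e (Additive.ofMul v, 0))
  simp only [lin, LinearMap.comp_apply, LinearEquiv.coe_coe, e.symm_apply_apply] at this
  have h3 := congrArg Prod.fst (e.injective this)
  exact congrArg Additive.toMul h3

end CfsgLib.StdForm
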