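import Mathlib

/-!
Two-groups of order `64` with a fixed-point-free automorphism of order three.
-/

set_option autoImplicit false

namespace CfsgLib.StdForm

variable {T : Type*} [Group T]

theorem fpf_prod_eq_one [Finite T] {ρ : MulAut T} (h3 : ∀ y, ρ (ρ (ρ y)) = y)
    (hfp : ∀ y, ρ y = y → y = 1) (y : T) : y * ρ y * ρ (ρ y) = 1 := by
  obtain ⟨h, rfl⟩ := (MonoidHom.FixedPointFree.commutatorMap_surjective (φ := ρ) (fun g hg => hfp g hg)) y
  simp [MonoidHom.commutatorMap_apply, div_eq_mul_inv, mul_assoc, h3]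

theorem fpf_commute [Finite T] {ρ : MulAut T} (h3 : ∀ y, ρ (ρ (ρ y)) = y)
    (hfp : ∀ y, ρ y = y → y = 1) (y : T) : y * ρ y = ρ y * y := by
  have h1 := fpf_prod_eq_one h3 hfp y
  have h2 : y * ρ (ρ y) * ρ y = 1 := by
    have hfp2 : ∀ z, (ρ.trans ρ) z = z → z = 1 := fun z hz => by
      simp only [MulEquiv.trans_apply] at hz
      have := congrArg ρ hz
      rw [h3] at this
      exact hfp z this.symm
    have := fpf_prod_eq_one (ρ := ρ.trans ρ) (fun z => by simp [h3]) hfp2 y
    simpa [h3] using this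
  have e1 : ρ (ρ y) = (y * ρ y)⁻¹ := eq_inv_of_mul_eq_one_right h1
  rw [e1] at h2
  calc y * ρ y = ρ y * (y * (y * ρ y)⁻¹ * ρ y)⁻¹ * y := by group
    _ = ρ y * y := by rw [h2, inv_one, mul_one]

/-- The commutator. -/
def comm' (u w : T) : T := u * w * u⁻¹ * w⁻¹

section Central

variable {Z : Subgroup T} (hZc : ∀ z ∈ Z, ∀ t : T, z * t = t * z) (hcm : ∀ u w : T, comm' u w ∈ Z)
  (hZ2 : ∀ z ∈ Z, z * z = 1)

theorem mul_eq_comm'_mul (u w : T) : u * w = comm' u w * (w * u) := by unfold comm'; group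

theorem comm'_eq_one_iff (u w : T) : comm' u w = 1 ↔ u * w = w * u := by
  constructor
  · intro h; rw [mul_eq_comm'_mul u w, h, one_mul]
  · intro h; simp [comm', h]

theorem map_comm' (f : MulAut T) (u w : T) : f (comm' u w) = comm' (f u) (f w) := by
  simp [comm']

include hZc hcm hZ2 in
theorem comm'_symm (u w : T) : comm' w u = comm' u w := by
  have h1 : comm' w u = (comm' u w)⁻¹ := by unfold comm'; group
  rw [h1]
  exact inv_eq_of_mul_eq_one_right (hZ2 _ (hcm u w))

include hZc hcm in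
theorem comm'_mul_left (u v w : T) : comm' (u * v) w = comm' u w * comm' v w := by
  have h1 : comm' (u * v) w = u * comm' v w * (w * u⁻¹ * w⁻¹) := by unfold comm'; group
  rw [h1, ← hZc _ (hcm v w) u, mul_assoc]
  have h2 : u * (w * u⁻¹ * w⁻¹) = comm' u w := by unfold comm'; group
  rw [h2]
  exact hZc _ (hcm v w) _

include hZc hcm in
theorem comm'_mul_right (u v w : T) : comm' u (v * w) = comm' u v * comm' u w := by
  have h1 : comm' u (v * w) = u * v * u⁻¹ * comm' u w * v⁻¹ := by unfold comm'; group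
  rw [h1, mul_assoc, hZc _ (hcm u w) v⁻¹, ← mul_assoc]
  rfl

include hZc hcm in
theorem sq_mul' (u w : T) : u * w * (u * w) = comm' w u * (u * u * (w * w)) := by
  have h1 : u * w * (u * w) = u * (comm' w u * (u * w)) * w := by unfold comm'; group
  rw [h1, ← mul_assoc u, ← hZc _ (hcm w u) u]
  simp only [mul_assoc]

include hZc hcm hZ2 in
theorem comm'_rho [Finite T] {ρ : MulAut T} (h3 : ∀ y, ρ (ρ (ρ y)) = y)
    (hfp : ∀ y, ρ y = y → y = 1) (u v : T) : comm' u (ρ v) = ρ (ρ (comm' u v)) := by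
  have hc : ∀ a b : T, comm' a b * comm' a b = 1 := fun a b => hZ2 _ (hcm a b)
  have hA : ∀ a : T, comm' u a * comm' u (ρ a) * comm' u (ρ (ρ a)) = 1 := fun a => by
    rw [← comm'_mul_right hZc hcm, ← comm'_mul_right hZc hcm, fpf_prod_eq_one h3 hfp]
    simp [comm']
  have hB : comm' u v * comm' (ρ u) v * comm' (ρ (ρ u)) v = 1 := by
    rw [← comm'_mul_left hZc hcm, ← comm'_mul_left hZc hcm, fpf_prod_eq_one h3 hfp]
    simp [comm']
  have e1 : comm' (ρ u) v = ρ (comm' u (ρ (ρ v))) := by rw [map_comm', h3]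
  have e2 : comm' (ρ (ρ u)) v = ρ (ρ (comm' u (ρ v))) := by rw [map_comm', map_comm', h3]
  rw [e1, e2] at hB
  set c := comm' u v with hcdef
  set d := comm' u (ρ v) with hddef
  have hd' : comm' u (ρ (ρ v)) = c * d := by
    have h1 := hA v
    rw [← hcdef, ← hddef] at h1
    rw [eq_inv_of_mul_eq_one_right h1]
    exact inv_eq_of_mul_eq_one_right (by
      rw [mul_assoc, ← mul_assoc d, ← hZc _ (hcm u v) d, mul_assoc c d, hc u (ρ v), mul_one, hc u v])
  rw [hd', map_mul] at hB
  have h2 : ρ d * ρ (ρ d) = d := by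
    have h1 := fpf_prod_eq_one h3 hfp d
    rw [mul_assoc] at h1
    rw [eq_inv_of_mul_eq_one_right h1]
    exact inv_eq_of_mul_eq_one_right (hc u (ρ v))
  have h3' : c * ρ c * d = 1 := by
    calc c * ρ c * d = c * ρ c * (ρ d * ρ (ρ d)) := by rw [h2]
      _ = c * (ρ c * ρ d) * ρ (ρ d) := by simp only [mul_assoc]
      _ = 1 := hB
  calc d = (c * ρ c)⁻¹ := eq_inv_of_mul_eq_one_right h3'
    _ = ρ (ρ c) := inv_eq_of_mul_eq_one_right (fpf_prod_eq_one h3 hfp c)

end Central

/-- Powers of two that are at most `64` and `1 mod 3`. -/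
theorem pow_two_cases {c : ℕ} (hd : c ∣ 64) (hm : c % 3 = 1) : c = 1 ∨ c = 4 ∨ c = 16 ∨ c = 64 := by
  have hle : c ≤ 64 := Nat.le_of_dvd (by norm_num) hd
  interval_cases c <;> omega

theorem card_modEq_fixed {α : Type*} [Finite α] (g : α → α) (h3 : ∀ a, g (g (g a)) = a) :
    Nat.card α % 3 = Nat.card {a : α // g a = a} % 3 := by
  classical
  cases nonempty_fintype α
  haveI : Fact (Nat.Prime 3) := ⟨Nat.prime_three⟩
  let σ : Equiv.Perm α := ⟨g, fun a => g (g a), h3, h3⟩
  have hσ : σ ^ 3 ^ 1 = 1 := by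
    ext a
    show (σ ^ 3) a = a
    exact h3 a
  have hmod := Equiv.Perm.card_compl_support_modEq hσ
  rw [Nat.card_eq_fintype_card, Nat.card_eq_fintype_card]
  have hset : Fintype.card {a : α // g a = a} = σ.supportᶜ.card := by
    rw [Fintype.card_subtype]
    congr 1
    ext a
    simp [σ]
  rw [hset]
  exact hmod.symm

theorem card_fpf_mod {ρ : MulAut T} [Finite T] (h3 : ∀ y, ρ (ρ (ρ y)) = y)
    (hfp : ∀ y, ρ y = y → y = 1) {S : Subgroup T} (hS : ∀ y ∈ S, ρ y ∈ S) : Nat.card S % 3 = 1 := by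
  rw [card_modEq_fixed (fun a : S => (⟨ρ a, hS a a.2⟩ : S)) (fun a => Subtype.ext (h3 a))]
  have : Nat.card {a : S // (⟨ρ a, hS a a.2⟩ : S) = a} = 1 := by
    rw [Nat.card_eq_one_iff_unique]
    refine ⟨⟨fun a b => ?_⟩, ⟨⟨1, Subtype.ext (map_one ρ)⟩⟩⟩
    apply Subtype.ext; apply Subtype.ext
    rw [hfp _ (congrArg Subtype.val a.2), hfp _ (congrArg Subtype.val b.2)]
  rw [this]

/-- A fixed-point-free automorphism stays fixed-point-free modulo a central invariant subgroup. -/
theorem fpf_mod_central [Finite T] {ρ : MulAut T} (hfp : ∀ y, ρ y = y → y = 1) {K : Subgroup T}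
    (hK : ∀ k ∈ K, ∀ t : T, k * t = t * k) (hKρ : ∀ k ∈ K, ρ k ∈ K) {u : T} (hu : u⁻¹ * ρ u ∈ K) :
    u ∈ K := by
  let φ : K → K := fun k => ⟨(k : T)⁻¹ * ρ k, mul_mem (inv_mem k.2) (hKρ _ k.2)⟩
  have hinj : Function.Injective φ := by
    intro a b hab
    have h := congrArg Subtype.val hab
    simp only [φ] at h
    have h1 : ρ ((a : T) * (b : T)⁻¹) = (a : T) * (b : T)⁻¹ := by
      rw [map_mul, map_inv, mul_inv_eq_iff_eq_mul]
      calc ρ a = (a : T) * ((a : T)⁻¹ * ρ a) := by group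
        _ = (a : T) * ((b : T)⁻¹ * ρ b) := by rw [h]
        _ = (a : T) * (b : T)⁻¹ * ρ b := by group
    exact Subtype.ext (mul_inv_eq_one.mp (hfp _ h1))
  obtain ⟨k, hk⟩ := Finite.surjective_of_injective hinj ⟨_, hu⟩
  have hk' : (k : T)⁻¹ * ρ k = u⁻¹ * ρ u := congrArg Subtype.val hk
  have h1 : ρ (u * (k : T)⁻¹) = u * (k : T)⁻¹ := by
    rw [map_mul, map_inv, mul_inv_eq_iff_eq_mul]
    calc ρ u = u * (u⁻¹ * ρ u) := by group
      _ = u * ((k : T)⁻¹ * ρ k) := by rw [hk']
      _ = u * (k : T)⁻¹ * ρ k := by group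
  rw [mul_inv_eq_one.mp (hfp _ h1)]
  exact k.2

/-- A group with a central invariant subgroup of index four and a fixed-point-free automorphism of
order three is abelian. -/
theorem comm_of_index_four [Finite T] {ρ : MulAut T} (h3 : ∀ y, ρ (ρ (ρ y)) = y)
    (hfp : ∀ y, ρ y = y → y = 1) {K : Subgroup T}
    (hK : ∀ k ∈ K, ∀ t : T, k * t = t * k) (hKρ : ∀ k ∈ K, ρ k ∈ K) (h4 : K.index = 4) (g h : T) :
    g * h = h * g := by
  have hρ' : ∀ a, ρ a ∈ K → a ∈ K := fun a ha => by rw [← h3 a]; exact hKρ _ (hKρ _ ha)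
  haveI : K.Normal := ⟨fun k hk t => by rwa [← hK k hk t, mul_inv_cancel_right]⟩
  obtain ⟨u, hu⟩ : ∃ u, u ∉ K := by
    by_contra hall
    push Not at hall
    rw [show K = ⊤ from eq_top_iff.mpr (fun y _ => hall y), Subgroup.index_top] at h4
    omega
  let f : Fin 4 → T := ![1, u, ρ u, ρ (ρ u)]
  have h01 : (1 : T)⁻¹ * u ∉ K := by simpa using hu
  have h02 : (1 : T)⁻¹ * ρ u ∉ K := fun hh => hu (hρ' _ (by simpa using hh))
  have h03 : (1 : T)⁻¹ * ρ (ρ u) ∉ K := fun hh => hu (hρ' _ (hρ' _ (by simpa using hh)))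
  have h12 : u⁻¹ * ρ u ∉ K := fun hh => hu (fpf_mod_central hfp hK hKρ hh)
  have h23 : (ρ u)⁻¹ * ρ (ρ u) ∉ K := fun hh => h12 (hρ' _ (by rwa [map_mul, map_inv]))
  have h31 : (ρ (ρ u))⁻¹ * u ∉ K := fun hh => h23 (hρ' _ (by rwa [map_mul, map_inv, h3]))
  have hinj : Function.Injective fun i => (QuotientGroup.mk (f i) : T ⧸ K) := by
    intro i j hij
    have hij' := QuotientGroup.eq.mp hij
    have hji' := QuotientGroup.eq.mp hij.symm
    fin_cases i <;> fin_cases j <;>
      first
        | rfl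
        | exact absurd hij' h01
        | exact absurd hji' h01
        | exact absurd hij' h02
        | exact absurd hji' h02
        | exact absurd hij' h03
        | exact absurd hji' h03
        | exact absurd hij' h12
        | exact absurd hji' h12
        | exact absurd hij' h23
        | exact absurd hji' h23
        | exact absurd hij' h31
        | exact absurd hji' h31
  have hsurj := ((Nat.bijective_iff_injective_and_card _).mpr ⟨hinj, by
    rw [Nat.card_fin, ← h4]; rfl⟩).2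
  have hdec : ∀ y : T, ∃ i, ∃ k ∈ K, y = f i * k := fun y => by
    obtain ⟨i, hi⟩ := hsurj (QuotientGroup.mk y)
    exact ⟨i, _, QuotientGroup.eq.mp hi, by group⟩
  have hc1 := fpf_commute h3 hfp u
  have hc2 : ρ u * ρ (ρ u) = ρ (ρ u) * ρ u := fpf_commute h3 hfp (ρ u)
  have hc3 : ρ (ρ u) * u = u * ρ (ρ u) := by
    have := fpf_commute h3 hfp (ρ (ρ u)); rwa [h3] at this
  have hff : ∀ i j, Commute (f i) (f j) := by
    intro i j
    fin_cases i <;> fin_cases j <;>
      first
        | exact Commute.refl _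
        | exact Commute.one_left _
        | exact Commute.one_right _
        | exact hc1
        | exact hc1.symm
        | exact hc2
        | exact hc2.symm
        | exact hc3
        | exact hc3.symm
  obtain ⟨i, k, hk, rfl⟩ := hdec g
  obtain ⟨j, l, hl, rfl⟩ := hdec h
  exact (((hff i j).mul_right (fun_comm hK hl (f i)))).mul_left
    ((hK k hk _ : Commute k (f j * l))) |>.eq
where
  fun_comm {K : Subgroup T} (hK : ∀ k ∈ K, ∀ t : T, k * t = t * k) {l : T} (hl : l ∈ K) (a : T) :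
      Commute a l := (hK l hl a).symm

/-- The structure of a nonabelian group of order `64` with a fixed-point-free automorphism of
order three. -/
theorem structure_sixty_four [Finite T] (hT : Nat.card T = 64) {g h : T} (hgh : g * h ≠ h * g)
    {ρ : MulAut T} (h3 : ∀ y, ρ (ρ (ρ y)) = y) (hfp : ∀ y, ρ y = y → y = 1) :
    Nat.card (Subgroup.center T) = 4 ∧
      (∀ t : T, t * t ∈ Subgroup.center T) ∧ (∀ z ∈ Subgroup.center T, z * z = 1) := by
  haveI : Fact (Nat.Prime 2) := ⟨Nat.prime_two⟩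
  set Z := Subgroup.center T with hZdef
  have hZc : ∀ z ∈ Z, ∀ t : T, z * t = t * z := fun z hz t => (Subgroup.mem_center_iff.mp hz t).symm
  have hZρ : ∀ z ∈ Z, ρ z ∈ Z := fun z hz => by
    rw [Subgroup.mem_center_iff]
    intro t
    obtain ⟨t', rfl⟩ := ρ.surjective t
    rw [← map_mul, ← map_mul, Subgroup.mem_center_iff.mp hz t']
  have hP : IsPGroup 2 T := IsPGroup.of_card (n := 6) (by rw [hT]; norm_num)
  haveI : Nontrivial T := Finite.one_lt_card_iff_nontrivial.mp (by omega)
  have hne : Z ≠ ⊥ := by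
    haveI := IsPGroup.center_nontrivial hP
    exact Subgroup.nontrivial_iff_ne_bot Z |>.mp inferInstance
  have hZ4 : Nat.card Z = 4 := by
    have hd : Nat.card Z ∣ 64 := hT ▸ Subgroup.card_subgroup_dvd_card Z
    rcases pow_two_cases hd (card_fpf_mod h3 hfp hZρ) with h1 | h1 | h1 | h1
    · exact absurd (Subgroup.card_eq_one.mp h1) hne
    · exact h1
    · exfalso
      have := Z.card_mul_index
      rw [h1, hT] at this
      exact hgh (comm_of_index_four h3 hfp hZc hZρ (by omega) g h)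
    · exfalso
      have htop : Z = ⊤ := Subgroup.eq_top_of_card_eq _ (by rw [h1, hT])
      exact hgh (hZc g (htop ▸ Subgroup.mem_top g) h)
  have hZ2 : ∀ z ∈ Z, z * z = 1 := by
    intro z hz
    by_contra hzz
    have hz4 : orderOf z ∣ 4 := hZ4 ▸ Subgroup.orderOf_dvd_natCard Z hz
    have hord : orderOf z = 4 := by
      rcases (Nat.dvd_prime_pow Nat.prime_two).mp (show orderOf z ∣ 2 ^ 2 from hz4) with ⟨i, hi, hzi⟩
      interval_cases i
      · exact absurd (show z * z = 1 by rw [orderOf_eq_one_iff.mp (show orderOf z = 1 by simpa using hzi), one_mul]) hzz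
      · exact absurd (show z * z = 1 by rw [← sq]; exact (by simpa using hzi : orderOf z = 2) ▸ pow_orderOf_eq_one z) hzz
      · simpa using hzi
    have hle : Subgroup.zpowers z = Z := Subgroup.eq_of_le_of_card_ge
      ((Subgroup.zpowers_le).mpr hz) (by rw [hZ4, Nat.card_zpowers, hord])
    have hρz : ρ z ∈ Subgroup.zpowers z := hle.symm ▸ hZρ z hz
    obtain ⟨k, hk⟩ := hρz
    dsimp only at hk
    have hfix : ρ (z * z) = z * z := by
      obtain ⟨r, hr⟩ | ⟨r, hr⟩ := Int.even_or_odd k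
      · exfalso
        have h1 : ρ z * ρ z = 1 := by
          rw [← hk, ← zpow_add, hr, show r + r + (r + r) = 4 * r by ring, zpow_mul]
          have : z ^ (4 : ℤ) = 1 := by
            rw [show (4 : ℤ) = ((4 : ℕ) : ℤ) from rfl, zpow_natCast, ← hord]; exact pow_orderOf_eq_one z
          rw [this, one_zpow]
        rw [← map_mul] at h1
        exact hzz (ρ.injective (h1.trans (map_one ρ).symm))
      · rw [map_mul, ← hk, ← zpow_add, hr, show 2 * r + 1 + (2 * r + 1) = 4 * r + 2 by ring, zpow_add, zpow_mul]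
        have : z ^ (4 : ℤ) = 1 := by
          rw [show (4 : ℤ) = ((4 : ℕ) : ℤ) from rfl, zpow_natCast, ← hord]; exact pow_orderOf_eq_one z
        rw [this, one_zpow, one_mul, show (2 : ℤ) = ((2 : ℕ) : ℤ) from rfl, zpow_natCast, sq]
    exact hzz (hfp _ hfix)
  -- the quotient is abelian
  let ρb : MulAut (T ⧸ Z) := QuotientGroup.congr Z Z ρ (by
    ext z
    constructor
    · rintro ⟨w, hw, rfl⟩; exact hZρ w hw
    · intro hz; exact ⟨ρ (ρ z), hZρ _ (hZρ _ hz), h3 z⟩)
  have hρb : ∀ t : T, ρb (t : T ⧸ Z) = ((ρ t : T) : T ⧸ Z) := fun t => rfl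
  have h3b : ∀ y, ρb (ρb (ρb y)) = y := fun y => by
    induction y using QuotientGroup.induction_on with
    | H t => rw [hρb, hρb, hρb, h3]
  have hfpb : ∀ y, ρb y = y → y = 1 := fun y => by
    induction y using QuotientGroup.induction_on with
    | H t =>
      intro ht
      rw [hρb] at ht
      exact (QuotientGroup.eq_one_iff t).mpr
        (fpf_mod_central hfp hZc hZρ (QuotientGroup.eq.mp ht.symm))
  have hQ : Nat.card (T ⧸ Z) = 16 := by
    have := Z.card_mul_index
    rw [hZ4, hT, Subgroup.index] at this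
    omega
  have hQcomm : ∀ a b : T ⧸ Z, a * b = b * a := by
    set C := Subgroup.center (T ⧸ Z) with hCdef
    have hCc : ∀ z ∈ C, ∀ t, z * t = t * z := fun z hz t => (Subgroup.mem_center_iff.mp hz t).symm
    have hCρ : ∀ z ∈ C, ρb z ∈ C := fun z hz => by
      rw [Subgroup.mem_center_iff]
      intro t
      obtain ⟨t', rfl⟩ := ρb.surjective t
      rw [← map_mul, ← map_mul, Subgroup.mem_center_iff.mp hz t']
    have hd : Nat.card C ∣ 16 := hQ ▸ Subgroup.card_subgroup_dvd_card C
    have hd' : Nat.card C ∣ 64 := hd.trans (by norm_num)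
    haveI : Nontrivial (T ⧸ Z) := Finite.one_lt_card_iff_nontrivial.mp (by omega)
    rcases pow_two_cases hd' (card_fpf_mod h3b hfpb hCρ) with h1 | h1 | h1 | h1
    · exfalso
      haveI := IsPGroup.center_nontrivial (hP.to_quotient Z)
      exact (Subgroup.nontrivial_iff_ne_bot C).mp inferInstance (Subgroup.card_eq_one.mp h1)
    · have := C.card_mul_index
      rw [h1, hQ] at this
      exact comm_of_index_four h3b hfpb hCc hCρ (by omega)
    · have htop : C = ⊤ := Subgroup.eq_top_of_card_eq _ (by rw [h1, hQ])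
      exact fun a b => hCc a (htop ▸ Subgroup.mem_top a) b
    · have := Nat.le_of_dvd (by norm_num) hd
      omega
  have hcm : ∀ u w : T, comm' u w ∈ Z := fun u w => by
    rw [← QuotientGroup.eq_one_iff]
    simp [comm', hQcomm (u : T ⧸ Z) w]
  refine ⟨hZ4, fun t => ?_, hZ2⟩
  rw [Subgroup.mem_center_iff]
  intro w
  have h1 : comm' (t * t) w = 1 := by rw [comm'_mul_left hZc hcm, hZ2 _ (hcm t w)]
  exact ((comm'_eq_one_iff _ _).mp h1).symm

end CfsgLib.StdForm
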