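import Mathlib
import Cfsg.Agent.Lib.TwoFusion.DihedralIso
import Cfsg.Agent.Lib.Solvable.UniqueInvolution

/-!
The nonabelian groups of order eight.
-/

set_option autoImplicit false

namespace CfsgLib.StdForm

variable {G : Type*} [Group G] [Finite G]

/-- A nonabelian group of order eight is dihedral or quaternion. -/
theorem dihedral_or_quaternion_of_card_eight (hc : Nat.card G = 8) {g h : G} (hgh : g * h ≠ h * g) :
    Nonempty (G ≃* DihedralGroup 4) ∨ Nonempty (G ≃* QuaternionGroup 2) := by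
  classical
  have hord : ∀ y : G, orderOf y = 1 ∨ orderOf y = 2 ∨ orderOf y = 4 ∨ orderOf y = 8 := by
    intro y
    have h1 : orderOf y ∣ 2 ^ 3 := by
      rw [show (2 : ℕ) ^ 3 = Nat.card G by omega]; exact orderOf_dvd_natCard y
    obtain ⟨i, hi, hy⟩ := (Nat.dvd_prime_pow Nat.prime_two).mp h1
    interval_cases i <;> simp [hy]
  obtain ⟨a, ha⟩ : ∃ a : G, orderOf a = 4 := by
    by_contra hno
    push Not at hno
    by_cases h8 : ∃ y : G, orderOf y = 8
    · obtain ⟨y, hy⟩ := h8
      have htop : Subgroup.zpowers y = ⊤ :=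
        Subgroup.eq_top_of_card_eq _ (by rw [Nat.card_zpowers, hy, hc])
      obtain ⟨i, rfl⟩ : g ∈ Subgroup.zpowers y := htop ▸ Subgroup.mem_top g
      obtain ⟨j, rfl⟩ : h ∈ Subgroup.zpowers y := htop ▸ Subgroup.mem_top h
      exact hgh ((Commute.refl y).zpow_zpow i j).eq
    · have h2 : ∀ y : G, y * y = 1 := by
        intro y
        rcases hord y with h1 | h1 | h1 | h1
        · rw [orderOf_eq_one_iff.mp h1, one_mul]
        · rw [← sq]; exact h1 ▸ pow_orderOf_eq_one y
        · exact absurd h1 (hno y)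
        · exact absurd ⟨y, h1⟩ h8
      have hi : ∀ y : G, y⁻¹ = y := fun y => inv_eq_of_mul_eq_one_right (h2 y)
      apply hgh
      calc g * h = (g * h)⁻¹ := (hi _).symm
        _ = h * g := by rw [mul_inv_rev, hi, hi]
  set A := Subgroup.zpowers a with hA
  have hAcard : Nat.card A = 4 := by rw [hA, Nat.card_zpowers, ha]
  have hidx : A.index = 2 := by
    have h1 := A.card_mul_index
    rw [hAcard, hc] at h1
    omega
  haveI : A.Normal := Subgroup.normal_of_index_eq_two hidx
  obtain ⟨b, hb⟩ : ∃ b, b ∉ A := by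
    by_contra hall
    push Not at hall
    have : A = ⊤ := eq_top_iff.mpr fun y _ => hall y
    rw [this, Subgroup.index_top] at hidx
    omega
  have hcover : ∀ y : G, ∃ i : ℤ, y = a ^ i ∨ y = b * a ^ i := by
    intro y
    by_cases hy : y ∈ A
    · obtain ⟨i, rfl⟩ := hy; exact ⟨i, Or.inl rfl⟩
    · have hmem : b⁻¹ * y ∈ A := (Subgroup.mul_mem_iff_of_index_two hidx).mpr
        (iff_of_false (fun h1 => hb (by simpa using inv_mem h1)) hy)
      obtain ⟨i, hi⟩ := hmem
      exact ⟨i, Or.inr (by dsimp only at hi; rw [hi, mul_inv_cancel_left])⟩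
  have ha4 : a ^ 4 = 1 := ha ▸ pow_orderOf_eq_one a
  have hne : ∀ k, k < 4 → 0 < k → a ^ k ≠ 1 := fun k hk hk0 =>
    pow_ne_one_of_lt_orderOf hk0.ne' (by omega)
  have hconjA : b * a * b⁻¹ ∈ A := Subgroup.Normal.conj_mem inferInstance a (Subgroup.mem_zpowers a) b
  obtain ⟨k, hk, hk'⟩ : ∃ k, k < 4 ∧ a ^ k = b * a * b⁻¹ := by
    have := (mem_zpowers_iff_mem_range_orderOf (x := a)).mp hconjA
    simpa [ha] using this
  have hordc : orderOf (b * a * b⁻¹) = 4 := by
    rw [← ha]
    exact orderOf_injective (MulAut.conj b).toMonoidHom (MulAut.conj b).injective a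
  have hinv : b * a * b⁻¹ = a⁻¹ := by
    interval_cases k
    · rw [← hk', pow_zero, orderOf_one] at hordc; omega
    · exfalso
      rw [pow_one] at hk'
      have hab : Commute a b := by
        show a * b = b * a
        calc a * b = (b * a * b⁻¹) * b := by rw [← hk']
          _ = b * a := by group
      apply hgh
      obtain ⟨i, hg | hg⟩ := hcover g <;> obtain ⟨j, hh | hh⟩ := hcover h <;> subst hg hh
      · exact ((Commute.refl a).zpow_zpow i j).eq
      · exact ((hab.zpow_left i).mul_right ((Commute.refl a).zpow_zpow i j)).eq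
      · exact (((hab.zpow_left j).symm).mul_left ((Commute.refl a).zpow_zpow i j)).eq
      · exact (((Commute.refl b).mul_right (hab.zpow_left j).symm).mul_left
          ((hab.zpow_left i).mul_right ((Commute.refl a).zpow_zpow i j))).eq
    · exfalso
      have hsq2 : orderOf (a ^ 2) ∣ 2 := orderOf_dvd_of_pow_eq_one (by rw [← pow_mul, ha4])
      rw [hk', hordc] at hsq2
      exact absurd (Nat.le_of_dvd (by norm_num) hsq2) (by norm_num)
    · rw [← hk', eq_inv_iff_mul_eq_one, ← pow_succ, ha4]
  have hbb : b * b ∈ A := Subgroup.mul_self_mem_of_index_two hidx b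
  obtain ⟨m, hm, hm'⟩ : ∃ m, m < 4 ∧ a ^ m = b * b := by
    have := (mem_zpowers_iff_mem_range_orderOf (x := a)).mp hbb
    simpa [ha] using this
  have hm2 : a ^ m * a ^ m = 1 := by
    have h1 : b * a ^ m * b⁻¹ = (a ^ m)⁻¹ := by rw [← conj_pow, hinv, inv_pow]
    rw [hm'] at h1 ⊢
    have h3 : b * b = (b * b)⁻¹ := by
      calc b * b = b * (b * b) * b⁻¹ := by group
        _ = _ := h1
    nth_rewrite 2 [h3]
    rw [mul_inv_cancel]
  rw [← pow_add] at hm2
  interval_cases m
  · left
    rw [pow_zero] at hm'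
    obtain ⟨e⟩ := CfsgLib.TwoFusion.exists_dihedral_mulEquiv (m := 4) (by norm_num) ha hm'.symm hinv hb ⊤
      (fun y => ⟨fun _ => hcover y, fun _ => Subgroup.mem_top y⟩)
    exact ⟨Subgroup.topEquiv.symm.trans e⟩
  · exact absurd hm2 (hne 2 (by norm_num) (by norm_num))
  · right
    exact CfsgLib.Solvable.nonempty_mulEquiv_quaternionGroup (n := 2) a b ha hinv
      (by rw [sq, hm']) hb hidx
  · rw [show 3 + 3 = 4 + 2 from rfl, pow_add, ha4, one_mul] at hm2
    exact absurd hm2 (hne 2 (by norm_num) (by norm_num))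

end CfsgLib.StdForm
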