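import Mathlib
import Cfsg.Agent.Lib.Char.Burnside
import Cfsg.Agent.Lib.PermGen.SwapClosure

/-!
Anisotropic quadratic maps from an elementary abelian 2-group into a group of order at most 4:
the isometry group is solvable.
-/

set_option autoImplicit false

namespace CfsgLib.StdForm

/-- Solvable kernel and solvable range give a solvable group. -/
theorem isSolvable_of_ker_range {G H : Type*} [Group G] [Group H] (f : G →* H)
    (hk : Group.IsSolvable ↥f.ker) (hr : Group.IsSolvable ↥f.range) : Group.IsSolvable G :=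
  Group.isSolvable_of_ker_le_range f.ker.subtype f.rangeRestrict
    (by rw [MonoidHom.ker_rangeRestrict, Subgroup.range_subtype])

theorem isSolvable_subgroup {G : Type*} [Group G] (hG : Group.IsSolvable G) (H : Subgroup G) :
    Group.IsSolvable ↥H :=
  Group.isSolvable_of_isSolvable_injective H.subtype_injective

theorem isSolvable_perm_of_card_le_four (α : Type*) [Finite α] (h : Nat.card α ≤ 4) :
    Group.IsSolvable (Equiv.Perm α) := by
  classical
  have := Fintype.ofFinite α
  obtain ⟨e⟩ : Nonempty (α ↪ Fin 4) := by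
    apply Function.Embedding.nonempty_of_card_le
    simpa [Nat.card_eq_fintype_card] using h
  haveI := CfsgLib.PermGen.perm_four_isSolvable
  exact Group.isSolvable_of_isSolvable_injective (Equiv.Perm.viaEmbeddingHom_injective e)

theorem isSolvable_mulAut_of_card_le_four (V : Type*) [Group V] [Finite V] (h : Nat.card V ≤ 4) :
    Group.IsSolvable (MulAut V) := by
  haveI := isSolvable_perm_of_card_le_four V h
  refine Group.isSolvable_of_isSolvable_injective (f := MulAut.toPerm V) ?_
  intro a b hab
  exact MulEquiv.ext fun v => Equiv.ext_iff.mp hab v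

/-- A group of automorphisms of an abelian group stabilising a subgroup `W` with small quotient is
solvable if its restriction to `W` is. -/
theorem isSolvable_of_invariant {A V : Type*} [Group A] [CommGroup V] [Finite V]
    (ρ : A →* MulAut V) (hρ : Function.Injective ρ) (W : Subgroup V)
    (hW : ∀ a, ∀ w ∈ W, ρ a w ∈ W) (hq : Nat.card (V ⧸ W) ≤ 4)
    (hsol : ∀ φ : A →* MulAut ↥W, (∀ a (w : ↥W), ((φ a w : ↥W) : V) = ρ a w) → Group.IsSolvable ↥φ.range) :
    Group.IsSolvable A := by
  let φ : A →* MulAut ↥W :=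
    { toFun := fun a =>
        { toFun := fun w => ⟨ρ a w, hW a w w.2⟩
          invFun := fun w => ⟨ρ a⁻¹ w, hW a⁻¹ w w.2⟩
          left_inv := fun w => Subtype.ext (by simp)
          right_inv := fun w => Subtype.ext (by simp)
          map_mul' := fun x y => Subtype.ext (by simp) }
      map_one' := by ext w; simp
      map_mul' := fun a b => by ext w; simp }
  have hmap : ∀ a, W.map (ρ a).toMonoidHom = W := by
    intro a
    refine le_antisymm (Subgroup.map_le_iff_le_comap.mpr fun w hw => hW a w hw) fun w hw => ?_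
    exact Subgroup.mem_map.mpr ⟨ρ a⁻¹ w, hW a⁻¹ w hw, by simp⟩
  let ψ : A →* MulAut (V ⧸ W) :=
    { toFun := fun a => QuotientGroup.congr W W (ρ a) (hmap a)
      map_one' := by
        ext v; induction v using QuotientGroup.induction_on with
        | H v => simp
      map_mul' := fun a b => by
        ext v; induction v using QuotientGroup.induction_on with
        | H v =>
          simp only [map_mul, MulAut.mul_apply]
          rfl }
  refine isSolvable_of_ker_range φ ?_ (hsol φ fun a w => rfl)
  refine isSolvable_of_ker_range (ψ.comp φ.ker.subtype) ?_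
    (isSolvable_subgroup (isSolvable_mulAut_of_card_le_four _ hq) _)
  let K := (ψ.comp φ.ker.subtype).ker
  have hfix : ∀ (a : ↥K) (w : V), w ∈ W → ρ ((a : ↥φ.ker) : A) w = w := by
    intro a w hw
    have h1 : φ ((a : ↥φ.ker) : A) = 1 := (a : ↥φ.ker).2
    simpa [φ] using congrArg (fun z : ↥W => (z : V)) (MulEquiv.congr_fun h1 ⟨w, hw⟩)
  have hdisp : ∀ (a : ↥K) (v : V), v⁻¹ * ρ ((a : ↥φ.ker) : A) v ∈ W := by
    intro a v
    have h1 : ψ ((a : ↥φ.ker) : A) = 1 := a.2
    have h2 := MulEquiv.congr_fun h1 (QuotientGroup.mk v)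
    simp [ψ] at h2
    exact QuotientGroup.eq.mp h2.symm
  refine Group.isSolvable_of_comm fun a b => Subtype.ext (Subtype.ext (hρ (MulEquiv.ext fun v => ?_)))
  show ρ (((a : ↥φ.ker) : A) * ((b : ↥φ.ker) : A)) v = ρ (((b : ↥φ.ker) : A) * ((a : ↥φ.ker) : A)) v
  obtain ⟨x, hx, hxe⟩ : ∃ x ∈ W, ρ ((a : ↥φ.ker) : A) v = v * x := ⟨_, hdisp a v, (mul_inv_cancel_left _ _).symm⟩
  obtain ⟨y, hy, hye⟩ : ∃ y ∈ W, ρ ((b : ↥φ.ker) : A) v = v * y := ⟨_, hdisp b v, (mul_inv_cancel_left _ _).symm⟩
  simp only [map_mul, MulAut.mul_apply, hxe, hye, hfix a y hy, hfix b x hx]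
  ac_rfl

section Quad

variable {V E : Type*} [CommGroup V] [CommGroup E] (q : V → E)

/-- The polar map of `q`. -/
def qPolar (v w : V) : E := q (v * w) * q v * q w

variable {q} [Finite V] [Finite E] (hV2 : ∀ v : V, v * v = 1) (hE2 : ∀ e : E, e * e = 1) (hE4 : Nat.card E ≤ 4)
  (hbil : ∀ u v w : V, qPolar q (u * v) w = qPolar q u w * qPolar q v w)
  (hani : ∀ v : V, q v = 1 → v = 1)

omit [Finite V] [Finite E] in
theorem qPolar_comm (v w : V) : qPolar q v w = qPolar q w v := by
  simp only [qPolar, mul_comm w v]; ac_rfl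

omit [Finite V] [Finite E] in
include hbil in
theorem qPolar_bil_right (u v w : V) : qPolar q u (v * w) = qPolar q u v * qPolar q u w := by
  rw [qPolar_comm, hbil, qPolar_comm, qPolar_comm (q := q) w u]

omit [Finite V] [Finite E] in
include hbil in
theorem qPolar_one_left (w : V) : qPolar q 1 w = 1 := by
  have h := hbil 1 1 w
  rw [mul_one] at h
  exact mul_eq_left.mp h.symm

omit [Finite V] [Finite E] in
include hbil hE2 in
theorem q_one : q 1 = 1 := by
  have h := qPolar_one_left hbil (1 : V)
  simp only [qPolar, mul_one, hE2] at h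
  simpa using h

omit [Finite V] [Finite E] in
include hE2 in
theorem q_mul (v w : V) : q (v * w) = qPolar q v w * (q v * q w) := by
  simp only [qPolar]
  calc q (v * w) = q (v * w) * (q v * q v) * (q w * q w) := by simp [hE2]
    _ = _ := by ac_rfl

omit [Finite V] [Finite E] in
include hV2 hE2 hbil in
theorem qPolar_self (v : V) : qPolar q v v = 1 := by
  simp only [qPolar, hV2, q_one hE2 hbil, one_mul, hE2]

/-- The orthogonal of `v`. -/
def qPerp (hbil : ∀ u v w : V, qPolar q (u * v) w = qPolar q u w * qPolar q v w) (v : V) : Subgroup V :=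
  (MonoidHom.mk' (fun w => qPolar q v w) (fun a b => qPolar_bil_right hbil v a b)).ker

omit [Finite V] [Finite E] in
theorem mem_qPerp {v w : V} : w ∈ qPerp hbil v ↔ qPolar q v w = 1 := MonoidHom.mem_ker

include hE4 in
theorem card_le_four_mul_perp (v : V) : Nat.card V ≤ 4 * Nat.card ↥(qPerp hbil v) := by
  rw [Subgroup.card_eq_card_quotient_mul_card_subgroup (qPerp hbil v)]
  refine Nat.mul_le_mul_right _ ?_
  rw [qPerp, Nat.card_congr (QuotientGroup.quotientKerEquivRange _).toEquiv]
  exact (Subgroup.card_le_card_group _).trans hE4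

include hE4 in
theorem card_quotient_perp (v : V) : Nat.card (V ⧸ qPerp hbil v) ≤ 4 := by
  rw [qPerp, Nat.card_congr (QuotientGroup.quotientKerEquivRange _).toEquiv]
  exact (Subgroup.card_le_card_group _).trans hE4

omit [Finite V] in
include hE2 hE4 in
theorem mul_mem_pair {a x y : E} (ha : a ≠ 1) (hx : x ≠ 1 ∧ x ≠ a) (hy : y ≠ 1 ∧ y ≠ a) :
    x * y = 1 ∨ x * y = a := by
  by_contra h
  rw [not_or] at h
  have hxy : x ≠ y := fun e => h.1 (e ▸ hE2 x)
  have h1 : x * y ≠ x := fun e => hy.1 (mul_eq_left.mp e)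
  have h2 : x * y ≠ y := fun e => hx.1 (mul_eq_right.mp e)
  let f : Fin 5 → E := ![1, a, x, y, x * y]
  have hf : Function.Injective f := by
    intro i j hij
    revert hij
    fin_cases i <;> fin_cases j <;>
      simp [f, ha, ha.symm, hx.1, hx.2, hy.1, hy.2, hxy, hxy.symm, h.1, h.2, h1, h1.symm, h2, h2.symm,
        Ne.symm hx.1, Ne.symm hx.2, Ne.symm hy.1, Ne.symm hy.2, Ne.symm h.1, Ne.symm h.2]
  have := Nat.card_le_card_of_injective f hf
  simp at this
  omega

include hV2 hE2 hE4 hbil hani in
/-- A subgroup orthogonal to one of its nontrivial elements has order at most 8. -/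
theorem card_perp_le_eight {v : V} (hv : v ≠ 1) : Nat.card ↥(qPerp hbil v) ≤ 8 := by
  classical
  have hqv : q v ≠ 1 := fun h => hv (hani v h)
  have vinv : ∀ {a b : V}, a * b = 1 → b = a := fun {a b} h => mul_left_cancel (a := a) (h.trans (hV2 a).symm)
  -- elements of `v^⊥` with value in `{1, q v}`
  have low : ∀ x ∈ qPerp hbil v, q x = 1 ∨ q x = q v → x = 1 ∨ x = v := by
    intro x hx h
    rcases h with h | h
    · exact Or.inl (hani x h)
    · refine Or.inr (vinv (hani (v * x) ?_))
      rw [q_mul (q := q) hE2, (mem_qPerp hbil).mp hx, one_mul, h, hE2]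
  by_cases hsmall : ∀ x ∈ qPerp hbil v, x = 1 ∨ x = v
  · let f : ↥(qPerp hbil v) → Fin 2 := fun x => if (x : V) = 1 then 0 else 1
    have hf : Function.Injective f := by
      intro x y hxy
      apply Subtype.ext
      rcases hsmall x x.2 with hx | hx <;> rcases hsmall y y.2 with hy | hy <;>
        simp only [f, hx, hy] at hxy ⊢ <;> simp [hv] at hxy
    exact (Nat.card_le_card_of_injective f hf).trans (by simp)
  push Not at hsmall
  obtain ⟨w, hw, hw1, hwv⟩ := hsmall
  have hqw : q w ≠ 1 ∧ q w ≠ q v := ⟨fun h => (low w hw (Or.inl h)).elim hw1 hwv, fun h => (low w hw (Or.inr h)).elim hw1 hwv⟩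
  have four : ∀ x ∈ qPerp hbil v, (qPolar q w x = 1 ∨ qPolar q w x = q v) →
      x = 1 ∨ x = v ∨ x = w ∨ x = w * v := by
    intro x hx hb
    by_cases hqx : q x = 1 ∨ q x = q v
    · rcases low x hx hqx with h | h
      · exact Or.inl h
      · exact Or.inr (Or.inl h)
    rw [not_or] at hqx
    have hp : q w * q x = 1 ∨ q w * q x = q v := mul_mem_pair hE2 hE4 hqv hqw hqx
    have hwx : q (w * x) = 1 ∨ q (w * x) = q v := by
      rw [q_mul (q := q) hE2]
      rcases hb with hb | hb <;> rcases hp with hp | hp <;> simp [hb, hp, hE2]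
    rcases low _ ((qPerp hbil v).mul_mem hw hx) hwx with h | h
    · exact Or.inr (Or.inr (Or.inl (vinv h)))
    · refine Or.inr (Or.inr (Or.inr ?_))
      rw [← h, ← mul_assoc, hV2, one_mul]
  let S : Finset V := {1, v, w, w * v}
  by_cases hall : ∀ x ∈ qPerp hbil v, qPolar q w x = 1 ∨ qPolar q w x = q v
  · let f : ↥(qPerp hbil v) → ↥S := fun x => ⟨x, by simpa [S] using four x x.2 (hall x x.2)⟩
    have := Nat.card_le_card_of_injective f (fun a b h => Subtype.ext (congrArg (fun z : ↥S => (z : V)) h))
    rw [Nat.card_eq_fintype_card (α := ↥S), Fintype.card_coe] at this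
    have h4 : S.card ≤ 4 := Finset.card_le_four
    omega
  push Not at hall
  obtain ⟨x₀, hx₀, hx₀'⟩ := hall
  let T : Finset V := S ∪ S.image (fun s => x₀ * s)
  have hmem : ∀ x ∈ qPerp hbil v, x ∈ T := by
    intro x hx
    by_cases hb : qPolar q w x = 1 ∨ qPolar q w x = q v
    · exact Finset.mem_union_left _ (by simpa [S] using four x hx hb)
    · rw [not_or] at hb
      refine Finset.mem_union_right _ (Finset.mem_image.mpr ⟨x₀ * x, ?_, ?_⟩)
      · have := four (x₀ * x) ((qPerp hbil v).mul_mem hx₀ hx) (by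
          rw [qPolar_bil_right hbil]; exact mul_mem_pair hE2 hE4 hqv hx₀' hb)
        simpa [S] using this
      · rw [← mul_assoc, hV2, one_mul]
  let f : ↥(qPerp hbil v) → ↥T := fun x => ⟨x, hmem x x.2⟩
  have := Nat.card_le_card_of_injective f (fun a b h => Subtype.ext (congrArg (fun z : ↥T => (z : V)) h))
  rw [Nat.card_eq_fintype_card (α := ↥T), Fintype.card_coe] at this
  have h4 : S.card ≤ 4 := Finset.card_le_four
  have h5 : T.card ≤ S.card + (S.image (fun s => x₀ * s)).card := Finset.card_union_le _ _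
  have h6 : (S.image (fun s => x₀ * s)).card ≤ S.card := Finset.card_image_le
  omega

include hV2 hE2 hE4 hbil hani in
/-- The dimension bound. -/
theorem card_le_sixteen : Nat.card V ≤ 16 := by
  classical
  by_contra hlt
  haveI : Fact (Nat.Prime 2) := ⟨Nat.prime_two⟩
  obtain ⟨d, hd⟩ := IsPGroup.iff_card.mp (fun x : V => ⟨1, by simpa [sq] using hV2 x⟩ : IsPGroup 2 V)
  haveI : Nontrivial V := Finite.one_lt_card_iff_nontrivial.mp (by omega)
  have hb : ∀ v : V, v ≠ 1 → Nat.card ↥(qPerp hbil v) = 8 ∧ Nat.card V = 32 := by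
    intro v hv
    have h1 := card_le_four_mul_perp hE4 hbil v
    have h2 := card_perp_le_eight hV2 hE2 hE4 hbil hani hv
    have hd5 : d = 5 := by
      rw [hd] at h1 hlt
      by_contra hne
      rcases Nat.lt_or_ge d 5 with h | h
      · have := Nat.pow_le_pow_right (show 0 < 2 by norm_num) (show d ≤ 4 by omega)
        omega
      · have := Nat.pow_le_pow_right (show 0 < 2 by norm_num) (show 6 ≤ d by omega)
        omega
    rw [hd5] at hd
    exact ⟨by omega, hd⟩
  have := Fintype.ofFinite V
  have := Fintype.ofFinite E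
  let F : E → Finset V := fun e => Finset.univ.filter (fun v => q v = e)
  have hdeg : ∀ e f : E, e ≠ 1 → f ≠ 1 → f ≠ e → ∀ v ∈ F e, ((F f).filter (fun w => qPolar q v w = 1)).card = 3 := by
    intro e f he hf hfe v hv
    have hqv : q v = e := (Finset.mem_filter.mp hv).2
    have hv1 : v ≠ 1 := fun h => he (by rw [← hqv, h, q_one hE2 hbil])
    have hK := (hb v hv1).1
    let K : Finset V := Finset.univ.filter (fun w => qPolar q v w = 1)
    have hKc : K.card = 8 := by
      rw [← hK, Nat.card_eq_fintype_card, ← Fintype.card_coe]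
      exact Fintype.card_congr (Equiv.subtypeEquivRight (fun x => by simp [K, mem_qPerp hbil]))
    have hg : e * f ≠ 1 ∧ e * f ≠ e := ⟨fun h => hfe (mul_left_cancel (a := e) (h.trans (hE2 e).symm)), fun h => hf (mul_eq_left.mp h)⟩
    let A := (F f).filter (fun w => qPolar q v w = 1)
    let B := (F (e * f)).filter (fun w => qPolar q v w = 1)
    have hgf : e * f ≠ f := fun h => he (mul_eq_right.mp h)
    have hAB : A.card = B.card := by
      refine Finset.card_bij' (fun w _ => v * w) (fun w _ => v * w) ?_ ?_ ?_ ?_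
      · intro w hw
        simp only [A, B, F, Finset.mem_filter, Finset.mem_univ, true_and] at hw ⊢
        exact ⟨by rw [q_mul (q := q) hE2, hw.2, one_mul, hqv, hw.1], by rw [qPolar_bil_right hbil, qPolar_self hV2 hE2 hbil, hw.2, one_mul]⟩
      · intro w hw
        simp only [A, B, F, Finset.mem_filter, Finset.mem_univ, true_and] at hw ⊢
        exact ⟨by rw [q_mul (q := q) hE2, hw.2, one_mul, hqv, hw.1, ← mul_assoc, hE2, one_mul], by rw [qPolar_bil_right hbil, qPolar_self hV2 hE2 hbil, hw.2, one_mul]⟩
      · intro w _; rw [← mul_assoc, hV2, one_mul]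
      · intro w _; rw [← mul_assoc, hV2, one_mul]
    have hpart : K = ({1, v} : Finset V) ∪ (A ∪ B) := by
      ext w
      simp only [K, A, B, F, Finset.mem_filter, Finset.mem_univ, true_and, Finset.mem_union, Finset.mem_insert, Finset.mem_singleton]
      constructor
      · intro hw
        by_cases h1 : w = 1
        · exact Or.inl (Or.inl h1)
        by_cases h2 : w = v
        · exact Or.inl (Or.inr h2)
        have hqw : q w ≠ 1 := fun h => h1 (hani w h)
        have hqw' : q w ≠ e := fun h => h2 (mul_left_cancel (a := v) ((hani (v * w) (by rw [q_mul (q := q) hE2, hw, one_mul, hqv, h, hE2])).trans (hV2 v).symm))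
        rcases mul_mem_pair hE2 hE4 he ⟨hf, hfe⟩ ⟨hqw, hqw'⟩ with h | h
        · exact Or.inr (Or.inl ⟨(mul_left_cancel (a := f) (h.trans (hE2 f).symm)), hw⟩)
        · exact Or.inr (Or.inr ⟨by rw [← h, mul_comm (f * q w) f, ← mul_assoc, hE2, one_mul], hw⟩)
      · rintro ((rfl | rfl) | (⟨-, h⟩ | ⟨-, h⟩))
        · rw [qPolar_comm, qPolar_one_left hbil]
        · exact qPolar_self hV2 hE2 hbil _
        · exact h
        · exact h
    have hd1 : Disjoint A B := Finset.disjoint_left.mpr fun w h1 h2 => by
      simp only [A, B, F, Finset.mem_filter, Finset.mem_univ, true_and] at h1 h2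
      exact hgf (h2.1.symm.trans h1.1)
    have hd2 : Disjoint ({1, v} : Finset V) (A ∪ B) := Finset.disjoint_left.mpr fun w h1 h2 => by
      simp only [A, B, F, Finset.mem_filter, Finset.mem_univ, true_and, Finset.mem_union, Finset.mem_insert, Finset.mem_singleton] at h1 h2
      rcases h1 with rfl | rfl <;> rcases h2 with ⟨h, -⟩ | ⟨h, -⟩ <;> (try rw [q_one hE2 hbil] at h)
      · exact hf h.symm
      · exact hg.1 h.symm
      · exact hfe (h.symm.trans hqv)
      · exact hg.2 (h.symm.trans hqv)
    rw [hpart, Finset.card_union_of_disjoint hd2, Finset.card_union_of_disjoint hd1, Finset.card_pair (Ne.symm hv1), ← hAB] at hKc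
    show A.card = 3
    omega
  have hsym : ∀ e f : E, e ≠ 1 → f ≠ 1 → f ≠ e → (F e).card = (F f).card := by
    intro e f he hf hfe
    have key := Finset.sum_card_bipartiteAbove_eq_sum_card_bipartiteBelow (s := F e) (t := F f) (fun v w => qPolar q v w = 1)
    simp only [Finset.bipartiteAbove, Finset.bipartiteBelow] at key
    have h2 : ∀ w ∈ F f, ((F e).filter (fun v => qPolar q v w = 1)).card = 3 := fun w hw => by
      rw [← hdeg f e hf he hfe.symm w hw]
      exact congrArg Finset.card (Finset.filter_congr (fun v _ => by rw [qPolar_comm]))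
    rw [Finset.sum_congr rfl (hdeg e f he hf hfe), Finset.sum_congr rfl h2] at key
    simp only [Finset.sum_const, smul_eq_mul] at key
    omega
  obtain ⟨v, hv⟩ := exists_ne (1 : V)
  obtain ⟨-, h32⟩ := hb v hv
  have hE : Fintype.card E = 4 := by
    have hrange : 4 ≤ Nat.card (V ⧸ qPerp hbil v) := by
      have := Subgroup.card_eq_card_quotient_mul_card_subgroup (qPerp hbil v)
      rw [h32, (hb v hv).1] at this
      omega
    rw [qPerp, Nat.card_congr (QuotientGroup.quotientKerEquivRange _).toEquiv] at hrange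
    have hle := hrange.trans (Subgroup.card_le_card_group _)
    rw [Nat.card_eq_fintype_card] at hle hE4
    omega
  let N : Finset E := Finset.univ.erase 1
  have hsum : (Finset.univ.erase (1 : V)).card = ∑ e ∈ N, (F e).card := by
    rw [Finset.card_eq_sum_card_fiberwise (f := q) (t := N)]
    · refine Finset.sum_congr rfl fun e he => congrArg Finset.card ?_
      ext w
      simp only [F, Finset.mem_filter, Finset.mem_erase, Finset.mem_univ, and_true, true_and]
      exact ⟨fun h => h.2, fun h => ⟨fun h1 => (Finset.mem_erase.mp he).1 (by rw [← h, h1, q_one hE2 hbil]), h⟩⟩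
    · intro w hw
      simp only [N, Finset.coe_erase, Set.mem_diff, Finset.coe_univ, Set.mem_univ, true_and, Set.mem_singleton_iff] at hw ⊢
      exact fun h => hw (hani w h)
  have hqv1 : q v ≠ 1 := fun h => hv (hani v h)
  have hconst : ∀ e ∈ N, (F e).card = (F (q v)).card := by
    intro e he
    by_cases h : e = q v
    · rw [h]
    · exact hsym e (q v) (Finset.mem_erase.mp he).1 hqv1 (Ne.symm h)
  rw [Finset.sum_const_nat hconst, Finset.card_erase_of_mem (Finset.mem_univ _), Finset.card_univ,
    Finset.card_erase_of_mem (Finset.mem_univ _), Finset.card_univ, hE, ← Nat.card_eq_fintype_card, h32] at hsum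
  omega

include hV2 hE2 hE4 hbil hani in
/-- The stabiliser of a point in the isometry group is solvable. -/
theorem isSolvable_stabiliser {A : Type*} [Group A] (ρ : A →* MulAut V) (hρ : Function.Injective ρ)
    (hq : ∀ a v, q (ρ a v) = q v) {v : V} (hv : v ≠ 1) (hfix : ∀ a, ρ a v = v) :
    Group.IsSolvable A := by
  refine isSolvable_of_invariant ρ hρ (qPerp hbil v) (fun a w hw => ?_)
    (card_quotient_perp hE4 hbil v) (fun φ hφ => ?_)
  · rw [mem_qPerp hbil] at hw ⊢
    rw [← hw]
    simp only [qPolar]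
    conv_lhs => rw [← hfix a, ← map_mul, hq, hq, hq]
  have hvK : v ∈ qPerp hbil v := (mem_qPerp hbil).mpr (qPolar_self hV2 hE2 hbil v)
  have hfix' : ∀ b : ↥φ.range, (b : MulAut ↥(qPerp hbil v)) ⟨v, hvK⟩ = ⟨v, hvK⟩ := by
    rintro ⟨_, a, rfl⟩
    exact Subtype.ext (by rw [hφ]; exact hfix a)
  refine isSolvable_of_invariant φ.range.subtype Subtype.coe_injective (Subgroup.zpowers (⟨v, hvK⟩ : ↥(qPerp hbil v))) ?_ ?_ ?_
  · rintro b w ⟨i, rfl⟩
    simp [hfix' b]
  · have h8 := card_perp_le_eight hV2 hE2 hE4 hbil hani hv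
    have ho : orderOf (⟨v, hvK⟩ : ↥(qPerp hbil v)) = 2 :=
      orderOf_eq_prime (Subtype.ext (by simp [sq, hV2])) (fun h => hv (congrArg Subtype.val h))
    have := Subgroup.card_eq_card_quotient_mul_card_subgroup (Subgroup.zpowers (⟨v, hvK⟩ : ↥(qPerp hbil v)))
    rw [Nat.card_zpowers, ho] at this
    omega
  · intro χ hχ
    haveI : Subsingleton ↥χ.range := by
      refine ⟨fun x y => ?_⟩
      have key : ∀ x : ↥χ.range, x = 1 := by
        rintro ⟨_, b, rfl⟩
        refine Subtype.ext (MulEquiv.ext fun w => Subtype.ext ?_)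
        obtain ⟨i, hi⟩ := w.2
        show ((χ b w : ↥(Subgroup.zpowers (⟨v, hvK⟩ : ↥(qPerp hbil v)))) : ↥(qPerp hbil v)) = w
        rw [hχ b w, ← hi]
        simp [hfix' b]
      rw [key x, key y]
    exact Group.isSolvable_of_comm fun a b => Subsingleton.elim _ _

/-- A graph colouring of `K₅` invariant under a five-cycle and a three-cycle. -/
theorem five_dist (τ : Equiv.Perm (Fin 5)) (h3 : τ ^ 3 = 1) (h1 : τ ≠ 1) :
    ∃ i : Fin 5, τ (i + 1) = τ i + 2 ∨ τ (i + 1) = τ i + 3 := by
  revert τ
  decide +kernel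

include hV2 hE2 hE4 hbil hani in
/-- The isometry group of an anisotropic quadratic map into a group of order at most four is solvable. -/
theorem isSolvable_of_isometry {A : Type*} [Group A] [Finite A] (ρ : A →* MulAut V) (hρ : Function.Injective ρ)
    (hq : ∀ a v, q (ρ a v) = q v) : Group.IsSolvable A := by
  classical
  have := Fintype.ofFinite V
  have := Fintype.ofFinite E
  have h16 := card_le_sixteen hV2 hE2 hE4 hbil hani
  by_cases h4 : Nat.card V ≤ 4
  · haveI := isSolvable_mulAut_of_card_le_four V h4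
    exact Group.isSolvable_of_isSolvable_injective hρ
  let F : E → Finset V := fun e => Finset.univ.filter (fun v => q v = e)
  have hqq : ∀ v : V, v ≠ 1 → q v ≠ 1 := fun v hv h => hv (hani v h)
  -- a small nonempty fibre
  obtain ⟨v, hv, hsmall⟩ : ∃ v : V, v ≠ 1 ∧ (F (q v)).card ≤ 5 := by
    by_contra hcon
    push Not at hcon
    obtain ⟨v, hv⟩ : ∃ v : V, v ≠ 1 := by
      haveI : Nontrivial V := Finite.one_lt_card_iff_nontrivial.mp (by omega)
      exact exists_ne 1
    by_cases hex : ∃ w : V, w ≠ 1 ∧ q w ≠ q v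
    · obtain ⟨w, hw, hwv⟩ := hex
      have hd : Disjoint (F (q v)) (F (q w)) := Finset.disjoint_left.mpr fun x h1 h2 => hwv ((Finset.mem_filter.mp h2).2.symm.trans (Finset.mem_filter.mp h1).2)
      have h1 := hcon v hv
      have h2 := hcon w hw
      have hsub : F (q v) ∪ F (q w) ⊆ Finset.univ.erase (1 : V) := by
        intro x hx
        refine Finset.mem_erase.mpr ⟨fun h => ?_, Finset.mem_univ _⟩
        subst h
        simp only [F, Finset.mem_union, Finset.mem_filter, Finset.mem_univ, true_and, q_one hE2 hbil] at hx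
        rcases hx with hx | hx
        · exact hqq v hv hx.symm
        · exact hqq w hw hx.symm
      have h3 := Finset.card_le_card hsub
      rw [Finset.card_union_of_disjoint hd, Finset.card_erase_of_mem (Finset.mem_univ _), Finset.card_univ, ← Nat.card_eq_fintype_card] at h3
      -- all fibres of the elements of `v^⊥` are represented
      have hK := card_le_four_mul_perp hE4 hbil v
      obtain ⟨x, hx, hxv⟩ : ∃ x ∈ qPerp hbil v, x ≠ 1 ∧ x ≠ v := by
        by_contra hc
        push Not at hc
        have hle : Nat.card ↥(qPerp hbil v) ≤ Nat.card (Fin 2) := Nat.card_le_card_of_injective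
          (fun y : ↥(qPerp hbil v) => if (y : V) = 1 then (0 : Fin 2) else 1) (by
            intro a b hab
            apply Subtype.ext
            by_cases ha : (a : V) = 1 <;> by_cases hb : (b : V) = 1
            · rw [ha, hb]
            · simp only [ha, hb, if_true, if_false] at hab; exact absurd hab (by decide)
            · simp only [ha, hb, if_true, if_false] at hab; exact absurd hab (by decide)
            · rw [hc _ a.2 ha, hc _ b.2 hb])
        rw [Nat.card_fin] at hle
        omega
      have hqx : q x ≠ q v := fun h => hxv.2 (mul_left_cancel (a := v) ((hani (v * x) (by rw [q_mul (q := q) hE2, (mem_qPerp hbil).mp hx, one_mul, h, hE2])).trans (hV2 v).symm)).symm.symm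
      have hvx1 : v * x ≠ 1 := fun h => hxv.2 (mul_left_cancel (a := v) (h.trans (hV2 v).symm))
      have hqvx : q (v * x) = q v * q x := by rw [q_mul (q := q) hE2, (mem_qPerp hbil).mp hx, one_mul]
      have d1 : Disjoint (F (q v)) (F (q x)) := Finset.disjoint_left.mpr fun y h1 h2 => hqx ((Finset.mem_filter.mp h2).2.symm.trans (Finset.mem_filter.mp h1).2)
      have d2 : Disjoint (F (q v) ∪ F (q x)) (F (q (v * x))) := Finset.disjoint_left.mpr fun y h1 h2 => by
        simp only [F, Finset.mem_union, Finset.mem_filter, Finset.mem_univ, true_and] at h1 h2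
        rcases h1 with h1 | h1 <;> rw [h1, hqvx] at h2
        · exact hqq x hxv.1 (mul_eq_left.mp h2.symm)
        · exact hqq v hv (mul_eq_right.mp h2.symm)
      have hsub' : F (q v) ∪ F (q x) ∪ F (q (v * x)) ⊆ Finset.univ.erase (1 : V) := by
        intro y hy
        refine Finset.mem_erase.mpr ⟨fun h => ?_, Finset.mem_univ _⟩
        subst h
        simp only [F, Finset.mem_union, Finset.mem_filter, Finset.mem_univ, true_and, q_one hE2 hbil] at hy
        rcases hy with (hy | hy) | hy
        · exact hqq v hv hy.symm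
        · exact hqq x hxv.1 hy.symm
        · exact hqq _ hvx1 hy.symm
      have h4' := Finset.card_le_card hsub'
      rw [Finset.card_union_of_disjoint d2, Finset.card_union_of_disjoint d1, Finset.card_erase_of_mem (Finset.mem_univ _), Finset.card_univ, ← Nat.card_eq_fintype_card] at h4'
      have := hcon x hxv.1
      have := hcon _ hvx1
      omega
    · push Not at hex
      have hbv : ∀ w, w ≠ 1 → w ≠ v → qPolar q v w = q v := by
        intro w hw hwv
        have h1 : v * w ≠ 1 := fun h => hwv (mul_left_cancel (a := v) (h.trans (hV2 v).symm))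
        simp only [qPolar, hex _ h1, hex w hw, hE2, one_mul]
      obtain ⟨w, hw⟩ : ∃ w : V, w ∉ ({1, v} : Finset V) := by
        by_contra hc
        push Not at hc
        have : Finset.univ.card ≤ ({1, v} : Finset V).card := Finset.card_le_card fun a _ => hc a
        have h2 : ({1, v} : Finset V).card ≤ 2 := Finset.card_le_two
        rw [Finset.card_univ, ← Nat.card_eq_fintype_card] at this
        omega
      obtain ⟨x, hx⟩ : ∃ x : V, x ∉ ({1, v, w, w * v} : Finset V) := by
        by_contra hc
        push Not at hc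
        have : Finset.univ.card ≤ ({1, v, w, w * v} : Finset V).card := Finset.card_le_card fun a _ => hc a
        have h2 : ({1, v, w, w * v} : Finset V).card ≤ 4 := Finset.card_le_four
        rw [Finset.card_univ, ← Nat.card_eq_fintype_card] at this
        omega
      simp only [Finset.mem_insert, Finset.mem_singleton, not_or] at hw hx
      have hwx1 : w * x ≠ 1 := fun h => hx.2.2.1 (mul_left_cancel (a := w) (h.trans (hV2 w).symm))
      have hwxv : w * x ≠ v := fun h => hx.2.2.2 (by rw [← h, ← mul_assoc, hV2, one_mul])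
      have h1 := qPolar_bil_right hbil v w x
      rw [hbv _ hwx1 hwxv, hbv w hw.1 hw.2, hbv x hx.1 hx.2.1, hE2] at h1
      exact hqq v hv h1
  let act : A →* Equiv.Perm ↥(F (q v)) :=
    { toFun := fun a =>
        { toFun := fun x => ⟨ρ a x, by
            simp only [F, Finset.mem_filter, Finset.mem_univ, true_and]
            rw [hq]; exact (Finset.mem_filter.mp x.2).2⟩
          invFun := fun x => ⟨ρ a⁻¹ x, by
            simp only [F, Finset.mem_filter, Finset.mem_univ, true_and]
            rw [hq]; exact (Finset.mem_filter.mp x.2).2⟩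
          left_inv := fun x => Subtype.ext (by simp)
          right_inv := fun x => Subtype.ext (by simp) }
      map_one' := by ext x; simp
      map_mul' := fun a b => by ext x; simp }
  have hvF : v ∈ F (q v) := by simp [F]
  refine isSolvable_of_ker_range act ?_ ?_
  · refine isSolvable_stabiliser hV2 hE2 hE4 hbil hani (ρ.comp act.ker.subtype)
      (hρ.comp Subtype.coe_injective) (fun a w => hq _ w) hv fun a => ?_
    exact congrArg (fun z : ↥(F (q v)) => (z : V)) (Equiv.ext_iff.mp a.2 ⟨v, hvF⟩)
  rcases Nat.lt_or_ge (F (q v)).card 5 with hlt | hge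
  · exact isSolvable_subgroup (isSolvable_perm_of_card_le_four _ (by simp; omega)) _
  have h5 : (F (q v)).card = 5 := by omega
  by_contra hns
  have hdvd : Nat.card ↥act.range ∣ 120 := by
    have h := Subgroup.card_subgroup_dvd_card act.range
    rw [Nat.card_perm, Nat.card_eq_fintype_card (α := ↥(F (q v))), Fintype.card_coe, h5] at h
    exact h
  -- primes of the image
  have hprimes : ∀ p : ℕ, p = 3 ∨ p = 5 → p ∣ Nat.card ↥act.range := by
    intro p hp
    by_contra hpd
    apply hns
    have hpos : Nat.card ↥act.range ≠ 0 := Nat.card_pos.ne'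
    refine CfsgLib.Char.isSolvable_of_two_primes 2 (if p = 3 then 5 else 3) Nat.prime_two
      (by rcases hp with rfl | rfl <;> norm_num) _ _ rfl fun r hr hrd => ?_
    have hr120 : r ∣ 120 := hrd.trans hdvd
    have : r ∣ 2 ^ 3 * 3 * 5 := by simpa using hr120
    rcases hr.dvd_mul.mp this with h | h
    · rcases hr.dvd_mul.mp h with h | h
      · exact Or.inl ((Nat.prime_dvd_prime_iff_eq hr Nat.prime_two).mp (hr.dvd_of_dvd_pow h))
      · have := (Nat.prime_dvd_prime_iff_eq hr Nat.prime_three).mp h
        subst this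
        rcases hp with rfl | rfl
        · exact absurd hrd hpd
        · exact Or.inr rfl
    · have := (Nat.prime_dvd_prime_iff_eq hr Nat.prime_five).mp h
      subst this
      rcases hp with rfl | rfl
      · exact Or.inr rfl
      · exact absurd hrd hpd
  haveI : Fact (Nat.Prime 5) := ⟨Nat.prime_five⟩
  haveI : Fact (Nat.Prime 3) := ⟨Nat.prime_three⟩
  obtain ⟨σ, hσ⟩ := exists_prime_orderOf_dvd_card' 5 (hprimes 5 (Or.inr rfl))
  obtain ⟨τ, hτ⟩ := exists_prime_orderOf_dvd_card' 3 (hprimes 3 (Or.inl rfl))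
  obtain ⟨a, ha⟩ := σ.2
  obtain ⟨c, hc⟩ := τ.2
  have hσ1 : (σ : Equiv.Perm ↥(F (q v))) ≠ 1 := fun h => by
    rw [show σ = 1 from Subtype.ext h, orderOf_one] at hσ; omega
  obtain ⟨x₀, hx₀⟩ : ∃ x, (σ : Equiv.Perm ↥(F (q v))) x ≠ x := by
    by_contra hcon
    push Not at hcon
    exact hσ1 (Equiv.ext hcon)
  have hσ5 : (σ : Equiv.Perm ↥(F (q v))) ^ 5 = 1 := by
    rw [← SubgroupClass.coe_pow, ← hσ, pow_orderOf_eq_one]; rfl
  let s : Fin 5 → ↥(F (q v)) := fun i => ((σ : Equiv.Perm ↥(F (q v))) ^ (i : ℕ)) x₀
  have hs_succ : ∀ i : Fin 5, (σ : Equiv.Perm ↥(F (q v))) (s i) = s (i + 1) := by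
    intro i
    show ((σ : Equiv.Perm ↥(F (q v))) * (σ : Equiv.Perm ↥(F (q v))) ^ (i : ℕ)) x₀ = ((σ : Equiv.Perm ↥(F (q v))) ^ ((i + 1 : Fin 5) : ℕ)) x₀
    rw [← pow_succ', Fin.val_add, ← pow_mod_orderOf _ ((i : ℕ) + 1)]
    congr 2
    congr 1
    rw [orderOf_eq_prime hσ5 hσ1]
  have hsinj : Function.Injective s := by
    intro i j hij
    by_contra hne
    apply hx₀
    have key : ∀ k : ℕ, k < 5 → 0 < k → ((σ : Equiv.Perm ↥(F (q v))) ^ k) x₀ = x₀ → (σ : Equiv.Perm ↥(F (q v))) x₀ = x₀ := by
      intro k hk hk0 h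
      have h5' : Function.IsPeriodicPt (σ : Equiv.Perm ↥(F (q v))) 5 x₀ := by
        show (⇑(σ : Equiv.Perm ↥(F (q v))))^[5] x₀ = x₀
        rw [← Equiv.Perm.coe_pow, hσ5]; rfl
      have hk' : Function.IsPeriodicPt (σ : Equiv.Perm ↥(F (q v))) k x₀ := by
        show (⇑(σ : Equiv.Perm ↥(F (q v))))^[k] x₀ = x₀
        rw [← Equiv.Perm.coe_pow]; exact h
      have hg := hk'.gcd h5'
      have hco : Nat.gcd k 5 = 1 := by interval_cases k <;> rfl
      rw [hco] at hg
      exact hg
    rcases lt_or_gt_of_ne hne with h | h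
    · refine key ((j : ℕ) - i) (by omega) (by omega) (((σ : Equiv.Perm ↥(F (q v))) ^ (i : ℕ)).injective ?_)
      rw [← Equiv.Perm.mul_apply, ← pow_add, Nat.add_sub_cancel' (le_of_lt h)]
      exact hij.symm
    · refine key ((i : ℕ) - j) (by omega) (by omega) (((σ : Equiv.Perm ↥(F (q v))) ^ (j : ℕ)).injective ?_)
      rw [← Equiv.Perm.mul_apply, ← pow_add, Nat.add_sub_cancel' (le_of_lt h)]
      exact hij
  have hsbij : Function.Bijective s := (Fintype.bijective_iff_injective_and_card s).mpr ⟨hsinj, by simp [h5]⟩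
  let col : Fin 5 → Fin 5 → E := fun i j => qPolar q (s i : V) (s j : V)
  have colsymm : ∀ i j, col i j = col j i := fun i j => qPolar_comm _ _
  have hinvb : ∀ (g : A) (x y : V), qPolar q (ρ g x) (ρ g y) = qPolar q x y := fun g x y => by
    simp only [qPolar, ← map_mul, hq]
  have hσval : ∀ x : ↥(F (q v)), (((σ : Equiv.Perm ↥(F (q v))) x : ↥(F (q v))) : V) = ρ a x := fun x => by
    rw [← ha]; rfl
  have hτval : ∀ x : ↥(F (q v)), (((τ : Equiv.Perm ↥(F (q v))) x : ↥(F (q v))) : V) = ρ c x := fun x => by
    rw [← hc]; rfl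
  have colshift : ∀ i j, col (i + 1) (j + 1) = col i j := by
    intro i j
    simp only [col, ← hs_succ, hσval, hinvb]
  let e := Equiv.ofBijective s hsbij
  let τ' : Equiv.Perm (Fin 5) := (e.trans (τ : Equiv.Perm ↥(F (q v)))).trans e.symm
  have colτ : ∀ i j, col (τ' i) (τ' j) = col i j := by
    intro i j
    have h : ∀ k, s (τ' k) = (τ : Equiv.Perm ↥(F (q v))) (s k) := fun k => e.apply_symm_apply _
    simp only [col, h, hτval, hinvb]
  have hτ3 : τ' ^ 3 = 1 := by
    have h3 : (τ : Equiv.Perm ↥(F (q v))) ^ 3 = 1 := by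
      rw [← SubgroupClass.coe_pow, ← hτ, pow_orderOf_eq_one]; rfl
    ext k
    have h4 := Equiv.ext_iff.mp h3 (e k)
    simp [pow_succ, pow_zero] at h4 ⊢
    simp [τ', h4]
  have hτ1 : τ' ≠ 1 := by
    intro h
    have : (τ : Equiv.Perm ↥(F (q v))) = 1 := by
      ext1 x
      obtain ⟨k, rfl⟩ := e.surjective x
      have h4 := Equiv.ext_iff.mp h k
      simpa [τ'] using congrArg e h4
    rw [show τ = 1 from Subtype.ext this, orderOf_one] at hτ
    omega
  have hd1 : ∀ i, col i (i + 1) = col 0 1 := by
    intro i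
    fin_cases i
    · rfl
    all_goals first
      | exact (colshift 0 1)
      | exact (colshift 1 2).trans (colshift 0 1)
      | exact ((colshift 2 3).trans (colshift 1 2)).trans (colshift 0 1)
      | exact (((colshift 3 4).trans (colshift 2 3)).trans (colshift 1 2)).trans (colshift 0 1)
  have hd2 : ∀ i, col i (i + 2) = col 0 2 := by
    intro i
    fin_cases i
    · rfl
    all_goals first
      | exact (colshift 0 2)
      | exact (colshift 1 3).trans (colshift 0 2)
      | exact ((colshift 2 4).trans (colshift 1 3)).trans (colshift 0 2)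
      | exact (((colshift 3 0).trans (colshift 2 4)).trans (colshift 1 3)).trans (colshift 0 2)
  have h12 : col 0 1 = col 0 2 := by
    obtain ⟨i, hi | hi⟩ := five_dist τ' hτ3 hτ1
    · rw [← hd1 i, ← colτ, hi, hd2]
    · rw [← hd1 i, ← colτ, hi, colsymm]
      have := hd2 (τ' i + 3)
      rwa [add_assoc, show (3 : Fin 5) + 2 = 0 from rfl, add_zero] at this
  have hall : ∀ i j : Fin 5, i ≠ j → col i j = col 0 1 := by
    intro i j hne
    have : j = i + 1 ∨ j = i + 2 ∨ i = j + 1 ∨ i = j + 2 := by revert hne; revert i j; decide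
    rcases this with rfl | rfl | rfl | rfl
    · exact hd1 i
    · rw [hd2, ← h12]
    · rw [colsymm]; exact hd1 j
    · rw [colsymm, hd2, ← h12]
  have hqs : ∀ i, q (s i : V) = q v := fun i => (Finset.mem_filter.mp (s i).2).2
  have quad : ∀ a b c d : Fin 5, a ≠ b → a ≠ c → a ≠ d → b ≠ c → b ≠ d → c ≠ d →
      q ((s a : V) * s b * (s c * s d)) = 1 := by
    intro a b c d hab hac had hbc hbd hcd
    rw [q_mul (q := q) hE2, q_mul (q := q) hE2 (s a : V), q_mul (q := q) hE2 (s c : V), hbil, qPolar_bil_right hbil, qPolar_bil_right hbil,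
      hqs, hqs, hqs, hqs]
    simp only [col] at hall
    rw [hall a b hab, hall a c hac, hall a d had, hall b c hbc, hall b d hbd, hall c d hcd]
    simp [hE2]
  have e1 := hani _ (quad 0 1 2 3 (by decide) (by decide) (by decide) (by decide) (by decide) (by decide))
  have e2 := hani _ (quad 0 1 2 4 (by decide) (by decide) (by decide) (by decide) (by decide) (by decide))
  rw [← e2] at e1
  exact absurd (hsinj (Subtype.ext (mul_left_cancel (mul_left_cancel e1)))) (by decide)

end Quad

end CfsgLib.StdForm
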