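import Mathlib
import Cfsg.Prelude.Def_Local
import Cfsg.Agent.Lib.Solvable.Core
import Cfsg.Agent.Lib.Solvable.CoprimeAction
import Cfsg.Agent.Lib.OddOrder.OmegaFix

set_option autoImplicit false

open Subgroup
open scoped commutatorElement
namespace CfsgLib.StdForm

variable {G : Type*} [Group G]

/-- An automorphism of `G` given by conjugation preserves the image of a characteristic subgroup of
an invariant subgroup. -/
theorem conj_mem_map_char {P : Subgroup G} {C : Subgroup ↥P} [hC : C.Characteristic] {g : G}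
    (hg : g ∈ normalizer (P : Set G)) {x : G} (hx : x ∈ C.map P.subtype) :
    g * x * g⁻¹ ∈ C.map P.subtype := by
  obtain ⟨c, hc, rfl⟩ := Subgroup.mem_map.mp hx
  let φ : ↥P ≃* ↥P :=
    { toFun := fun y => ⟨g * y * g⁻¹, (Subgroup.mem_normalizer_iff.mp hg y).mp y.2⟩
      invFun := fun y => ⟨g⁻¹ * y * g, (Subgroup.mem_normalizer_iff.mp hg _).mpr (by simp [mul_assoc])⟩
      left_inv := fun y => Subtype.ext (by simp [mul_assoc])
      right_inv := fun y => Subtype.ext (by simp [mul_assoc])
      map_mul' := fun y z => Subtype.ext (by simp [mul_assoc]) }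
  refine Subgroup.mem_map.mpr ⟨φ c, ?_, rfl⟩
  have := hC.fixed φ
  rw [← this] at hc
  exact hc

theorem mem_normalizer_of_conj_mem [Finite G] {P : Subgroup G} {g : G}
    (h : ∀ x ∈ P, g * x * g⁻¹ ∈ P) : g ∈ normalizer (P : Set G) :=
  Subgroup.mem_normalizer_fintype (S := (P : Set G)) h

/-- An involution-generated four-group acting on a group `O` of odd order, with `C_O(t) ≤ C(s)`
and `C_O(s) ≤ C(t)`: the product `st` centralises `O`. -/
theorem mul_mem_centralizer_of_inf_centralizer_le [Finite G] {O : Subgroup G}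
    (hodd : Odd (Nat.card ↥O)) {s t : G} (hs2 : s * s = 1) (ht2 : t * t = 1)
    (hst : Commute s t) (hs : s ∈ normalizer (O : Set G)) (ht : t ∈ normalizer (O : Set G))
    (hts : ∀ o ∈ O, Commute t o → Commute s o) (hst' : ∀ o ∈ O, Commute s o → Commute t o) :
    s * t ∈ centralizer (O : Set G) := by
  classical
  let A : Subgroup G := closure {s, t}
  have hAcomm : ∀ a ∈ A, ∀ b ∈ A, a * b = b * a := by
    have : IsMulCommutative ↥A := Subgroup.isMulCommutative_closure (k := {s, t}) (by
      rintro x (rfl | rfl) y (rfl | rfl)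
      exacts [rfl, hst.eq, hst.eq.symm, rfl])
    exact fun a ha b hb => congrArg Subtype.val (this.is_comm.comm (⟨a, ha⟩ : A) ⟨b, hb⟩)
  have hA2 : ∀ a ∈ A, a ^ 2 = 1 := by
    intro a ha
    induction ha using Subgroup.closure_induction with
    | mem x hx => rcases hx with rfl | rfl <;> simpa [sq]
    | one => simp
    | mul x y hx hy h1 h2 => rw [Commute.mul_pow (hAcomm x hx y hy), h1, h2, one_mul]
    | inv x hx h1 => rw [inv_pow, h1, inv_one]
  haveI : Fact (Nat.Prime 2) := ⟨Nat.prime_two⟩
  have hAp : IsPGroup 2 ↥A := fun a => ⟨1, Subtype.ext (by simpa using hA2 a a.2)⟩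
  obtain ⟨e, he⟩ := IsPGroup.iff_card.mp hAp
  have hcop : (Nat.card ↥A).Coprime (Nat.card ↥O) := by
    rw [he]; exact Nat.Coprime.pow_left _ (Nat.coprime_two_left.mpr hodd)
  have hsolv : Group.IsSolvable ↥A :=
    Group.isSolvable_of_comm (fun a b => Subtype.ext (hAcomm a a.2 b b.2))
  have hAO : A ≤ normalizer (O : Set G) := (closure_le _).mpr (by rintro x (rfl | rfl) <;> assumption)
  have key : ∀ p : ℕ, Fact p.Prime → ∃ P : Sylow p ↥O,
      (P : Subgroup ↥O).map O.subtype ≤ centralizer {s * t} := by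
    intro p hp
    obtain ⟨Ps, hPs⟩ := CfsgLib.Solvable.exists_invariant_sylow hAO hcop (Or.inl hsolv) p
    refine ⟨Ps, ?_⟩
    generalize hPdef : (Ps : Subgroup ↥O).map O.subtype = P at hPs ⊢
    have hPO : P ≤ O := hPdef ▸ map_subtype_le _
    have hPp : IsPGroup p ↥P := hPdef ▸ Ps.isPGroup'.map O.subtype
    have hsP : s ∈ normalizer (P : Set G) := hPs (subset_closure (by simp))
    have htP : t ∈ normalizer (P : Set G) := hPs (subset_closure (by simp))
    let N : Subgroup G := (commutator ↥P).map P.subtype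
    have hNP : N ≤ P := map_subtype_le _
    have hPN : P ≤ normalizer (N : Set G) := fun g hg =>
      mem_normalizer_of_conj_mem fun x hx => conj_mem_map_char (Subgroup.le_normalizer hg) hx
    let π : ↥P →* Abelianization ↥P := Abelianization.of
    have hπ : ∀ {x y : ↥P}, ((x : G))⁻¹ * y ∈ N → π x = π y := by
      intro x y hxy
      obtain ⟨c, hc, hce⟩ := Subgroup.mem_map.mp hxy
      have h1 : π c = 1 := by
        rw [← MonoidHom.mem_ker]
        simpa [π, Abelianization.ker_of] using hc
      have : y = x * c := Subtype.ext (by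
        simp only [Subgroup.coe_subtype] at hce
        simp [hce])
      rw [this, map_mul, h1, mul_one]
    have hoddP : Odd (Nat.card ↥P) := hodd.of_dvd_nat (Subgroup.card_dvd_of_le hPO)
    -- the two conjugation maps
    have cs : ∀ x : ↥P, s * x * s⁻¹ ∈ P := fun x => (Subgroup.mem_normalizer_iff.mp hsP x).mp x.2
    have ct : ∀ x : ↥P, t * x * t⁻¹ ∈ P := fun x => (Subgroup.mem_normalizer_iff.mp htP x).mp x.2
    have cst : ∀ x : ↥P, s * (t * x * t⁻¹) * s⁻¹ ∈ P := fun x =>
      (Subgroup.mem_normalizer_iff.mp hsP _).mp (ct x)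
    have hsinv : s⁻¹ = s := inv_eq_of_mul_eq_one_left hs2
    have htinv : t⁻¹ = t := inv_eq_of_mul_eq_one_left ht2
    have half : ∀ (a b : G), a * a = 1 → Commute a b → a ∈ normalizer (P : Set G) →
        b ∈ normalizer (P : Set G) → (∀ o ∈ O, Commute a o → Commute b o) →
        ∀ (k ka kb kab : ↥P), (ka : G) = a * k * a⁻¹ → (kb : G) = b * k * b⁻¹ →
          (kab : G) = b * (a * k * a⁻¹) * b⁻¹ → π k * π ka = π kb * π kab := by
      intro a b ha2 hab haP hbP hfix k ka kb kab hka hkb hkab
      have haN : a ∈ normalizer (N : Set G) :=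
        mem_normalizer_of_conj_mem fun x hx => conj_mem_map_char haP hx
      have hbN : b ∈ normalizer (N : Set G) :=
        mem_normalizer_of_conj_mem fun x hx => conj_mem_map_char hbP hx
      have hzcop : (Nat.card ↥(zpowers a)).Coprime (Nat.card ↥P) := by
        rw [Nat.card_zpowers]
        exact Nat.Coprime.coprime_dvd_left (orderOf_dvd_of_pow_eq_one (n := 2) (by rw [sq, ha2]))
          (Nat.coprime_two_left.mpr hoddP)
      have hzsolv : Group.IsSolvable ↥(zpowers a) :=
        Group.isSolvable_of_comm (fun x y => mul_comm' x y)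
      obtain ⟨c, hc, hck⟩ := CfsgLib.Solvable.exists_fixed_of_fixed_mod (A := zpowers a) (K := P) (N := N)
        (zpowers_le.mpr haP) hzcop (Or.inl hzsolv) hNP hPN (zpowers_le.mpr haN) (k * ka).2 (by
          intro x hx
          obtain ⟨i, rfl⟩ := hx
          show a ^ i * _ * (a ^ i)⁻¹ * _ ∈ N
          have hix : a ^ i = 1 ∨ a ^ i = a := by
            obtain ⟨j, rfl⟩ | ⟨j, rfl⟩ := Int.even_or_odd i
            · left; rw [← two_mul, zpow_mul, zpow_two, ha2, one_zpow]
            · right; rw [zpow_add, zpow_mul, zpow_two, ha2, one_zpow, one_mul, zpow_one]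
          rcases hix with hi | hi
          · rw [hi]; simp [N.one_mem]
          · rw [hi]
            refine Subgroup.mem_map.mpr ⟨ka * k * (k * ka)⁻¹, ?_, ?_⟩
            · rw [← Abelianization.ker_of, MonoidHom.mem_ker]
              simp only [map_mul, map_inv]
              rw [mul_comm (Abelianization.of k) (Abelianization.of ka), mul_inv_cancel]
            · simp only [Subgroup.coe_subtype, Subgroup.coe_mul, Subgroup.coe_inv, hka]
              have hainv : a⁻¹ = a := inv_eq_of_mul_eq_one_left ha2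
              rw [hainv]
              simp [mul_assoc, ha2, hainv])
      have hcb : Commute b c :=
        hfix c (hPO hc.1) (Subgroup.mem_centralizer_iff.mp hc.2 a (mem_zpowers a))
      have e1 : π (k * ka) = π ⟨c, hc.1⟩ := hπ hck
      have hck' := (Subgroup.mem_normalizer_iff.mp hbN _).mp hck
      have e2 : π (kb * kab) = π ⟨c, hc.1⟩ := hπ (by
        convert hck' using 1
        simp only [Subgroup.coe_mul, hka, hkb, hkab, mul_inv_rev, mul_assoc]
        have : (c : G) = b * (c * b⁻¹) := by rw [← mul_assoc, hcb.eq, mul_inv_cancel_right]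
        conv_lhs => rw [this]
        simp [mul_assoc])
      rw [← map_mul, e1, ← e2, map_mul]
    have hmod : ∀ k : ↥P, π k = π ⟨s * (t * k * t⁻¹) * s⁻¹, cst k⟩ := by
      intro k
      have h1 := half t s ht2 hst.symm htP hsP hts k ⟨_, ct k⟩ ⟨_, cs k⟩ ⟨_, cst k⟩ rfl rfl rfl
      have h2 := half s t hs2 hst hsP htP hst' k ⟨_, cs k⟩ ⟨_, ct k⟩
        ⟨s * (t * k * t⁻¹) * s⁻¹, cst k⟩ rfl rfl (by
          show s * (t * k * t⁻¹) * s⁻¹ = t * (s * k * s⁻¹) * t⁻¹
          rw [hsinv, htinv]
          calc s * (t * k * t) * s = (s * t) * k * (t * s) := by group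
            _ = (t * s) * k * (s * t) := by rw [hst.eq]
            _ = t * (s * k * s) * t := by group)
      generalize π k = a at h1 h2 ⊢
      generalize π ⟨_, ct k⟩ = b at h1 h2
      generalize π ⟨_, cs k⟩ = c at h1 h2
      generalize π ⟨s * (t * k * t⁻¹) * s⁻¹, cst k⟩ = d at h1 h2 ⊢
      have hsq : b * b = c * c := by
        apply mul_left_cancel (a := a * d)
        calc a * d * (b * b) = (a * b) * (b * d) := by ac_rfl
          _ = (c * d) * (a * c) := by rw [h1, h2]
          _ = a * d * (c * c) := by ac_rfl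
      have hbc : b = c := by
        have hoA : Odd (Nat.card (Abelianization ↥P)) :=
          hoddP.of_dvd_nat (Subgroup.card_quotient_dvd_card _)
        exact (powCoprime (Nat.Coprime.symm (Nat.coprime_two_left.mpr hoA))).injective
          (by simpa [powCoprime, sq] using hsq)
      subst hbc
      exact mul_left_cancel (a := b) (by rw [mul_comm b a, h1])
    have hu : zpowers (s * t) ≤ centralizer (P : Set G) := by
      refine CfsgLib.Solvable.le_centralizer_of_trivial_on_frattini_quotient ?_ ?_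
      · rw [Nat.card_zpowers]
        refine Nat.Coprime.coprime_dvd_left (orderOf_dvd_of_pow_eq_one (n := 2) ?_)
          (Nat.coprime_two_left.mpr (hoddP.of_dvd_nat (Subgroup.card_subgroup_dvd_card _)))
        rw [hst.mul_pow, sq, sq, hs2, ht2, one_mul]
      · intro a ha k hk
        obtain ⟨i, rfl⟩ := ha
        have hu2 : (s * t) * (s * t) = 1 := by rw [← sq, hst.mul_pow, sq, sq, hs2, ht2, one_mul]
        have hix : (s * t) ^ i = 1 ∨ (s * t) ^ i = s * t := by
          obtain ⟨j, rfl⟩ | ⟨j, rfl⟩ := Int.even_or_odd i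
          · left; rw [← two_mul, zpow_mul, zpow_two, hu2, one_zpow]
          · right; rw [zpow_add, zpow_mul, zpow_two, hu2, one_zpow, one_mul, zpow_one]
        rcases hix with hi | hi <;> simp only [hi]
        · simp only [one_mul, inv_one, mul_one, mul_inv_cancel]; exact one_mem _
        · refine Subgroup.map_mono (CfsgLib.OddOrder.commutator_le_frattini_of_isPGroup hPp) ?_
          refine Subgroup.mem_map.mpr ⟨⟨_, cst ⟨k, hk⟩⟩ * (⟨k, hk⟩ : ↥P)⁻¹, ?_, ?_⟩
          · rw [← Abelianization.ker_of, MonoidHom.mem_ker, map_mul, map_inv]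
            rw [show Abelianization.of (⟨_, cst ⟨k, hk⟩⟩ : ↥P) = Abelianization.of ⟨k, hk⟩ from (hmod ⟨k, hk⟩).symm]
            exact mul_inv_cancel _
          · simp [mul_assoc]
    intro x hx
    exact Subgroup.mem_centralizer_singleton_iff.mpr
      (Subgroup.mem_centralizer_iff.mp (hu (mem_zpowers _)) x hx)
  refine Subgroup.mem_centralizer_iff.mpr fun o ho => ?_
  let C : Subgroup ↥O := (centralizer {s * t}).subgroupOf O
  have hC : C = ⊤ := by
    apply Subgroup.eq_top_of_card_eq
    refine Nat.dvd_antisymm (Subgroup.card_subgroup_dvd_card _) ?_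
    refine (Nat.dvd_iff_prime_pow_dvd_dvd _ _).mpr fun p k hp hdvd => ?_
    haveI : Fact p.Prime := ⟨hp⟩
    obtain ⟨P, hP⟩ := key p ⟨hp⟩
    exact (Sylow.pow_dvd_card_of_pow_dvd_card P hdvd).trans
      (Subgroup.card_dvd_of_le fun y hy => hP (Subgroup.mem_map_of_mem _ hy))
  have hm : (⟨o, ho⟩ : ↥O) ∈ C := hC ▸ Subgroup.mem_top _
  exact Subgroup.mem_centralizer_singleton_iff.mp hm

/-- A map `x ↦ f x` on a perfect group which is multiplicative into a commutative group is trivial. -/
theorem hom_eq_one_of_perfect {P A : Type*} [Group P] [Group A] (hP : Group.IsPerfect P)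
    (f : P →* A) (hcomm : ∀ x y, f x * f y = f y * f x) (x : P) : f x = 1 := by
  have h : commutator P ≤ f.ker := by
    rw [commutator_eq_closure, Subgroup.closure_le]
    rintro _ ⟨a, b, rfl⟩
    rw [SetLike.mem_coe, MonoidHom.mem_ker, map_commutatorElement, commutatorElement_eq_one_iff_mul_comm]
    exact hcomm a b
  rw [hP.commutator_eq_top] at h
  exact h (Subgroup.mem_top x)

/-- If the commutators of `c` with a perfect subgroup `P` (normalised or not) lie in the centre of
`P`, then `c` centralises `P`. -/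
theorem mem_centralizer_of_commutator_central {P : Subgroup G} (hP : Group.IsPerfect ↥P) {c : G}
    (h : ∀ x ∈ P, c * x * c⁻¹ * x⁻¹ ∈ P ∧ ∀ y ∈ P, y * (c * x * c⁻¹ * x⁻¹) = c * x * c⁻¹ * x⁻¹ * y) :
    c ∈ centralizer (P : Set G) := by
  let f : ↥P →* ↥(center ↥P) :=
    { toFun := fun x => ⟨⟨_, (h x x.2).1⟩, Subgroup.mem_center_iff.mpr fun y => Subtype.ext ((h x x.2).2 y y.2)⟩
      map_one' := by ext; simp
      map_mul' := fun x y => by
        ext
        show c * (x * y : G) * c⁻¹ * (x * y : G)⁻¹ = c * x * c⁻¹ * (x : G)⁻¹ * (c * y * c⁻¹ * (y : G)⁻¹)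
        calc _ = (c * x * c⁻¹) * ((c * y * c⁻¹ * (y : G)⁻¹) * (x : G)⁻¹) := by group
          _ = (c * x * c⁻¹) * ((x : G)⁻¹ * (c * y * c⁻¹ * (y : G)⁻¹)) := by
            rw [(h y y.2).2 _ (P.inv_mem x.2)]
          _ = _ := by group }
  refine Subgroup.mem_centralizer_iff.mpr fun x hx => ?_
  have hf := congrArg (fun z : ↥(center ↥P) => ((z : ↥P) : G))
    (hom_eq_one_of_perfect hP f (fun a b => Subtype.ext (Subgroup.mem_center_iff.mp (f b).2 (f a : ↥P))) ⟨x, hx⟩)
  change c * x * c⁻¹ * x⁻¹ = 1 at hf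
  exact (mul_inv_eq_iff_eq_mul.mp (mul_inv_eq_one.mp hf)).symm

/-- A normal subgroup of a quasisimple group is central or the whole group. -/
theorem normal_le_center_or_eq_top {H : Type*} [Group H] (hq : Cfsg.IsQuasisimple H) (K : Subgroup H)
    [K.Normal] : K ≤ center H ∨ K = ⊤ := by
  haveI := hq.1
  haveI := hq.2
  haveI : (K.map (QuotientGroup.mk' (center H))).Normal :=
    Subgroup.Normal.map ‹_› _ (QuotientGroup.mk'_surjective _)
  rcases Subgroup.Normal.eq_bot_or_eq_top ‹(K.map (QuotientGroup.mk' (center H))).Normal› with h | h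
  · left
    rw [Subgroup.map_eq_bot_iff, QuotientGroup.ker_mk'] at h
    exact h
  · right
    have hsup : K ⊔ center H = ⊤ := by
      rw [← QuotientGroup.ker_mk' (center H), ← Subgroup.comap_map_eq, h, Subgroup.comap_top]
    have hc : commutator H ≤ K := by
      rw [commutator_eq_closure, Subgroup.closure_le]
      rintro _ ⟨a, b, rfl⟩
      have ha : a ∈ K ⊔ center H := hsup ▸ Subgroup.mem_top a
      have hb : b ∈ K ⊔ center H := hsup ▸ Subgroup.mem_top b
      obtain ⟨k, hk, z, hz, rfl⟩ := Subgroup.mem_sup_of_normal_right.mp ha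
      obtain ⟨l, hl, w, hw, rfl⟩ := Subgroup.mem_sup_of_normal_right.mp hb
      have : ⁅k * z, l * w⁆ = ⁅k, l⁆ := by
        have hz' := Subgroup.mem_center_iff.mp hz
        have hw' := Subgroup.mem_center_iff.mp hw
        simp only [commutatorElement_def, mul_inv_rev]
        calc k * z * (l * w) * (z⁻¹ * k⁻¹) * (w⁻¹ * l⁻¹)
            = k * (z * (l * w)) * z⁻¹ * k⁻¹ * w⁻¹ * l⁻¹ := by group
          _ = k * ((l * w) * z) * z⁻¹ * k⁻¹ * w⁻¹ * l⁻¹ := by rw [hz' (l * w)]
          _ = k * l * (w * k⁻¹) * w⁻¹ * l⁻¹ := by group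
          _ = k * l * (k⁻¹ * w) * w⁻¹ * l⁻¹ := by rw [hw' k⁻¹]
          _ = k * l * k⁻¹ * l⁻¹ := by group
      rw [SetLike.mem_coe, this, commutatorElement_def]
      exact K.mul_mem (K.mul_mem (K.mul_mem hk hl) (K.inv_mem hk)) (K.inv_mem hl)
    rw [hq.1.commutator_eq_top, top_le_iff] at hc
    exact hc

end CfsgLib.StdForm
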