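import Cfsg.Agent.Lib.StdForm.DoubleCoverRoots
import Cfsg.Agent.Lib.SLCover.Universal

/-!
# Non-fusion from squares in the third term of the lower central series

With `S = P R` as in `DoubleCoverRoots`, the centre `z` is not conjugate to a central involution `u` of `P`
having a square root in `[[P, P], P]` when `z` has none. Also a centrally closed cover maps onto every
central extension with the same quotient.
-/

set_option autoImplicit false

open Subgroup
open scoped commutatorElement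

namespace CfsgLib.StdForm.DoubleCover

universe u

variable {G : Type u} [Group G] [Finite G]

theorem commutator_sup_le {X P R : Subgroup G} (hXP : X ≤ P) (hc : ∀ p ∈ P, ∀ r ∈ R, p * r = r * p) :
    ⁅X, P ⊔ R⁆ ≤ ⁅X, P⁆ := by
  rw [commutator_le]
  intro x hx s hs
  have hle : R ≤ centralizer (P : Set G) := fun r hr => mem_centralizer_iff.2 fun p hp => hc p hp r hr
  have h2 := SetLike.mem_coe.2 hs
  rw [coe_mul_of_right_le_normalizer_left P _ (hle.trans (centralizer_le_normalizer _))] at h2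
  obtain ⟨p, hp, r, hr, rfl⟩ := h2
  have e : ⁅x, p * r⁆ = ⁅x, p⁆ := by
    have h1 : x * r = r * x := hc x (hXP hx) r hr
    simp only [commutatorElement_def, _root_.mul_inv_rev]
    calc x * (p * r) * x⁻¹ * (r⁻¹ * p⁻¹) = x * p * (r * x⁻¹) * (r⁻¹ * p⁻¹) := by group
      _ = x * p * (x⁻¹ * r) * (r⁻¹ * p⁻¹) := by
        rw [show r * x⁻¹ = x⁻¹ * r from (Commute.inv_left (show Commute x r from h1)).eq.symm]
      _ = _ := by group
  rw [e]
  exact commutator_mem_commutator hx hp

theorem commutator_sup_self_le {P R : Subgroup G} (hc : ∀ p ∈ P, ∀ r ∈ R, p * r = r * p)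
    (hR : ∀ r ∈ R, ∀ r' ∈ R, r * r' = r' * r) : ⁅P ⊔ R, P ⊔ R⁆ ≤ ⁅P, P⁆ := by
  rw [commutator_le]
  intro s hs s' hs'
  have hle : R ≤ centralizer (P : Set G) := fun r hr => mem_centralizer_iff.2 fun p hp => hc p hp r hr
  have h1 := SetLike.mem_coe.2 hs
  have h2 := SetLike.mem_coe.2 hs'
  rw [coe_mul_of_right_le_normalizer_left P _ (hle.trans (centralizer_le_normalizer _))] at h1 h2
  obtain ⟨p, hp, r, hr, rfl⟩ := h1
  obtain ⟨p', hp', r', hr', rfl⟩ := h2
  have c1 : Commute r p' := (hc p' hp' r hr).symm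
  have c2 : Commute p r' := hc p hp r' hr'
  have c3 : Commute r r' := hR r hr r' hr'
  have c4 : Commute r p := (hc p hp r hr).symm
  have c5 : Commute p' r' := hc p' hp' r' hr'
  have e : ⁅p * r, p' * r'⁆ = ⁅p, p'⁆ := by
    simp only [commutatorElement_def, _root_.mul_inv_rev]
    calc p * r * (p' * r') * (r⁻¹ * p⁻¹) * (r'⁻¹ * p'⁻¹)
        = p * (r * (p' * r') * r⁻¹) * p⁻¹ * (r'⁻¹ * p'⁻¹) := by group
      _ = p * (p' * r') * p⁻¹ * (r'⁻¹ * p'⁻¹) := by rw [(c1.mul_right c3).eq, mul_inv_cancel_right]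
      _ = p * p' * (r' * p⁻¹) * (r'⁻¹ * p'⁻¹) := by group
      _ = p * p' * (p⁻¹ * r') * (r'⁻¹ * p'⁻¹) := by rw [c2.inv_left.eq]
      _ = _ := by group
  rw [e]
  exact commutator_mem_commutator hp hp'

namespace Setup

variable {A : Subgroup G} {z : G} (h : Setup A z)
include h

/-- A central involution of a Sylow `2`-subgroup `P` of `A` with a square root in `[[P, P], P]` is not
conjugate to `z` if `z` has no such root. -/
theorem not_isConj_of_series (hN : normalizer (A : Set G) ≤ A ⊔ centralizer (A : Set G))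
    (P : Sylow 2 ↥A) {u : G} (huA : u ∈ A)
    (hu : ∀ a ∈ (P : Subgroup ↥A).map A.subtype, a * u = u * a)
    (hroot : ∃ a ∈ (⁅⁅(P : Subgroup ↥A), (P : Subgroup ↥A)⁆, (P : Subgroup ↥A)⁆ : Subgroup ↥A),
      (a : G) * a = u)
    (hno : ∀ a ∈ (⁅⁅(P : Subgroup ↥A), (P : Subgroup ↥A)⁆, (P : Subgroup ↥A)⁆ : Subgroup ↥A),
      (a : G) * a ≠ z) : ¬ IsConj z u := by
  classical
  haveI : Fact (Nat.Prime 2) := ⟨Nat.prime_two⟩
  intro hzu
  obtain ⟨Q⟩ : Nonempty (Sylow 2 ↥(centralizer (A : Set G))) := inferInstance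
  set P' : Subgroup G := (P : Subgroup ↥A).map A.subtype with hP'
  set R' : Subgroup G := (Q : Subgroup ↥(centralizer (A : Set G))).map
    (centralizer (A : Set G)).subtype with hR'
  have hPA : P' ≤ A := map_subtype_le _
  have hRC : R' ≤ centralizer (A : Set G) := map_subtype_le _
  have hzP : z ∈ P' := h.mem_of_sylow P
  have hzR : z ∈ R' := mem_map.2 ⟨_, h.mem_sylow Q, rfl⟩
  have hC : centralizer ({z} : Set G) = A ⊔ centralizer (A : Set G) := by
    rw [h.centralizer_eq]
    exact le_antisymm hN (sup_le le_normalizer (centralizer_le_normalizer _))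
  have hSz : P' ⊔ R' ≤ centralizer ({z} : Set G) := hC ▸ sup_le_sup hPA hRC
  have hcardS : 2 * Nat.card ↥(P' ⊔ R' : Subgroup G) = Nat.card ↥P' * Nat.card ↥R' := by
    refine (h.card_mul_eq hPA hRC hzP hzR (P' ⊔ R' : Subgroup G) le_rfl).symm.trans ?_
    rw [← Nat.card_prod]
    exact Nat.card_congr (Equiv.subtypeUnivEquiv fun p =>
      mul_mem (mem_sup_left p.1.2) (mem_sup_right p.2.2))
  have hcardN : 2 * Nat.card ↥(A ⊔ centralizer (A : Set G) : Subgroup G) =
      Nat.card ↥A * Nat.card ↥(centralizer (A : Set G)) := by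
    refine (h.card_mul_eq le_rfl le_rfl h.hzA h.hzC (A ⊔ centralizer (A : Set G) : Subgroup G)
      le_rfl).symm.trans ?_
    rw [← Nat.card_prod]
    exact Nat.card_congr (Equiv.subtypeUnivEquiv fun p =>
      mul_mem (mem_sup_left p.1.2) (mem_sup_right p.2.2))
  have hodd : Odd ((P' ⊔ R').relIndex (centralizer ({z} : Set G))) := by
    have e1 := Subgroup.card_mul_index ((P' ⊔ R').subgroupOf (centralizer ({z} : Set G)))
    rw [Nat.card_congr (subgroupOfEquivOfLe hSz).toEquiv, hC] at e1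
    have eP : Nat.card ↥A = Nat.card ↥P' * (P : Subgroup ↥A).index := by
      rw [hP', card_map_of_injective A.subtype_injective, Subgroup.card_mul_index]
    have eR : Nat.card ↥(centralizer (A : Set G)) =
        Nat.card ↥R' * (Q : Subgroup ↥(centralizer (A : Set G))).index := by
      rw [hR', card_map_of_injective (centralizer (A : Set G)).subtype_injective,
        Subgroup.card_mul_index]
    rw [← e1, eP, eR, mul_mul_mul_comm, ← hcardS, ← mul_assoc] at hcardN
    have e3 := Nat.eq_of_mul_eq_mul_left (Nat.mul_pos two_pos Nat.card_pos) hcardN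
    rw [hC, Subgroup.relIndex]
    rw [e3]
    exact (Nat.not_even_iff_odd.1 fun he => P.not_dvd_index (even_iff_two_dvd.1 he)).mul
      (Nat.not_even_iff_odd.1 fun he => Q.not_dvd_index (even_iff_two_dvd.1 he))
  have hp : IsPGroup 2 ↥(P' ⊔ R') :=
    IsPGroup.to_sup_of_normal_left' (P.2.map A.subtype)
      (Q.2.map (centralizer (A : Set G)).subtype)
      (fun r hr => centralizer_le_normalizer _ (centralizer_le hPA (hRC hr)))
  have hSu : P' ⊔ R' ≤ centralizer ({u} : Set G) :=
    sup_le (fun a ha => mem_centralizer_singleton_iff.2 (hu a ha))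
      (fun r hr => mem_centralizer_singleton_iff.2 (mem_centralizer_iff.1 (hRC hr) u huA).symm)
  obtain ⟨y, hy, hyz⟩ := exists_normalizer_conj hp hSz hodd hSu hzu
  -- the third term of the series only sees `P`
  set S := P' ⊔ R' with hS
  set T : Subgroup ↥A := ⁅⁅(P : Subgroup ↥A), (P : Subgroup ↥A)⁆, (P : Subgroup ↥A)⁆ with hT
  have hcomm : ∀ p ∈ P', ∀ r ∈ R', p * r = r * p := fun p hp r hr =>
    mem_centralizer_iff.1 (hRC hr) p (hPA hp)
  have hRR : ∀ r ∈ R', ∀ r' ∈ R', r * r' = r' * r := by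
    intro r hr r' hr'
    obtain ⟨a, ha, rfl⟩ := mem_map.1 hr
    obtain ⟨b, hb, rfl⟩ := mem_map.1 hr'
    haveI := h.cyc Q
    letI : CommGroup ↥(Q : Subgroup ↥(centralizer (A : Set G))) := IsCyclic.commGroup
    exact congrArg (fun w : ↥(Q : Subgroup ↥(centralizer (A : Set G))) =>
      ((w : ↥(centralizer (A : Set G))) : G)) (mul_comm (⟨a, ha⟩ : ↥(Q : Subgroup _)) ⟨b, hb⟩)
  have hTmap : T.map A.subtype = ⁅⁅P', P'⁆, P'⁆ := by
    rw [hT, map_commutator, map_commutator]
  have hST : ⁅⁅S, S⁆, S⁆ = T.map A.subtype := by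
    refine le_antisymm ?_ (hTmap.le.trans ?_)
    · rw [hTmap]
      refine (commutator_mono (commutator_sup_self_le hcomm hRR) le_rfl).trans ?_
      refine commutator_sup_le ?_ hcomm
      rw [commutator_le]
      exact fun a ha b hb => mul_mem (mul_mem (mul_mem ha hb) (inv_mem ha)) (inv_mem hb)
    · exact commutator_mono (commutator_mono le_sup_left le_sup_left) le_sup_left
  have hyS : S.map (MulAut.conj y⁻¹).toMonoidHom = S := by
    have hy' := inv_mem hy
    ext x
    rw [mem_map]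
    constructor
    · rintro ⟨s, hs, rfl⟩
      exact (mem_normalizer_iff.1 hy' s).1 hs
    · intro hx
      refine ⟨y⁻¹⁻¹ * x * y⁻¹, (mem_normalizer_iff''.1 hy' x).1 hx, ?_⟩
      show y⁻¹ * (y⁻¹⁻¹ * x * y⁻¹) * y⁻¹⁻¹ = x
      group
  obtain ⟨a, ha, hau⟩ := hroot
  have hmem : y⁻¹ * (a : G) * y⁻¹⁻¹ ∈ (T.map A.subtype) := by
    rw [← hST]
    have : (⁅⁅S, S⁆, S⁆).map (MulAut.conj y⁻¹).toMonoidHom = ⁅⁅S, S⁆, S⁆ := by
      rw [map_commutator, map_commutator, hyS]
    rw [← this]
    exact mem_map.2 ⟨a, hST.symm ▸ mem_map.2 ⟨a, ha, rfl⟩, rfl⟩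
  obtain ⟨b, hb, hbe⟩ := mem_map.1 hmem
  refine hno b hb ?_
  change (b : G) = _ at hbe
  rw [hbe, show y⁻¹ * (a : G) * y⁻¹⁻¹ * (y⁻¹ * (a : G) * y⁻¹⁻¹) = y⁻¹ * ((a : G) * a) * y by group, hau, ← hyz]
  group

end Setup

/-- A centrally closed perfect cover maps onto every stem extension of its quotient. -/
theorem exists_hom_of_closed {Q S Γ : Type u} [Group Q] [Group S] [Finite S] [Group Γ] [Finite Γ]
    (π : S →* Q) (hπ : Function.Surjective π) (hperf : commutator S = ⊤)
    (hclosed : ∀ (E : Type u) [Group E] [Finite E] (p : E →* S), Function.Surjective p →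
      p.ker ≤ Subgroup.center E → commutator E = ⊤ → Function.Injective p)
    (σ : Γ →* Q) (hσs : Function.Surjective σ) (hσc : σ.ker ≤ Subgroup.center Γ)
    (hσd : σ.ker ≤ commutator Γ) : ∃ φ : S →* Γ, Function.Surjective φ ∧ ∀ s, σ (φ s) = π s := by
  let R : Subgroup (Γ × S) := (σ.comp (MonoidHom.fst Γ S)).eqLocus (π.comp (MonoidHom.snd Γ S))
  let p : R →* S := (MonoidHom.snd Γ S).comp R.subtype
  have hps : Function.Surjective p := fun s => by
    obtain ⟨g, hg⟩ := hσs (π s)
    exact ⟨⟨(g, s), hg⟩, rfl⟩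
  have hpc : p.ker ≤ Subgroup.center R := by
    rintro ⟨⟨g, s⟩, hg⟩ hp
    have hs : s = 1 := hp
    subst hs
    have hg1 : g ∈ σ.ker := by
      have : σ g = π 1 := hg
      rwa [map_one] at this
    rw [Subgroup.mem_center_iff]
    rintro ⟨⟨g', s'⟩, hg'⟩
    apply Subtype.ext
    show (g' * g, s' * 1) = (g * g', 1 * s')
    rw [Subgroup.mem_center_iff.1 (hσc hg1) g', one_mul, mul_one]
  set H := commutator R with hH
  have hHmap : H.map p = ⊤ := by
    rw [hH, commutator_def, Subgroup.map_commutator, Subgroup.map_top_of_surjective p hps,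
      ← commutator_def, hperf]
  let q : H →* S := p.comp H.subtype
  have hqs : Function.Surjective q := fun s => by
    obtain ⟨x, hx, rfl⟩ : s ∈ H.map p := hHmap ▸ Subgroup.mem_top _
    exact ⟨⟨x, hx⟩, rfl⟩
  have hqc : q.ker ≤ Subgroup.center H := by
    intro x hx
    have := hpc (x := x.1) hx
    rw [Subgroup.mem_center_iff] at this ⊢
    exact fun y => Subtype.ext (this y.1)
  have hHH : H ≤ ⁅H, H⁆ := by
    refine SLCover.commutator_le_of_map_eq_top p hpc ⁅H, H⁆ ?_
    rw [Subgroup.map_commutator, hHmap, ← commutator_def, hperf]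
  have hqp : commutator H = ⊤ := by
    apply Subgroup.map_injective H.subtype_injective
    rw [commutator_def, Subgroup.map_commutator, ← MonoidHom.range_eq_map, Subgroup.range_subtype]
    exact le_antisymm ((Subgroup.commutator_le).2 fun a ha b hb =>
      mul_mem (mul_mem (mul_mem ha hb) (inv_mem ha)) (inv_mem hb)) hHH
  have hqi := hclosed H q hqs hqc hqp
  let eqv : H ≃* S := MulEquiv.ofBijective q ⟨hqi, hqs⟩
  let φ : S →* Γ := ((MonoidHom.fst Γ S).comp (R.subtype.comp H.subtype)).comp eqv.symm.toMonoidHom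
  have hφ : ∀ s, σ (φ s) = π s := by
    intro s
    have h1 : σ (φ s) = π (q (eqv.symm s)) := (eqv.symm s).1.2
    rw [h1]
    congr 1
    exact eqv.apply_symm_apply s
  refine ⟨φ, fun g => ?_, hφ⟩
  have hmap : φ.range.map σ = ⊤ := by
    rw [eq_top_iff]
    intro y _
    obtain ⟨s, rfl⟩ := hπ y
    exact ⟨φ s, ⟨s, rfl⟩, hφ s⟩
  obtain ⟨x, hx, hxg⟩ : σ g ∈ φ.range.map σ := hmap ▸ Subgroup.mem_top _
  have hk : x⁻¹ * g ∈ σ.ker := by simp [MonoidHom.mem_ker, hxg]
  have := mul_mem hx (SLCover.commutator_le_of_map_eq_top σ hσc _ hmap (hσd hk))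
  rwa [mul_inv_cancel_left] at this

end CfsgLib.StdForm.DoubleCover
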