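import Mathlib
import Cfsg.Prelude.Def_Local
import Cfsg.Prelude.Def_CaseTheorems
import Cfsg.Agent.Lib.Invol.GlaubermanZStar

/-!
# Standard double covers with cyclic Sylow 2-subgroups in the centralizer

Let `A` be a standard subgroup whose centre is `{1, z}` and whose centralizer has cyclic Sylow
`2`-subgroups. Then `C(z) = N(A)`. If moreover `N(A) ≤ A C(A)` and no involution of `A` other than
`z` is conjugate to `z`, then `A` is normal when the core of the group is trivial.
-/

set_option autoImplicit false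

open Subgroup

namespace CfsgLib.StdForm.DoubleCover

universe u

variable {G : Type u} [Group G]

/-- `A` is a standard subgroup with centre `{1, z}` and cyclic Sylow `2`-subgroups in its
centralizer. -/
structure Setup (A : Subgroup G) (z : G) : Prop where
  std : Cfsg.IsStandardSubgroup A
  hz : orderOf z = 2
  hzA : z ∈ A
  hzC : z ∈ centralizer (A : Set G)
  uniq : ∀ x ∈ A, x ∈ centralizer (A : Set G) → x = 1 ∨ x = z
  cyc : ∀ R : Sylow 2 ↥(centralizer (A : Set G)),
    IsCyclic ↥(R : Subgroup ↥(centralizer (A : Set G)))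

/-- A centre of order two gives a setup. -/
theorem exists_setup [Finite G] {A : Subgroup G} (hA : Cfsg.IsStandardSubgroup A)
    (hZ : Nat.card ↥(center ↥A) = 2)
    (hR : ∀ R : Sylow 2 ↥(centralizer (A : Set G)),
      IsCyclic ↥(R : Subgroup ↥(centralizer (A : Set G)))) : ∃ z, Setup A z := by
  haveI : Fact (Nat.Prime 2) := ⟨Nat.prime_two⟩
  obtain ⟨c, hc⟩ := exists_prime_orderOf_dvd_card' (G := ↥(center ↥A)) 2 (by rw [hZ])
  refine ⟨((c : ↥A) : G), hA, ?_, (c : ↥A).2, ?_, fun x hxA hxC => ?_, hR⟩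
  · rw [orderOf_submonoid, orderOf_submonoid, hc]
  · refine mem_centralizer_iff.2 fun a ha => ?_
    exact congrArg Subtype.val (mem_center_iff.1 c.2 ⟨a, ha⟩)
  · have hx : (⟨x, hxA⟩ : ↥A) ∈ center ↥A := mem_center_iff.2 fun g =>
      Subtype.ext (mem_centralizer_iff.1 hxC g g.2)
    obtain ⟨p, q, hpq, hu⟩ := Nat.card_eq_two_iff.1 hZ
    have hc1 : c ≠ 1 := fun h => by rw [h, orderOf_one] at hc; omega
    have hall : ∀ y : ↥(center ↥A), y = p ∨ y = q := fun y => by
      have := hu.symm ▸ Set.mem_univ y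
      simpa using this
    by_cases hx1 : (⟨⟨x, hxA⟩, hx⟩ : ↥(center ↥A)) = 1
    · exact Or.inl (congrArg (fun y : ↥(center ↥A) => ((y : ↥A) : G)) hx1)
    · refine Or.inr (congrArg (fun y : ↥(center ↥A) => ((y : ↥A) : G))
        (?_ : (⟨⟨x, hxA⟩, hx⟩ : ↥(center ↥A)) = c))
      rcases hall ⟨⟨x, hxA⟩, hx⟩ with h1 | h1 <;> rcases hall 1 with h2 | h2 <;>
        rcases hall c with h3 | h3 <;> grind

namespace Setup

variable {A : Subgroup G} {z : G} (h : Setup A z)
include h

theorem sq_eq : z * z = 1 := by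
  rw [← pow_two, ← h.hz]; exact pow_orderOf_eq_one z

theorem ne_one : z ≠ 1 := fun e => by have := h.hz; rw [e, orderOf_one] at this; omega

/-- The centre is fixed by the normalizer. -/
theorem conj_eq {g : G} (hg : g ∈ normalizer (A : Set G)) : g * z * g⁻¹ = z := by
  have hgC : g ∈ normalizer (centralizer (A : Set G) : Set G) := h.std.2.2.2 ▸ hg
  rcases h.uniq _ ((mem_normalizer_iff.1 hg z).1 h.hzA)
    ((mem_normalizer_iff.1 hgC z).1 h.hzC) with e | e
  · exact absurd (conj_eq_one_iff.1 e) h.ne_one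
  · exact e

/-- The centralizer of `z` is the normalizer of `A`. -/
theorem centralizer_eq : centralizer ({z} : Set G) = normalizer (A : Set G) := by
  refine le_antisymm (fun g hg => ?_) fun g hg => ?_
  · rw [h.std.2.2.2]
    by_contra hgn
    have hodd := h.std.2.1.2 g hgn
    have hgz : g * z * g⁻¹ = z := by
      rw [mem_centralizer_singleton_iff.1 hg, mul_inv_cancel_right]
    have hmem : z ∈ centralizer (A : Set G) ⊓
        (centralizer (A : Set G)).map (MulAut.conj g).toMonoidHom :=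
      ⟨h.hzC, mem_map.2 ⟨z, h.hzC, by simp [MulAut.conj_apply, hgz]⟩⟩
    have hd := Subgroup.orderOf_dvd_natCard _ hmem
    rw [h.hz] at hd
    exact Nat.not_even_iff_odd.2 hodd (even_iff_two_dvd.2 hd)
  · exact mem_centralizer_singleton_iff.2 (mul_inv_eq_iff_eq_mul.1 (h.conj_eq hg))

theorem commute_of_mem_centralizer {k : G} (hk : k ∈ centralizer (A : Set G)) : Commute k z :=
  (mem_centralizer_iff.1 hk z h.hzA).symm

theorem mem_sylow (R : Sylow 2 ↥(centralizer (A : Set G))) :
    (⟨z, h.hzC⟩ : ↥(centralizer (A : Set G))) ∈ (R : Subgroup ↥(centralizer (A : Set G))) := by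
  set z' : ↥(centralizer (A : Set G)) := ⟨z, h.hzC⟩
  have hn : (zpowers z').Normal := by
    refine ⟨fun n hn g => ?_⟩
    obtain ⟨i, rfl⟩ := mem_zpowers_iff.1 hn
    have hc : Commute g z' := Subtype.ext (h.commute_of_mem_centralizer g.2).eq
    rw [(hc.zpow_right i).eq, mul_inv_cancel_right]
    exact zpow_mem (mem_zpowers z') i
  have hp : IsPGroup 2 ↥(zpowers z') := IsPGroup.of_card (n := 1) (by
    rw [Nat.card_zpowers, ← orderOf_submonoid z']
    exact h.hz.trans (pow_one 2).symm)
  have := R.is_maximal' (hp.to_sup_of_normal_left R.2) le_sup_right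
  exact this ▸ mem_sup_left (mem_zpowers z')

/-- Elements squaring to one in a Sylow `2`-subgroup of the centralizer lie in `{1, z}`. -/
theorem eq_of_sq_mem_sylow [Finite G] (R : Sylow 2 ↥(centralizer (A : Set G)))
    {x : ↥(centralizer (A : Set G))} (hx : x ∈ (R : Subgroup ↥(centralizer (A : Set G))))
    (hsq : x * x = 1) : (x : G) = 1 ∨ (x : G) = z := by
  classical
  haveI := h.cyc R
  haveI := Fintype.ofFinite ↥(R : Subgroup ↥(centralizer (A : Set G)))
  by_contra hne
  push Not at hne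
  let a : ↥(R : Subgroup ↥(centralizer (A : Set G))) := ⟨x, hx⟩
  let b : ↥(R : Subgroup ↥(centralizer (A : Set G))) := ⟨⟨z, h.hzC⟩, h.mem_sylow R⟩
  have hle := IsCyclic.card_pow_eq_one_le (α := ↥(R : Subgroup ↥(centralizer (A : Set G))))
    (n := 2) two_pos
  have hsub : ({1, a, b} : Finset ↥(R : Subgroup ↥(centralizer (A : Set G)))) ⊆
      Finset.univ.filter (fun y => y ^ 2 = 1) := by
    intro y hy
    simp only [Finset.mem_insert, Finset.mem_singleton] at hy
    refine Finset.mem_filter.2 ⟨Finset.mem_univ _, ?_⟩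
    rcases hy with rfl | rfl | rfl
    · exact one_pow 2
    · exact Subtype.ext ((pow_two x).trans hsq)
    · exact Subtype.ext (Subtype.ext ((pow_two z).trans h.sq_eq))
  have h3 : ({1, a, b} : Finset ↥(R : Subgroup ↥(centralizer (A : Set G)))).card = 3 := by
    refine Finset.card_eq_three.2 ⟨1, a, b, fun e => hne.1 ?_, fun e => h.ne_one ?_,
      fun e => hne.2 ?_, rfl⟩
    · exact (congrArg (fun y : ↥(R : Subgroup ↥(centralizer (A : Set G))) => ((y : ↥(centralizer (A : Set G))) : G)) e).symm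
    · exact (congrArg (fun y : ↥(R : Subgroup ↥(centralizer (A : Set G))) => ((y : ↥(centralizer (A : Set G))) : G)) e).symm
    · exact congrArg (fun y : ↥(R : Subgroup ↥(centralizer (A : Set G))) => ((y : ↥(centralizer (A : Set G))) : G)) e
  have := (Finset.card_le_card hsub).trans hle
  omega

/-- `z` is the only involution of the centralizer of `A`. -/
theorem eq_of_sq [Finite G] {x : G} (hx : x ∈ centralizer (A : Set G)) (hsq : x * x = 1) :
    x = 1 ∨ x = z := by
  set x' : ↥(centralizer (A : Set G)) := ⟨x, hx⟩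
  have hsq' : x' * x' = 1 := Subtype.ext hsq
  have hp : IsPGroup 2 ↥(zpowers x') := by
    intro y
    obtain ⟨i, hi⟩ := mem_zpowers_iff.1 y.2
    refine ⟨1, Subtype.ext ?_⟩
    show (y : ↥(centralizer (A : Set G))) ^ (2 ^ 1) = 1
    rw [← hi, pow_one, ← zpow_natCast, ← zpow_mul, mul_comm, zpow_mul]
    simp [pow_two, hsq']
  obtain ⟨R, hR⟩ := hp.exists_le_sylow
  exact h.eq_of_sq_mem_sylow R (hR (mem_zpowers x')) hsq'

omit h in
theorem exists_mul_of_mem_sup {g : G} (hg : g ∈ A ⊔ centralizer (A : Set G)) :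
    ∃ a ∈ A, ∃ k ∈ centralizer (A : Set G), g = a * k := by
  have hle : centralizer (A : Set G) ≤ normalizer (A : Set G) := centralizer_le_normalizer _
  have h2 := SetLike.mem_coe.2 hg
  rw [Subgroup.coe_mul_of_right_le_normalizer_left A _ hle] at h2
  obtain ⟨a, ha, k, hk, rfl⟩ := h2
  exact ⟨a, ha, k, hk, rfl⟩

/-- If a conjugate `u ≠ z` of `z` lies in `A C(A)` and so does every element of order dividing
`|C(A)|` of `C(u)` pulled back, then a conjugate of `z` other than `z` lies in `A`. -/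
theorem mem_of_fused' [Finite G] {g : G}
    (hu : g * z * g⁻¹ ∈ A ⊔ centralizer (A : Set G)) (hne : g * z * g⁻¹ ≠ z)
    (hout : ∀ r ∈ centralizer (A : Set G), Commute r (g * z * g⁻¹) →
      g⁻¹ * r * g ∈ A ⊔ centralizer (A : Set G)) :
    ∃ x : G, x * z * x⁻¹ ∈ A ∧ x * z * x⁻¹ ≠ z := by
  classical
  haveI : Fact (Nat.Prime 2) := ⟨Nat.prime_two⟩
  obtain ⟨a, ha, k, hk, huak⟩ := exists_mul_of_mem_sup hu
  have hak : Commute a k := mem_centralizer_iff.1 hk a ha
  have hu2 : (a * k) * (a * k) = 1 := by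
    rw [← huak, show g * z * g⁻¹ * (g * z * g⁻¹) = g * (z * z) * g⁻¹ by group, h.sq_eq, mul_one,
      mul_inv_cancel]
  have hk2A : k * k ∈ A := by
    have : k * k = (a * a)⁻¹ := by
      refine eq_inv_of_mul_eq_one_right ?_
      rw [← hu2]
      exact (hak.symm.mul_mul_mul_comm a k).symm
    rw [this]
    exact inv_mem (mul_mem ha ha)
  rcases h.uniq _ hk2A (mul_mem hk hk) with hk2 | hk2
  · refine ⟨g, ?_, hne⟩
    rw [huak]
    rcases h.eq_of_sq hk hk2 with e | e
    · rw [e, mul_one]; exact ha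
    · rw [e]; exact mul_mem ha h.hzA
  · -- `k` has order four: use a generator of a Sylow 2-subgroup containing it
    set k' : ↥(centralizer (A : Set G)) := ⟨k, hk⟩
    have hk4 : k' ^ 4 = 1 := Subtype.ext (by
      show k ^ 4 = 1
      rw [show k ^ 4 = k * k * (k * k) by simp [pow_succ, mul_assoc], hk2, h.sq_eq])
    have hp : IsPGroup 2 ↥(zpowers k') := by
      intro y
      obtain ⟨i, hi⟩ := mem_zpowers_iff.1 y.2
      refine ⟨2, Subtype.ext ?_⟩
      show (y : ↥(centralizer (A : Set G))) ^ (2 ^ 2) = 1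
      rw [← hi, ← zpow_natCast, ← zpow_mul, mul_comm, zpow_mul, zpow_natCast,
        show (2 ^ 2 : ℕ) = 4 from rfl, hk4, one_zpow]
    obtain ⟨R, hR⟩ := hp.exists_le_sylow
    haveI := h.cyc R
    obtain ⟨r, hr⟩ := IsCyclic.exists_generator (α := ↥(R : Subgroup ↥(centralizer (A : Set G))))
    set r₀ : G := ((r : ↥(centralizer (A : Set G))) : G) with hr₀
    have hr₀C : r₀ ∈ centralizer (A : Set G) := (r : ↥(centralizer (A : Set G))).2
    obtain ⟨i, hi⟩ := mem_zpowers_iff.1 (hr ⟨k', hR (mem_zpowers k')⟩)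
    have hki : r₀ ^ i = k := by
      have := congrArg (fun y : ↥(R : Subgroup ↥(centralizer (A : Set G))) =>
        ((y : ↥(centralizer (A : Set G))) : G)) hi
      simpa [hr₀] using this
    have hru : Commute r₀ (g * z * g⁻¹) := by
      rw [huak]
      refine Commute.mul_right (mem_centralizer_iff.1 hr₀C a ha).symm ?_
      rw [← hki]
      exact (Commute.refl r₀).zpow_right i
    obtain ⟨b, hb, l, hl, hbl⟩ := exists_mul_of_mem_sup (hout r₀ hr₀C hru)
    obtain ⟨m, hm⟩ := R.2.exists_card_eq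
    have hord : orderOf r₀ = 2 ^ m := by
      rw [hr₀, orderOf_submonoid, orderOf_submonoid, orderOf_eq_card_of_forall_mem_zpowers hr, hm]
    have hm1 : 1 ≤ m := by
      rcases m with _ | m
      · rw [pow_zero, orderOf_eq_one_iff] at hord
        rw [hord, one_zpow] at hki
        rw [← hki, mul_one] at hk2
        exact absurd hk2.symm h.ne_one
      · omega
    have hR0 : r₀ ^ 2 ^ (m - 1) = z := by
      have hx : r₀ ^ 2 ^ (m - 1) ∈ centralizer (A : Set G) := pow_mem hr₀C _
      have hx2 : r₀ ^ 2 ^ (m - 1) * r₀ ^ 2 ^ (m - 1) = 1 := by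
        rw [← pow_add, ← two_mul, ← pow_succ', show m - 1 + 1 = m by omega, ← hord,
          pow_orderOf_eq_one]
      refine (h.eq_of_sq hx hx2).resolve_left fun e => ?_
      have hd := orderOf_dvd_of_pow_eq_one e
      rw [hord, Nat.pow_dvd_pow_iff_le_right one_lt_two] at hd
      omega
    -- the same power of `l` lies in `{1, z}`
    have hbl' : Commute b l := mem_centralizer_iff.1 hl b hb
    have hgz : g⁻¹ * z * g = b ^ 2 ^ (m - 1) * l ^ 2 ^ (m - 1) := by
      rw [← hbl'.mul_pow, ← hbl, ← hR0]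
      have := (conj_pow (i := 2 ^ (m - 1)) (a := g⁻¹) (b := r₀)).symm
      simpa using this
    set j := l ^ 2 ^ (m - 1) with hj
    have hjC : j ∈ centralizer (A : Set G) := pow_mem hl _
    have hj2A : j * j ∈ A := by
      have hsq : (b ^ 2 ^ (m - 1) * j) * (b ^ 2 ^ (m - 1) * j) = 1 := by
        rw [← hgz, show g⁻¹ * z * g * (g⁻¹ * z * g) = g⁻¹ * (z * z) * g by group, h.sq_eq, mul_one,
          inv_mul_cancel]
      have : j * j = (b ^ 2 ^ (m - 1) * b ^ 2 ^ (m - 1))⁻¹ := by
        refine eq_inv_of_mul_eq_one_right ?_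
        rw [← hsq]
        exact ((hbl'.pow_pow (2 ^ (m - 1)) (2 ^ (m - 1))).symm.mul_mul_mul_comm _ _).symm
      rw [this]
      exact inv_mem (mul_mem (pow_mem hb _) (pow_mem hb _))
    have hj2 : j * j = 1 := by
      refine (h.uniq _ hj2A (mul_mem hjC hjC)).resolve_right fun e => ?_
      have hl2m : l ^ 2 ^ m = z := by
        rw [← e, hj, ← pow_add, ← two_mul, ← pow_succ', show m - 1 + 1 = m by omega]
      have hcard : Nat.card ↥(centralizer (A : Set G)) =
          2 ^ m * (R : Subgroup ↥(centralizer (A : Set G))).index := by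
        rw [← hm]; exact (Subgroup.card_mul_index _).symm
      have hoddI : Odd (R : Subgroup ↥(centralizer (A : Set G))).index :=
        Nat.not_even_iff_odd.1 fun he => R.not_dvd_index (even_iff_two_dvd.1 he)
      have h1 : l ^ Nat.card ↥(centralizer (A : Set G)) = 1 :=
        congrArg (fun y : ↥(centralizer (A : Set G)) => (y : G))
          (pow_card_eq_one' (G := ↥(centralizer (A : Set G))) (x := ⟨l, hl⟩))
      obtain ⟨c, hc⟩ := hoddI
      rw [hcard, pow_mul, hl2m, hc, pow_succ, pow_mul, pow_two, h.sq_eq, one_pow, one_mul] at h1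
      exact h.ne_one h1
    have hjA : j ∈ A := by
      rcases h.eq_of_sq hjC hj2 with e | e
      · rw [e]; exact one_mem A
      · rw [e]; exact h.hzA
    refine ⟨g⁻¹, ?_, fun e => hne ?_⟩
    · rw [inv_inv, hgz]; exact mul_mem (pow_mem hb _) hjA
    · rw [inv_inv] at e
      calc g * z * g⁻¹ = g * (g⁻¹ * z * g) * g⁻¹ := by rw [e]
        _ = z := by group

/-- If `N(A) ≤ A C(A)` and a conjugate of `z` other than `z` commutes with `z`, then some
conjugate of `z` other than `z` lies in `A`. -/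
theorem mem_of_fused [Finite G] (hN : normalizer (A : Set G) ≤ A ⊔ centralizer (A : Set G))
    {g : G} (hgN : g * z * g⁻¹ ∈ normalizer (A : Set G)) (hne : g * z * g⁻¹ ≠ z) :
    ∃ x : G, x * z * x⁻¹ ∈ A ∧ x * z * x⁻¹ ≠ z := by
  refine h.mem_of_fused' (hN hgN) hne fun r _ hr => hN ?_
  rw [← h.centralizer_eq, mem_centralizer_singleton_iff]
  have h0 : r * (g * z * g⁻¹) = g * z * g⁻¹ * r := hr.eq
  calc g⁻¹ * r * g * z = g⁻¹ * (r * (g * z * g⁻¹)) * g := by group
    _ = g⁻¹ * (g * z * g⁻¹ * r) * g := by rw [h0]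
    _ = z * (g⁻¹ * r * g) := by group

/-- `A` is normal if no conjugate of `z` other than `z` commutes with `z`. -/
theorem normal_of_isolated [Finite G] (hO : Cfsg.oddCore G = ⊥)
    (hiso : ∀ g : G, g * z * g⁻¹ ∈ normalizer (A : Set G) → g * z * g⁻¹ = z) : A.Normal := by
  have hI : Cfsg.IsIsolatedInvolution z := ⟨h.hz, fun g hg => hiso g (by
    rw [← h.centralizer_eq, mem_centralizer_singleton_iff]; exact hg.eq.symm)⟩
  rw [← normalizer_eq_top_iff, ← h.centralizer_eq, eq_top_iff]
  intro g _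
  have hmem := CfsgLib.Invol.zStar hI g
  rw [show Cfsg.pPrimeCore 2 G = ⊥ from hO, mem_bot] at hmem
  refine mem_centralizer_singleton_iff.2 ?_
  calc g * z = z * g * z⁻¹ * g⁻¹ * (g * z) := by rw [hmem, one_mul]
    _ = z * g := by group

/-- If `N(A) ≤ A C(A)` and no involution of `A` other than `z` is conjugate to `z`, then `A` is
normal. -/
theorem normal_of_not_fused [Finite G] (hO : Cfsg.oddCore G = ⊥)
    (hN : normalizer (A : Set G) ≤ A ⊔ centralizer (A : Set G))
    (hno : ∀ u ∈ A, orderOf u = 2 → u ≠ z → ¬ IsConj z u) : A.Normal := by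
  refine h.normal_of_isolated hO fun g hg => ?_
  by_contra hne
  obtain ⟨x, hxA, hxne⟩ := h.mem_of_fused hN hg hne
  exact hno _ hxA ((MulAut.conj x).orderOf_eq z ▸ h.hz) hxne (isConj_iff.2 ⟨x, rfl⟩)

end Setup

/-- If every automorphism of `A ⧸ Z(A)` is inner and `A` is perfect, then `N(A) ≤ A C(A)`. -/
theorem normalizer_le_of_inner {A : Subgroup G} [Group.IsPerfect ↥A]
    (hinn : ∀ φ : MulAut (↥A ⧸ center ↥A), ∃ a, φ = MulAut.conj a) :
    normalizer (A : Set G) ≤ A ⊔ centralizer (A : Set G) := by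
  intro g hg
  let φ : MulAut ↥A := Subgroup.normalizerMonoidHom A ⟨g, hg⟩
  let ψ : MulAut (↥A ⧸ center ↥A) := QuotientGroup.congr (center ↥A) (center ↥A) φ
    (by
      ext x
      refine ⟨?_, fun hx => mem_map.2 ⟨φ.symm x, mem_center_iff.2 fun w => ?_, by simp⟩⟩
      · intro hx
        obtain ⟨y, hy, rfl⟩ := mem_map.1 hx
        refine mem_center_iff.2 fun w => ?_
        obtain ⟨w, rfl⟩ := φ.surjective w
        exact ((map_mul φ w y).symm.trans (congrArg φ (mem_center_iff.1 hy w))).trans (map_mul φ y w)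
      · apply φ.injective
        simpa using mem_center_iff.1 hx (φ w))
  obtain ⟨q, hq⟩ := hinn ψ
  obtain ⟨a, rfl⟩ := QuotientGroup.mk'_surjective (center ↥A) q
  -- `a⁻¹ g` centralizes `A`
  let θ : MulAut ↥A := MulAut.conj a⁻¹ * φ
  have hθc : ∀ x : ↥A, θ x * x⁻¹ ∈ center ↥A := by
    intro x
    have h1 := DFunLike.congr_fun hq (QuotientGroup.mk x)
    have h2 : (QuotientGroup.mk (φ x) : ↥A ⧸ center ↥A) = QuotientGroup.mk (a * x * a⁻¹) := h1
    rw [← QuotientGroup.eq_one_iff, show θ x = a⁻¹ * φ x * a by simp [θ]]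
    simp only [QuotientGroup.mk_mul, QuotientGroup.mk_inv, h2]
    group
  let δ : ↥A →* ↥(center ↥A) :=
    { toFun := fun x => ⟨θ x * x⁻¹, hθc x⟩
      map_one' := Subtype.ext (by simp)
      map_mul' := fun x y => Subtype.ext (by
        show θ (x * y) * (x * y)⁻¹ = θ x * x⁻¹ * (θ y * y⁻¹)
        rw [map_mul, mul_inv_rev, mul_assoc (θ x) x⁻¹, mem_center_iff.1 (hθc y) x⁻¹]
        group) }
  have hker : commutator ↥A ≤ δ.ker := by
    letI : CommGroup ↥(center ↥A) :=
      { mul_comm := fun p q => Subtype.ext (mem_center_iff.1 q.2 p.1) }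
    exact Abelianization.commutator_subset_ker δ
  have hθ1 : ∀ x : ↥A, θ x = x := fun x => by
    have := hker (Group.IsPerfect.commutator_eq_top (G := ↥A) ▸ mem_top x)
    exact mul_inv_eq_one.1 (congrArg Subtype.val (MonoidHom.mem_ker.1 this))
  have hc : (a : G)⁻¹ * g ∈ centralizer (A : Set G) := by
    refine mem_centralizer_iff.2 fun x hx => ?_
    have h1 : (a : G)⁻¹ * (g * x * g⁻¹) * (a : G) = x := congrArg Subtype.val
      ((show θ ⟨x, hx⟩ = a⁻¹ * φ ⟨x, hx⟩ * a by simp [θ]).symm.trans (hθ1 ⟨x, hx⟩))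
    calc x * ((a : G)⁻¹ * g) = (a : G)⁻¹ * (g * x * g⁻¹) * (a : G) * ((a : G)⁻¹ * g) := by rw [h1]
      _ = (a : G)⁻¹ * g * x := by group
  have : g = (a : G) * ((a : G)⁻¹ * g) := by group
  rw [this]
  exact mul_mem (mem_sup_left a.2) (mem_sup_right hc)

end CfsgLib.StdForm.DoubleCover
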