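import Cfsg.Agent.Lib.StdForm.DoubleCover

/-!
# Fusion in standard double covers by counting square roots

If an involution `u` is central in a Sylow `2`-subgroup of `C(z)` and conjugate to `z`, an
automorphism of that Sylow subgroup maps `z` to `u`, so both have the same number of square roots
there. For a standard double cover this number is computed in a Sylow `2`-subgroup of `A`.
-/

set_option autoImplicit false

open Subgroup
open scoped Pointwise

namespace CfsgLib.StdForm.DoubleCover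

universe u

variable {G : Type u} [Group G] [Finite G]

/-- The number of square roots of `x` in `T`. -/
noncomputable def roots (T : Subgroup G) (x : G) : ℕ := Nat.card {a : G // a ∈ T ∧ a * a = x}

/-- A conjugate of `z` centralizing a Sylow `2`-subgroup `S` of `C(z)` is the image of `z` under
an element of `N(S)`. -/
theorem exists_normalizer_conj {S : Subgroup G} {z u : G} (hS : IsPGroup 2 ↥S)
    (hSz : S ≤ centralizer ({z} : Set G))
    (hodd : Odd (S.relIndex (centralizer ({z} : Set G))))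
    (hSu : S ≤ centralizer ({u} : Set G)) (hzu : IsConj z u) :
    ∃ y ∈ normalizer (S : Set G), y * z * y⁻¹ = u := by
  classical
  haveI : Fact (Nat.Prime 2) := ⟨Nat.prime_two⟩
  obtain ⟨g, hg⟩ := isConj_iff.1 hzu
  set C := centralizer ({u} : Set G) with hC
  let S' : Subgroup G := S.map (MulAut.conj g).toMonoidHom
  have hCmap : (centralizer ({z} : Set G)).map (MulAut.conj g).toMonoidHom = C := by
    ext x
    rw [hC, mem_centralizer_singleton_iff, mem_map]
    constructor
    · rintro ⟨c, hc, rfl⟩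
      rw [mem_centralizer_singleton_iff] at hc
      show g * c * g⁻¹ * u = u * (g * c * g⁻¹)
      rw [← hg, show g * c * g⁻¹ * (g * z * g⁻¹) = g * (c * z) * g⁻¹ by group, hc]
      group
    · intro hx
      refine ⟨g⁻¹ * x * g, mem_centralizer_singleton_iff.2 ?_, by simp [mul_assoc]⟩
      rw [show z = g⁻¹ * u * g by rw [← hg]; group]
      calc g⁻¹ * x * g * (g⁻¹ * u * g) = g⁻¹ * (x * u) * g := by group
        _ = g⁻¹ * (u * x) * g := by rw [hx]
        _ = g⁻¹ * u * g * (g⁻¹ * x * g) := by group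
  have hS'C : S' ≤ C := hCmap ▸ map_mono hSz
  have hcard : Nat.card ↥S' = Nat.card ↥S := card_map_of_injective (MulAut.conj g).injective
  have hS'p : IsPGroup 2 ↥S' := hS.map _
  have hindex : ∀ T : Subgroup G, T ≤ C → Nat.card ↥T = Nat.card ↥S →
      ¬ 2 ∣ (T.subgroupOf C).index := by
    intro T hTC hT h2
    have h1 : Nat.card ↥C = Nat.card ↥(centralizer ({z} : Set G)) := by
      rw [← hCmap, card_map_of_injective (MulAut.conj g).injective]
    have e1 := Subgroup.card_mul_index (T.subgroupOf C)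
    have e2 := Subgroup.card_mul_index (S.subgroupOf (centralizer ({z} : Set G)))
    rw [Nat.card_congr (subgroupOfEquivOfLe hTC).toEquiv, hT, h1] at e1
    rw [Nat.card_congr (subgroupOfEquivOfLe hSz).toEquiv, ← e1] at e2
    have e3 := Nat.eq_of_mul_eq_mul_left Nat.card_pos e2
    rw [← e3] at h2
    exact Nat.not_even_iff_odd.2 hodd (even_iff_two_dvd.2 h2)
  let P₁ : Sylow 2 ↥C := (hS.comap_subtype (K := C)).toSylow
    (hindex S hSu rfl)
  let P₂ : Sylow 2 ↥C := (hS'p.comap_subtype (K := C)).toSylow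
    (hindex S' hS'C hcard)
  obtain ⟨c, hc⟩ := MulAction.exists_smul_eq ↥C P₂ P₁
  refine ⟨(c : G) * g, Subgroup.mem_normalizer_fintype fun s hs => ?_, ?_⟩
  · have hmem : (⟨g * s * g⁻¹, hS'C (mem_map.2 ⟨s, hs, rfl⟩)⟩ : ↥C) ∈ (P₂ : Subgroup ↥C) :=
      mem_subgroupOf.2 (mem_map.2 ⟨s, hs, rfl⟩)
    have := Subgroup.smul_mem_pointwise_smul _ (MulAut.conj c) (P₂ : Subgroup ↥C) hmem
    rw [show MulAut.conj c • (P₂ : Subgroup ↥C) = (P₁ : Subgroup ↥C) by
      rw [← hc]; rfl] at this
    have h' : (c : G) * (g * s * g⁻¹) * (c : G)⁻¹ ∈ S := mem_subgroupOf.1 this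
    show (c : G) * g * s * ((c : G) * g)⁻¹ ∈ (S : Set G)
    rw [show (c : G) * g * s * ((c : G) * g)⁻¹ = (c : G) * (g * s * g⁻¹) * (c : G)⁻¹ by group]
    exact h'
  · rw [show (c : G) * g * z * ((c : G) * g)⁻¹ = (c : G) * (g * z * g⁻¹) * (c : G)⁻¹ by group, hg,
      mem_centralizer_singleton_iff.1 c.2, mul_inv_cancel_right]

/-- Elements of the normalizer preserve the number of square roots. -/
theorem roots_conj {S : Subgroup G} {y : G} (hy : y ∈ normalizer (S : Set G)) (x : G) :
    roots S (y * x * y⁻¹) = roots S x :=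
  Nat.card_congr
    { toFun := fun a => ⟨y⁻¹ * a.1 * y, (mem_normalizer_iff''.1 hy a.1).1 a.2.1, by
        rw [show y⁻¹ * a.1 * y * (y⁻¹ * a.1 * y) = y⁻¹ * (a.1 * a.1) * y by group, a.2.2]; group⟩
      invFun := fun a => ⟨y * a.1 * y⁻¹, (mem_normalizer_iff.1 hy a.1).1 a.2.1, by
        rw [show y * a.1 * y⁻¹ * (y * a.1 * y⁻¹) = y * (a.1 * a.1) * y⁻¹ by group, a.2.2]⟩
      left_inv := fun a => Subtype.ext (by simp [mul_assoc])
      right_inv := fun a => Subtype.ext (by simp [mul_assoc]) }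

namespace Setup

variable {A : Subgroup G} {z : G} (h : Setup A z)
include h

/-- The product map `P × R → G` for `z ∈ P ≤ A`, `z ∈ R ≤ C(A)` and the size of its fibres. -/
theorem card_mul_eq {P R : Subgroup G} (hP : P ≤ A) (hR : R ≤ centralizer (A : Set G))
    (hzP : z ∈ P) (hzR : z ∈ R) (X : Set G) (hX : X ⊆ (P ⊔ R : Subgroup G)) :
    Nat.card {p : ↥P × ↥R // (p.1 : G) * p.2 ∈ X} = 2 * Nat.card X := by
  classical
  have hcomm : ∀ (a : ↥P) (r : ↥R), Commute (a : G) (r : G) := fun a r =>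
    mem_centralizer_iff.1 (hR r.2) a (hP a.2)
  let φ : ↥P × ↥R →* G := MonoidHom.noncommCoprod P.subtype R.subtype hcomm
  have hφ : ∀ p : ↥P × ↥R, φ p = (p.1 : G) * p.2 := fun p => rfl
  have hrange : φ.range = P ⊔ R := by
    refine (MonoidHom.noncommCoprod_range P.subtype R.subtype hcomm).trans ?_
    rw [range_subtype, range_subtype]
  let zz : ↥P × ↥R := (⟨z, hzP⟩, ⟨z, hzR⟩)
  have hker : ∀ p : ↥P × ↥R, p ∈ φ.ker ↔ p = 1 ∨ p = zz := by
    intro p
    rw [MonoidHom.mem_ker, hφ]
    constructor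
    · intro hp
      have hr : (p.2 : G) = (p.1 : G)⁻¹ := eq_inv_of_mul_eq_one_right hp
      rcases h.uniq _ (hr ▸ inv_mem (hP p.1.2)) (hR p.2.2) with e | e
      · refine Or.inl (Prod.ext (Subtype.ext ?_) (Subtype.ext e))
        rw [e, mul_one] at hp
        exact hp
      · refine Or.inr (Prod.ext (Subtype.ext ?_) (Subtype.ext e))
        rw [e] at hp
        exact (eq_inv_of_mul_eq_one_left hp).trans (inv_eq_of_mul_eq_one_left h.sq_eq)
    · rintro (rfl | rfl)
      · simp
      · exact h.sq_eq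
  have hcard : Nat.card φ.ker = 2 := by
    refine Nat.card_eq_two_iff.2 ⟨1, ⟨zz, (hker zz).2 (Or.inr rfl)⟩, fun e => h.ne_one ?_, ?_⟩
    · exact (congrArg (fun q : φ.ker => (((q : ↥P × ↥R).1 : ↥P) : G)) e).symm
    · ext q
      simp only [Set.mem_insert_iff, Set.mem_singleton_iff, Set.mem_univ, iff_true]
      rcases (hker q).1 q.2 with e | e
      · exact Or.inl (Subtype.ext e)
      · exact Or.inr (Subtype.ext e)
  have hfib : ∀ x : X, Nat.card {p : ↥P × ↥R // φ p = x} = 2 := by
    intro x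
    obtain ⟨p₀, hp₀⟩ : ∃ p, φ p = x := by
      have : (x : G) ∈ φ.range := hrange ▸ hX x.2
      exact MonoidHom.mem_range.1 this
    rw [← hcard]
    exact Nat.card_congr
      { toFun := fun p => ⟨p₀⁻¹ * p.1, MonoidHom.mem_ker.2 (by
          rw [map_mul, map_inv, hp₀, p.2, inv_mul_cancel])⟩
        invFun := fun q => ⟨p₀ * q.1, by
          rw [map_mul, MonoidHom.mem_ker.1 q.2, mul_one, hp₀]⟩
        left_inv := fun p => Subtype.ext (by simp)
        right_inv := fun q => Subtype.ext (by simp) }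
  let e : {p : ↥P × ↥R // (p.1 : G) * p.2 ∈ X} ≃ Σ x : X, {p : ↥P × ↥R // φ p = x} :=
    { toFun := fun p => ⟨⟨_, p.2⟩, p.1, rfl⟩
      invFun := fun s => ⟨s.2.1, show φ s.2.1 ∈ X from s.2.2.symm ▸ s.1.2⟩
      left_inv := fun p => rfl
      right_inv := by
        rintro ⟨⟨x, hx⟩, p, hp⟩
        have hp' : (p.1 : G) * p.2 = x := hp
        subst hp'
        rfl }
  haveI := Fintype.ofFinite X
  rw [Nat.card_congr e, Nat.card_sigma, Finset.sum_congr rfl (fun x _ => hfib x)]
  simp [Nat.card_eq_fintype_card, mul_comm]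

theorem mem_of_sylow (P : Sylow 2 ↥A) : z ∈ (P : Subgroup ↥A).map A.subtype := by
  set z' : ↥A := ⟨z, h.hzA⟩
  have hn : (zpowers z').Normal := by
    refine ⟨fun n hn g => ?_⟩
    obtain ⟨i, rfl⟩ := mem_zpowers_iff.1 hn
    have hc : Commute g z' := Subtype.ext (mem_centralizer_iff.1 h.hzC g g.2)
    rw [(hc.zpow_right i).eq, mul_inv_cancel_right]
    exact zpow_mem (mem_zpowers z') i
  have hp : IsPGroup 2 ↥(zpowers z') := IsPGroup.of_card (n := 1) (by
    rw [Nat.card_zpowers, ← orderOf_submonoid z']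
    exact h.hz.trans (pow_one 2).symm)
  have := P.is_maximal' (hp.to_sup_of_normal_left P.2) le_sup_right
  exact mem_map.2 ⟨z', this ▸ mem_sup_left (mem_zpowers z'), rfl⟩

/-- A conjugate `u ∈ A` of `z` centralizing a Sylow `2`-subgroup `P` of `A` is the image of `z`
under an element normalizing the product of `P` with a Sylow `2`-subgroup of `C(A)`. -/
theorem exists_normalizer_sup (hN : normalizer (A : Set G) ≤ A ⊔ centralizer (A : Set G))
    (P : Sylow 2 ↥A) (Q : Sylow 2 ↥(centralizer (A : Set G))) {u : G} (huA : u ∈ A)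
    (hu : ∀ a ∈ (P : Subgroup ↥A).map A.subtype, a * u = u * a) (hzu : IsConj z u) :
    ∃ y ∈ normalizer (((P : Subgroup ↥A).map A.subtype ⊔
        (Q : Subgroup ↥(centralizer (A : Set G))).map (centralizer (A : Set G)).subtype : Subgroup G) :
          Set G), y * z * y⁻¹ = u := by
  classical
  haveI : Fact (Nat.Prime 2) := ⟨Nat.prime_two⟩
  set P' : Subgroup G := (P : Subgroup ↥A).map A.subtype with hP'
  set R' : Subgroup G := (Q : Subgroup ↥(centralizer (A : Set G))).map
    (centralizer (A : Set G)).subtype with hR'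
  have hPA : P' ≤ A := map_subtype_le _
  have hRC : R' ≤ centralizer (A : Set G) := map_subtype_le _
  have hzP : z ∈ P' := h.mem_of_sylow P
  have hzR : z ∈ R' := mem_map.2 ⟨_, h.mem_sylow Q, rfl⟩
  have hC : centralizer ({z} : Set G) = A ⊔ centralizer (A : Set G) := by
    rw [h.centralizer_eq]
    exact le_antisymm hN (sup_le le_normalizer (centralizer_le_normalizer _))
  have hSz : P' ⊔ R' ≤ centralizer ({z} : Set G) := hC ▸ sup_le_sup hPA hRC
  have hcardS : 2 * Nat.card ↥(P' ⊔ R' : Subgroup G) = Nat.card ↥P' * Nat.card ↥R' := by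
    refine (h.card_mul_eq hPA hRC hzP hzR (P' ⊔ R' : Subgroup G) le_rfl).symm.trans ?_
    rw [← Nat.card_prod]
    exact Nat.card_congr (Equiv.subtypeUnivEquiv fun p =>
      mul_mem (mem_sup_left p.1.2) (mem_sup_right p.2.2))
  have hcardN : 2 * Nat.card ↥(A ⊔ centralizer (A : Set G) : Subgroup G) =
      Nat.card ↥A * Nat.card ↥(centralizer (A : Set G)) := by
    refine (h.card_mul_eq le_rfl le_rfl h.hzA h.hzC (A ⊔ centralizer (A : Set G) : Subgroup G)
      le_rfl).symm.trans ?_
    rw [← Nat.card_prod]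
    exact Nat.card_congr (Equiv.subtypeUnivEquiv fun p =>
      mul_mem (mem_sup_left p.1.2) (mem_sup_right p.2.2))
  have hodd : Odd ((P' ⊔ R').relIndex (centralizer ({z} : Set G))) := by
    have e1 := Subgroup.card_mul_index ((P' ⊔ R').subgroupOf (centralizer ({z} : Set G)))
    rw [Nat.card_congr (subgroupOfEquivOfLe hSz).toEquiv, hC] at e1
    have eP : Nat.card ↥A = Nat.card ↥P' * (P : Subgroup ↥A).index := by
      rw [hP', card_map_of_injective A.subtype_injective, Subgroup.card_mul_index]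
    have eR : Nat.card ↥(centralizer (A : Set G)) =
        Nat.card ↥R' * (Q : Subgroup ↥(centralizer (A : Set G))).index := by
      rw [hR', card_map_of_injective (centralizer (A : Set G)).subtype_injective,
        Subgroup.card_mul_index]
    rw [← e1, eP, eR, mul_mul_mul_comm, ← hcardS, ← mul_assoc] at hcardN
    have e3 := Nat.eq_of_mul_eq_mul_left (Nat.mul_pos two_pos Nat.card_pos) hcardN
    rw [hC, Subgroup.relIndex]
    rw [e3]
    exact (Nat.not_even_iff_odd.1 fun he => P.not_dvd_index (even_iff_two_dvd.1 he)).mul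
      (Nat.not_even_iff_odd.1 fun he => Q.not_dvd_index (even_iff_two_dvd.1 he))
  have hp : IsPGroup 2 ↥(P' ⊔ R') :=
    IsPGroup.to_sup_of_normal_left' (P.2.map A.subtype)
      (Q.2.map (centralizer (A : Set G)).subtype)
      (fun r hr => centralizer_le_normalizer _ (centralizer_le hPA (hRC hr)))
  have hSu : P' ⊔ R' ≤ centralizer ({u} : Set G) :=
    sup_le (fun a ha => mem_centralizer_singleton_iff.2 (hu a ha))
      (fun r hr => mem_centralizer_singleton_iff.2 (mem_centralizer_iff.1 (hRC hr) u huA).symm)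
  exact exists_normalizer_conj hp hSz hodd hSu hzu

/-- An involution of `A` centralizing a Sylow `2`-subgroup `P` of `A` is not conjugate to `z` if
the square roots of `z` and `u` in `P` are counted differently. -/
theorem not_isConj_of_roots (hN : normalizer (A : Set G) ≤ A ⊔ centralizer (A : Set G))
    (P : Sylow 2 ↥A) {u : G} (huA : u ∈ A)
    (hu : ∀ a ∈ (P : Subgroup ↥A).map A.subtype, a * u = u * a)
    (h1 : roots ((P : Subgroup ↥A).map A.subtype) z ≠ roots ((P : Subgroup ↥A).map A.subtype) u)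
    (h2 : roots ((P : Subgroup ↥A).map A.subtype) z + roots ((P : Subgroup ↥A).map A.subtype) 1 ≠
      roots ((P : Subgroup ↥A).map A.subtype) u + roots ((P : Subgroup ↥A).map A.subtype) (u * z)) :
    ¬ IsConj z u := by
  classical
  haveI : Fact (Nat.Prime 2) := ⟨Nat.prime_two⟩
  intro hzu
  obtain ⟨Q⟩ : Nonempty (Sylow 2 ↥(centralizer (A : Set G))) := inferInstance
  obtain ⟨y, hy, hyz⟩ := h.exists_normalizer_sup hN P Q huA hu hzu
  set P' : Subgroup G := (P : Subgroup ↥A).map A.subtype with hP'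
  set R' : Subgroup G := (Q : Subgroup ↥(centralizer (A : Set G))).map
    (centralizer (A : Set G)).subtype with hR'
  have hPA : P' ≤ A := map_subtype_le _
  have hRC : R' ≤ centralizer (A : Set G) := map_subtype_le _
  have hzP : z ∈ P' := h.mem_of_sylow P
  have hzR : z ∈ R' := mem_map.2 ⟨_, h.mem_sylow Q, rfl⟩
  have hroots : roots (P' ⊔ R') u = roots (P' ⊔ R') z := hyz ▸ roots_conj hy z
  -- count the square roots in the product
  have key : ∀ x ∈ A, 2 * roots (P' ⊔ R') x =
      roots P' x * roots R' 1 + roots P' (x * z) * roots R' z := by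
    intro x hx
    have hset : 2 * roots (P' ⊔ R') x =
        Nat.card {p : ↥P' × ↥R' // (p.1 : G) * p.1 * ((p.2 : G) * p.2) = x} := by
      rw [roots, show Nat.card {a : G // a ∈ P' ⊔ R' ∧ a * a = x} =
        Nat.card ({a : G | a ∈ P' ⊔ R' ∧ a * a = x} : Set G) from rfl,
        ← h.card_mul_eq hPA hRC hzP hzR _ (fun a ha => ha.1)]
      refine Nat.card_congr (Equiv.subtypeEquivRight fun p => ?_)
      have hc : Commute (p.1 : G) (p.2 : G) := mem_centralizer_iff.1 (hRC p.2.2) p.1 (hPA p.1.2)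
      simp only [Set.mem_ofPred_eq]
      rw [hc.symm.mul_mul_mul_comm]
      exact ⟨fun hh => hh.2, fun hh => ⟨mul_mem (mem_sup_left p.1.2) (mem_sup_right p.2.2), hh⟩⟩
    rw [hset, roots, roots, roots, roots, ← Nat.card_prod, ← Nat.card_prod, ← Nat.card_sum]
    have hr2 : ∀ p : {p : ↥P' × ↥R' // (p.1 : G) * p.1 * ((p.2 : G) * p.2) = x},
        (p.1.2 : G) * p.1.2 = 1 ∨ (p.1.2 : G) * p.1.2 = z := fun p => by
      refine h.uniq _ ?_ (mul_mem (hRC p.1.2.2) (hRC p.1.2.2))
      rw [(eq_inv_mul_iff_mul_eq.2 p.2 : (p.1.2 : G) * p.1.2 = ((p.1.1 : G) * p.1.1)⁻¹ * x)]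
      exact mul_mem (inv_mem (mul_mem (hPA p.1.1.2) (hPA p.1.1.2))) hx
    refine Nat.card_congr
      { toFun := fun p => if hh : (p.1.2 : G) * p.1.2 = 1 then
          Sum.inl (⟨p.1.1, p.1.1.2, by have := p.2; rwa [hh, mul_one] at this⟩,
            ⟨p.1.2, p.1.2.2, hh⟩)
          else Sum.inr (⟨p.1.1, p.1.1.2, by
            have := p.2
            rw [(hr2 p).resolve_left hh] at this
            have h3 := congrArg (· * z) this
            simp only [mul_assoc, h.sq_eq, mul_one] at h3
            exact h3⟩,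
            ⟨p.1.2, p.1.2.2, (hr2 p).resolve_left hh⟩)
        invFun := Sum.elim
          (fun q => ⟨(⟨q.1.1, q.1.2.1⟩, ⟨q.2.1, q.2.2.1⟩), by
            show q.1.1 * q.1.1 * (q.2.1 * q.2.1) = x
            rw [q.1.2.2, q.2.2.2, mul_one]⟩)
          (fun q => ⟨(⟨q.1.1, q.1.2.1⟩, ⟨q.2.1, q.2.2.1⟩), by
            show q.1.1 * q.1.1 * (q.2.1 * q.2.1) = x
            rw [q.1.2.2, q.2.2.2, mul_assoc, h.sq_eq, mul_one]⟩)
        left_inv := fun p => by
          by_cases hh : (p.1.2 : G) * p.1.2 = 1 <;> simp [hh]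
        right_inv := by
          rintro (q | q)
          · simp [q.2.2.2]
          · simp [q.2.2.2, h.ne_one] }
  have hone : roots R' 1 = 2 := by
    refine Nat.card_eq_two_iff.2 ⟨⟨1, one_mem _, one_mul 1⟩, ⟨z, hzR, h.sq_eq⟩,
      fun e => h.ne_one (congrArg Subtype.val e).symm, ?_⟩
    ext q
    simp only [Set.mem_insert_iff, Set.mem_singleton_iff, Set.mem_univ, iff_true]
    rcases h.eq_of_sq (hRC q.2.1) q.2.2 with e | e
    · exact Or.inl (Subtype.ext e)
    · exact Or.inr (Subtype.ext e)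
  have hz02 : roots R' z = 0 ∨ roots R' z = 2 := by
    rcases isEmpty_or_nonempty {a : G // a ∈ R' ∧ a * a = z} with he | ⟨⟨r₀, hr₀, hr₀z⟩⟩
    · exact Or.inl Nat.card_of_isEmpty
    · refine Or.inr ?_
      haveI := h.cyc Q
      have hcomm : ∀ a ∈ R', Commute r₀ a := by
        intro a ha
        obtain ⟨a', ha', rfl⟩ := mem_map.1 ha
        obtain ⟨r', hr', rfl⟩ := mem_map.1 hr₀
        letI : CommGroup ↥(Q : Subgroup ↥(centralizer (A : Set G))) := IsCyclic.commGroup
        exact congrArg (fun w : ↥(Q : Subgroup ↥(centralizer (A : Set G))) =>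
          ((w : ↥(centralizer (A : Set G))) : G)) (mul_comm (⟨r', hr'⟩ : ↥(Q : Subgroup _)) ⟨a', ha'⟩)
      rw [← hone]
      exact Nat.card_congr
        { toFun := fun a => ⟨r₀⁻¹ * a.1, mul_mem (inv_mem hr₀) a.2.1, by
            rw [((hcomm a.1 a.2.1).inv_left).symm.mul_mul_mul_comm, ← mul_inv_rev, hr₀z, a.2.2,
              inv_mul_cancel]⟩
          invFun := fun a => ⟨r₀ * a.1, mul_mem hr₀ a.2.1, by
            rw [(hcomm a.1 a.2.1).symm.mul_mul_mul_comm, hr₀z, a.2.2, mul_one]⟩
          left_inv := fun a => Subtype.ext (by simp)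
          right_inv := fun a => Subtype.ext (by simp) }
  have ku := key u huA
  have kz := key z h.hzA
  rw [h.sq_eq] at kz
  rw [hone] at ku kz
  rw [hroots] at ku
  rcases hz02 with e | e <;> rw [e] at ku kz
  · exact h1 (by omega)
  · exact h2 (by omega)

end Setup

end CfsgLib.StdForm.DoubleCover
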