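import Cfsg.Agent.Lib.StdForm.DoubleCoverRoots

/-!
# Fusion in standard double covers by squares in the lower central series

For a standard double cover the third term of the lower central series of the product of a Sylow
`2`-subgroup `P` of `A` with one of `C(A)` is that of `P`. Hence an involution `u` central in `P`
which is a square of an element of this term is not conjugate to `z` if `z` is no such square.
-/

set_option autoImplicit false

open Subgroup
open scoped commutatorElement

namespace CfsgLib.StdForm.DoubleCover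

universe u

variable {G : Type u} [Group G]

/-- A central abelian factor does not change commutator subgroups. -/
theorem commutator_sup_eq {P R H : Subgroup G} (hPR : ∀ a ∈ P, ∀ r ∈ R, Commute a r)
    (hHR : ∀ a ∈ H, ∀ r ∈ R, Commute a r) : ⁅H, P ⊔ R⁆ = ⁅H, P⁆ := by
  refine le_antisymm (commutator_le.2 fun a ha g hg => ?_) (commutator_mono le_rfl le_sup_left)
  have hle : R ≤ normalizer (P : Set G) := fun r hr => mem_normalizer_iff.2 fun x => by
    constructor
    · intro hx
      rwa [(hPR x hx r hr).symm.eq, mul_inv_cancel_right]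
    · intro hx
      have h1 := hPR _ hx r hr
      have : r * x * r⁻¹ = x := by
        have h2 := h1.eq
        simp only [mul_assoc, inv_mul_cancel, mul_one] at h2
        have h3 := mul_left_cancel h2.symm
        simpa [mul_assoc] using h3
      rwa [this] at hx
  have hg' := SetLike.mem_coe.2 hg
  rw [Subgroup.coe_mul_of_right_le_normalizer_left P R hle] at hg'
  obtain ⟨p, hp, r, hr, rfl⟩ := hg'
  simp only
  have e : ⁅a, p * r⁆ = ⁅a, p⁆ := by
    have h1 : a⁻¹ * r⁻¹ = r⁻¹ * a⁻¹ := ((hHR a ha r hr).inv_left.inv_right).eq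
    simp only [commutatorElement_def, mul_inv_rev]
    calc a * (p * r) * a⁻¹ * (r⁻¹ * p⁻¹) = a * p * r * (a⁻¹ * r⁻¹) * p⁻¹ := by group
      _ = a * p * r * (r⁻¹ * a⁻¹) * p⁻¹ := by rw [h1]
      _ = a * p * a⁻¹ * p⁻¹ := by group
  rw [e]
  exact commutator_mem_commutator ha hp

namespace Setup

variable {A : Subgroup G} {z : G} (h : Setup A z)
include h

/-- An involution `u` of `A` centralizing a Sylow `2`-subgroup `P` of `A` is not conjugate to `z`
if `u` but not `z` is a square in `[[P, P], P]`. -/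
theorem not_isConj_of_squares [Finite G]
    (hN : normalizer (A : Set G) ≤ A ⊔ centralizer (A : Set G)) (P : Sylow 2 ↥A) {u : G}
    (huA : u ∈ A) (hu : ∀ a ∈ (P : Subgroup ↥A).map A.subtype, a * u = u * a)
    (h1 : ∃ r ∈ ⁅⁅(P : Subgroup ↥A).map A.subtype, (P : Subgroup ↥A).map A.subtype⁆,
      (P : Subgroup ↥A).map A.subtype⁆, r * r = u)
    (h2 : ∀ r ∈ ⁅⁅(P : Subgroup ↥A).map A.subtype, (P : Subgroup ↥A).map A.subtype⁆,
      (P : Subgroup ↥A).map A.subtype⁆, r * r ≠ z) : ¬ IsConj z u := by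
  intro hzu
  haveI : Fact (Nat.Prime 2) := ⟨Nat.prime_two⟩
  obtain ⟨Q⟩ : Nonempty (Sylow 2 ↥(centralizer (A : Set G))) := inferInstance
  obtain ⟨y, hy, hyz⟩ := h.exists_normalizer_sup hN P Q huA hu hzu
  set P' : Subgroup G := (P : Subgroup ↥A).map A.subtype with hP'
  set R' : Subgroup G := (Q : Subgroup ↥(centralizer (A : Set G))).map
    (centralizer (A : Set G)).subtype with hR'
  have hAR : ∀ a ∈ A, ∀ r ∈ R', Commute a r := fun a ha r hr =>
    mem_centralizer_iff.1 (map_subtype_le _ hr) a ha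
  have hRR : ∀ a ∈ R', ∀ r ∈ R', Commute a r := by
    haveI := h.cyc Q
    intro a ha r hr
    obtain ⟨a', ha', rfl⟩ := mem_map.1 ha
    obtain ⟨r', hr', rfl⟩ := mem_map.1 hr
    letI : CommGroup ↥(Q : Subgroup ↥(centralizer (A : Set G))) := IsCyclic.commGroup
    exact congrArg (fun w : ↥(Q : Subgroup ↥(centralizer (A : Set G))) =>
      ((w : ↥(centralizer (A : Set G))) : G))
      (mul_comm (⟨a', ha'⟩ : ↥(Q : Subgroup _)) ⟨r', hr'⟩)
  have hPA : P' ≤ A := map_subtype_le _
  have hD : ⁅P', P'⁆ ≤ P' := by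
    refine commutator_le.2 fun a ha b hb => ?_
    exact mul_mem (mul_mem (mul_mem ha hb) (inv_mem ha)) (inv_mem hb)
  have hSR : ∀ a ∈ P' ⊔ R', ∀ r ∈ R', Commute a r := by
    intro a ha r hr
    have : a ∈ centralizer ({r} : Set G) :=
      (sup_le (fun b hb => mem_centralizer_singleton_iff.2 (hAR b (hPA hb) r hr).eq)
        (fun b hb => mem_centralizer_singleton_iff.2 (hRR b hb r hr).eq) :
        P' ⊔ R' ≤ centralizer ({r} : Set G)) ha
    exact mem_centralizer_singleton_iff.1 this
  have hc := commutator_sup_eq (P := P') (R := R') (H := P')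
    (fun a ha r hr => hAR a (hPA ha) r hr) (fun a ha r hr => hAR a (hPA ha) r hr)
  have e1 : ⁅P' ⊔ R', P' ⊔ R'⁆ = ⁅P', P'⁆ := by
    rw [commutator_sup_eq (fun a ha r hr => hAR a (hPA ha) r hr) hSR, commutator_comm, hc]
  have e2 : ⁅⁅P' ⊔ R', P' ⊔ R'⁆, P' ⊔ R'⁆ = ⁅⁅P', P'⁆, P'⁆ := by
    rw [e1]
    exact commutator_sup_eq (fun a ha r hr => hAR a (hPA ha) r hr)
      (fun a ha r hr => hAR a (hPA (hD ha)) r hr)
  set S : Subgroup G := P' ⊔ R' with hS
  obtain ⟨r, hr, hru⟩ := h1
  have hmap : S.map (MulAut.conj y⁻¹).toMonoidHom = S := by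
    ext x
    rw [mem_map_equiv, MulAut.conj_symm_apply, inv_inv]
    exact (mem_normalizer_iff.1 hy x).symm
  have hr' : y⁻¹ * r * y ∈ ⁅⁅P', P'⁆, P'⁆ := by
    have := mem_map_of_mem (MulAut.conj y⁻¹).toMonoidHom (e2.symm ▸ hr : r ∈ ⁅⁅S, S⁆, S⁆)
    rw [map_commutator, map_commutator, hmap, e2] at this
    simpa using this
  refine h2 _ hr' ?_
  calc y⁻¹ * r * y * (y⁻¹ * r * y) = y⁻¹ * (r * r) * y := by group
    _ = z := by rw [hru, ← hyz]; group

end Setup

end CfsgLib.StdForm.DoubleCover
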