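import Mathlib
import Cfsg.Agent.Lib.StdForm.FpfThree

/-!
Involutory automorphisms inverting a fixed-point-free automorphism of order three of a group of
order `64`.
-/

set_option autoImplicit false

namespace CfsgLib.StdForm

variable {T : Type*} [Group T] [Finite T] {Z : Subgroup T}

/-- An involutory automorphism fixes at least three nontrivial cosets of `Z`. -/
theorem exists_two_fixed_cosets (hT : Nat.card T = 64) (hZ4 : Nat.card Z = 4)
    (hZc : ∀ z ∈ Z, ∀ t : T, z * t = t * z) (hcm : ∀ u w : T, comm' u w ∈ Z)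
    (hsq : ∀ t : T, t * t ∈ Z) {x : MulAut T} (hx : ∀ y, x (x y) = y) (hxZ : ∀ z ∈ Z, x z ∈ Z) :
    ∃ e f : T, x e * e⁻¹ ∈ Z ∧ x f * f⁻¹ ∈ Z ∧ e ∉ Z ∧ f ∉ Z ∧ e * f ∉ Z := by
  haveI hn : Z.Normal := ⟨fun k hk t => by rwa [← hZc k hk t, mul_inv_cancel_right]⟩
  have hcomm : ∀ a b : T ⧸ Z, a * b = b * a := fun a b => by
    induction a using QuotientGroup.induction_on with
    | H a =>
      induction b using QuotientGroup.induction_on with
      | H b =>
        rw [← QuotientGroup.mk_mul, ← QuotientGroup.mk_mul, mul_eq_comm'_mul a b,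
          QuotientGroup.mk_mul, (QuotientGroup.eq_one_iff _).mpr (hcm a b), one_mul]
  let φ : T →* T ⧸ Z :=
    { toFun := fun t => ((x t * t⁻¹ : T) : T ⧸ Z)
      map_one' := by simp
      map_mul' := fun a b => by
        rw [map_mul, mul_inv_rev]
        simp only [QuotientGroup.mk_mul]
        calc ((x a : T) : T ⧸ Z) * (x b : T) * (((b⁻¹ : T) : T ⧸ Z) * ((a⁻¹ : T) : T ⧸ Z))
            = ((x a : T) : T ⧸ Z) * (((x b : T) : T ⧸ Z) * ((b⁻¹ : T) : T ⧸ Z) * ((a⁻¹ : T) : T ⧸ Z)) := by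
              simp only [mul_assoc]
          _ = _ := by rw [hcomm (((x b : T) : T ⧸ Z) * ((b⁻¹ : T) : T ⧸ Z)) _]; simp only [mul_assoc] }
  set W := φ.ker with hWdef
  have hW : ∀ t, t ∈ W ↔ x t * t⁻¹ ∈ Z := fun t => by
    rw [hWdef, MonoidHom.mem_ker]; exact QuotientGroup.eq_one_iff _
  have hZW : Z ≤ W := fun z hz => (hW z).mpr (mul_mem (hxZ z hz) (inv_mem hz))
  have hrange : φ.range ≤ W.map (QuotientGroup.mk' Z) := by
    rintro _ ⟨t, rfl⟩
    refine ⟨x t * t⁻¹, (hW _).mpr ?_, rfl⟩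
    rw [map_mul, map_inv, hx, mul_inv_rev, inv_inv]
    have h1 : t * (x t)⁻¹ * (t * (x t)⁻¹) ∈ Z := hsq _
    exact h1
  have hmap : Nat.card (W.map (QuotientGroup.mk' Z)) * 4 = Nat.card W := by
    have h1 : Nat.card W = Nat.card ((QuotientGroup.mk' Z).comp W.subtype).ker *
        Nat.card ((QuotientGroup.mk' Z).comp W.subtype).range := by
      rw [← Subgroup.index_ker, Subgroup.card_mul_index]
    have hk : Nat.card ((QuotientGroup.mk' Z).comp W.subtype).ker = 4 := by
      rw [← hZ4]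
      refine Nat.card_congr ((Equiv.subtypeEquivRight fun w => ?_).trans
        (Subgroup.subgroupOfEquivOfLe hZW).toEquiv)
      rw [MonoidHom.mem_ker, Subgroup.mem_subgroupOf]
      exact QuotientGroup.eq_one_iff _
    rw [hk, MonoidHom.range_comp, Subgroup.range_subtype] at h1
    rw [h1, mul_comm]
  have hprod : Nat.card W * Nat.card φ.range = 64 := by
    rw [← Subgroup.index_ker φ, Subgroup.card_mul_index, hT]
  have hle : Nat.card φ.range * 4 ≤ Nat.card W := by
    rw [← hmap]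
    exact Nat.mul_le_mul_right 4 (Subgroup.card_le_of_le hrange)
  have hbig : 16 ≤ Nat.card W := by
    by_contra hlt
    push Not at hlt
    nlinarith
  obtain ⟨e, heW, heZ⟩ : ∃ e ∈ W, e ∉ Z := by
    by_contra hall
    push Not at hall
    have := Subgroup.card_le_of_le (show W ≤ Z from hall)
    omega
  obtain ⟨f, hfW, hf⟩ : ∃ f ∈ W, f ∉ Z ∧ e * f ∉ Z := by
    by_contra hall
    push Not at hall
    have hsub : (W : Set T) ⊆ (Z : Set T) ∪ (fun z => e⁻¹ * z) '' (Z : Set T) := by
      intro w hw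
      by_cases hwZ : w ∈ Z
      · exact Or.inl hwZ
      · exact Or.inr ⟨e * w, hall w hw hwZ, by simp⟩
    have h1 := Set.ncard_le_ncard hsub (Set.toFinite _)
    have h2 := h1.trans (Set.ncard_union_le _ _)
    rw [Set.ncard_image_of_injective _ (mul_right_injective e⁻¹)] at h2
    simp only [← Nat.card_coe_set_eq] at h2
    have hW' : Nat.card (W : Set T) = Nat.card W := rfl
    have hZ' : Nat.card (Z : Set T) = Nat.card Z := rfl
    omega
  exact ⟨e, f, (hW e).mp heW, (hW f).mp hfW, heZ, hf.1, hf.2⟩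

/-- Only one nontrivial element of `Z` is fixed by an automorphism inverting `ρ`. -/
theorem fixed_unique (hZ4 : Nat.card Z = 4) {ρ x : MulAut T} (h3 : ∀ y, ρ (ρ (ρ y)) = y)
    (hfp : ∀ y, ρ y = y → y = 1) (hZρ : ∀ z ∈ Z, ρ z ∈ Z) (hxρ : ∀ y, x (ρ y) = ρ (ρ (x y)))
    {a b : T} (ha : a ∈ Z) (ha1 : a ≠ 1) (hb : b ∈ Z) (hb1 : b ≠ 1) (hxa : x a = a) (hxb : x b = b) :
    a = b := by
  have hne1 : ρ a ≠ a := fun h => ha1 (hfp _ h)
  have hne2 : ρ (ρ a) ≠ a := fun h => hne1 (by have := congrArg ρ h; rw [h3] at this; exact this.symm)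
  have hne3 : ρ (ρ a) ≠ ρ a := fun h => hne1 (ρ.injective h)
  have hn1 : ρ a ≠ 1 := fun h => ha1 (ρ.injective (h.trans (map_one ρ).symm))
  have hn2 : ρ (ρ a) ≠ 1 := fun h => hn1 (ρ.injective (h.trans (map_one ρ).symm))
  let f : Fin 4 → Z := ![⟨1, one_mem Z⟩, ⟨a, ha⟩, ⟨ρ a, hZρ _ ha⟩, ⟨ρ (ρ a), hZρ _ (hZρ _ ha)⟩]
  have hinj : Function.Injective f := by
    intro i j hij
    have h := congrArg Subtype.val hij
    fin_cases i <;> fin_cases j <;>
      first
        | rfl
        | exact absurd h ha1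
        | exact absurd h.symm ha1
        | exact absurd h hne1
        | exact absurd h.symm hne1
        | exact absurd h hne2
        | exact absurd h.symm hne2
        | exact absurd h hne3
        | exact absurd h.symm hne3
        | exact absurd h hn1
        | exact absurd h.symm hn1
        | exact absurd h hn2
        | exact absurd h.symm hn2
  have hsurj := ((Nat.bijective_iff_injective_and_card f).mpr ⟨hinj, by rw [Nat.card_fin, hZ4]⟩).2
  obtain ⟨i, hi⟩ := hsurj ⟨b, hb⟩
  have hi' := congrArg Subtype.val hi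
  fin_cases i
  · exact absurd hi'.symm hb1
  · exact hi'
  · exfalso
    change ρ a = b at hi'
    rw [← hi', hxρ, hxa] at hxb
    exact hne3 hxb
  · exfalso
    change ρ (ρ a) = b at hi'
    rw [← hi', hxρ, hxρ, hxa, h3] at hxb
    exact hne3 hxb.symm

end CfsgLib.StdForm
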