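import Mathlib
import Cfsg.Agent.Lib.SuzukiTwo.Alternating

/-!
Biadditive equivariant maps on a field, and on a group with a transitive cyclic group of automorphisms.
-/

set_option autoImplicit false

namespace CfsgLib.StdForm

/-- A biadditive map commuting with multiplications is a square root of the product. -/
theorem equivariant_sq {F : Type*} [Field F] [Finite F] (h2 : ∀ x : F, x + x = 0) (B : F → F → F)
    (hl : ∀ x x' y, B (x + x') y = B x y + B x' y) (hr : ∀ x y y', B x (y + y') = B x y + B x y')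
    (heq : ∀ a x y, a ≠ 0 → B (a * x) (a * y) = a * B x y) :
    ∀ x y, B x y * B x y = B 1 1 * B 1 1 * (x * y) := by
  have h0l : ∀ y, B 0 y = 0 := fun y => by
    have h := hl 0 0 y
    rw [add_zero, h2] at h
    exact h
  have hd : ∀ a u, B a (a * u) = a * B 1 u := fun a u => by
    by_cases ha : a = 0
    · rw [ha, h0l, zero_mul]
    · rw [← heq a 1 u ha, mul_one]
  have hkey : ∀ x y u, B x (y * u) = B y (x * u) := by
    intro x y u
    have h := hd (x + y) u
    rw [hl, add_mul x y u, hr, hr, hd, hd] at h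
    linear_combination h - h2 (B y (x * u))
  have hsymm : ∀ x y, B x y = B y x := fun x y => by simpa using hkey x y 1
  have hL : ∀ x y, B x y = B 1 (x * y) := fun x y => by
    rw [hsymm x y]
    have := hkey 1 y x
    rw [one_mul] at this
    rw [← this, mul_comm]
  have hsq : Function.Surjective fun x : F => x * x :=
    Finite.surjective_of_injective fun x y (h : x * x = y * y) => by
      have : (x + y) * (x + y) = 0 := by linear_combination h + h2 (y * y) + h2 (x * y)
      have h3 := mul_self_eq_zero.mp this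
      linear_combination h3 - h2 y
  intro x y
  obtain ⟨t, ht⟩ := hsq (x * y)
  dsimp only at ht
  have h11 : B x y = t * B 1 1 := by
    rw [hL x y, ← ht, ← hL t t]
    by_cases h0 : t = 0
    · rw [h0, h0l, zero_mul]
    · rw [← heq t 1 1 h0, mul_one]
  rw [h11]
  linear_combination (B 1 1 * B 1 1) * ht

/-- An equivariant biadditive map with a nontrivial zero vanishes. -/
theorem equivariant_eq_zero {F : Type*} [Field F] [Finite F] (h2 : ∀ x : F, x + x = 0) (B : F → F → F)
    (hl : ∀ x x' y, B (x + x') y = B x y + B x' y) (hr : ∀ x y y', B x (y + y') = B x y + B x y')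
    (heq : ∀ a x y, a ≠ 0 → B (a * x) (a * y) = a * B x y) {x₀ y₀ : F} (hx : x₀ ≠ 0) (hy : y₀ ≠ 0)
    (h0 : B x₀ y₀ = 0) : ∀ x y, B x y = 0 := by
  have h := equivariant_sq h2 B hl hr heq
  have h11 : B 1 1 * B 1 1 = 0 := by
    have h1 := h x₀ y₀
    rw [h0, zero_mul, eq_comm] at h1
    exact (mul_eq_zero.mp h1).resolve_right (mul_ne_zero hx hy)
  intro x y
  have h1 := h x y
  rw [h11, zero_mul] at h1
  exact mul_self_eq_zero.mp h1

section Transport

variable {E : Type*} [CommGroup E] [Finite E] {K : Type*} [Group K]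

/-- An equivariant biadditive map on a group with a regular field action which has a nontrivial
zero is trivial. -/
theorem equivariant_eq_one (ι : K →* MulAut E) (hexp : ∀ x : E, x * x = 1)
    (hcomm : ∀ (k l : K) (x : E), ι k (ι l x) = ι l (ι k x)) {e : E} (he : e ≠ 1)
    (htrans : ∀ x : E, x ≠ 1 → ∃ k : K, ι k e = x) (b : E → E → E)
    (hl : ∀ x x' y, b (x * x') y = b x y * b x' y)
    (hr : ∀ x y y', b x (y * y') = b x y * b x y')
    (heq : ∀ k x y, b (ι k x) (ι k y) = ι k (b x y)) {x₀ y₀ : E} (hx : x₀ ≠ 1) (hy : y₀ ≠ 1)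
    (h0 : b x₀ y₀ = 1) : ∀ x y, b x y = 1 := by
  obtain ⟨F, _, _, ψ, hψ1, hψ⟩ := CfsgLib.SuzukiTwo.exists_field_structure ι hcomm he htrans
  let B : F → F → F := fun x y =>
    Multiplicative.toAdd (ψ.symm (b (ψ (Multiplicative.ofAdd x)) (ψ (Multiplicative.ofAdd y))))
  have h2 : ∀ x : F, x + x = 0 := fun x => by
    have := ψ.injective (a₁ := Multiplicative.ofAdd x * Multiplicative.ofAdd x) (a₂ := 1)
      (by rw [map_mul, hexp, map_one])
    exact this
  have hk : ∀ a : F, a ≠ 0 → ∃ k : K, ∀ x : F,
      ι k (ψ (Multiplicative.ofAdd x)) = ψ (Multiplicative.ofAdd (a * x)) := by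
    intro a ha
    obtain ⟨k, hk⟩ := htrans (ψ (Multiplicative.ofAdd a)) (fun h => ha (by
      have := ψ.injective (h.trans (map_one ψ).symm)
      exact this))
    obtain ⟨a', -, ha'⟩ := hψ k
    refine ⟨k, fun x => ?_⟩
    have h1 := ha' 1
    rw [hψ1, hk, mul_one] at h1
    rw [ha', ← Multiplicative.ofAdd.injective (ψ.injective h1)]
  have hB := equivariant_eq_zero h2 B (fun x x' y => by simp [B, hl]) (fun x y y' => by simp [B, hr])
    (fun a x y ha => by
      obtain ⟨k, hk⟩ := hk a ha
      show Multiplicative.toAdd (ψ.symm _) = _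
      rw [← hk, ← hk, heq]
      obtain ⟨z, hz⟩ := ψ.surjective (b (ψ (Multiplicative.ofAdd x)) (ψ (Multiplicative.ofAdd y)))
      simp only [B, ← hz, MulEquiv.symm_apply_apply]
      obtain ⟨z, rfl⟩ := Multiplicative.ofAdd.surjective z
      rw [hk, MulEquiv.symm_apply_apply]
      rfl)
    (x₀ := Multiplicative.toAdd (ψ.symm x₀)) (y₀ := Multiplicative.toAdd (ψ.symm y₀))
    (fun h => hx (by
      have : ψ.symm x₀ = 1 := h
      simpa using congrArg ψ this))
    (fun h => hy (by
      have : ψ.symm y₀ = 1 := h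
      simpa using congrArg ψ this))
    (by simp [B, h0])
  intro x y
  have h1 := hB (Multiplicative.toAdd (ψ.symm x)) (Multiplicative.toAdd (ψ.symm y))
  simp only [B, ofAdd_toAdd, MulEquiv.apply_symm_apply] at h1
  have : ψ.symm (b x y) = 1 := h1
  simpa using congrArg ψ this

end Transport

end CfsgLib.StdForm
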