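import Mathlib
import Cfsg.Agent.Lib.StdForm.SingerField
import Cfsg.Agent.Lib.StdForm.FpfThree

/-!
A 2-group with commuting automorphisms: an involution whose fixed points are elementary abelian, and
one which is transitive on the nontrivial fixed points.
-/

set_option autoImplicit false

namespace CfsgLib.StdForm

universe u

variable {Q : Type u} [Group Q]

/-- The deviation of an element under an automorphism. -/
def dev (α : MulAut Q) (x : Q) : Q := x⁻¹ * α x

/-- The hypothesis: `C` is the group of fixed points of the involutory automorphism `α`. -/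
structure Singer (α ρ : MulAut Q) (C : Subgroup Q) (n : ℕ) : Prop where
  pgroup : IsPGroup 2 Q
  invol : ∀ x, α (α x) = x
  comm : ∀ x, α (ρ x) = ρ (α x)
  mem : ∀ x, x ∈ C ↔ α x = x
  sq : ∀ c ∈ C, c * c = 1
  card : Nat.card C = 2 ^ n
  two_le : 2 ≤ n
  trans : ∀ x y, x ∈ C → y ∈ C → x ≠ 1 → y ≠ 1 → ∃ k : ℕ, (ρ ^ k) x = y

theorem mul_dev (α : MulAut Q) (x : Q) : x * dev α x = α x := mul_inv_cancel_left x (α x)

theorem dev_mul (α : MulAut Q) (x y : Q) : dev α (x * y) = y⁻¹ * dev α x * y * dev α y := by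
  simp [dev, map_mul, mul_assoc]

theorem dev_one (α : MulAut Q) : dev α 1 = 1 := by simp [dev]

namespace Singer

variable {α ρ : MulAut Q} {C : Subgroup Q} {n : ℕ} (h : Singer α ρ C n)

include h in
theorem dev_rho (x : Q) : dev α (ρ x) = ρ (dev α x) := by simp [dev, h.comm]

include h in
theorem dev_eq_one (x : Q) : dev α x = 1 ↔ x ∈ C := by
  rw [h.mem, dev, inv_mul_eq_one, eq_comm]

include h in
theorem dev_dev (x : Q) : α (dev α x) = (dev α x)⁻¹ := by simp [dev, h.invol]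

include h in
theorem rho_mem {x : Q} (hx : x ∈ C) : ρ x ∈ C := by
  rw [h.mem] at hx ⊢
  rw [h.comm, hx]

include h in
theorem rho_inv_mem {x : Q} (hx : x ∈ C) : ρ⁻¹ x ∈ C := by
  rw [h.mem] at hx ⊢
  apply ρ.injective
  rw [← h.comm, MulAut.apply_inv_self, hx]

include h in
theorem comm_mem {x y : Q} (hx : x ∈ C) (hy : y ∈ C) : x * y = y * x := by
  have h1 := h.sq _ (mul_mem hx hy)
  calc x * y = (x * y)⁻¹ := (inv_eq_of_mul_eq_one_right h1).symm
    _ = y * x := by rw [mul_inv_rev, inv_eq_of_mul_eq_one_right (h.sq x hx), inv_eq_of_mul_eq_one_right (h.sq y hy)]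

include h in
theorem exists_ne_one : ∃ c ∈ C, c ≠ 1 := by
  by_contra hno
  push Not at hno
  have : C = ⊥ := eq_bot_iff.mpr fun c hc => Subgroup.mem_bot.mpr (hno c hc)
  have hc := h.card
  rw [this, Subgroup.card_bot] at hc
  have h2 : 2 ^ 2 ≤ 2 ^ n := Nat.pow_le_pow_right (by norm_num) h.two_le
  omega

include h in
/-- A set invariant under `ρ` which meets `C` nontrivially contains all nontrivial elements of `C`. -/
theorem mem_of_invariant {S : Set Q} (hS : ∀ x ∈ S, ρ x ∈ S) {c : Q} (hcS : c ∈ S) (hc : c ∈ C)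
    (hc1 : c ≠ 1) {d : Q} (hd : d ∈ C) (hd1 : d ≠ 1) : d ∈ S := by
  obtain ⟨k, rfl⟩ := h.trans c d hc hd hc1 hd1
  clear hd hd1
  induction k with
  | zero => simpa using hcS
  | succ k ih => rw [pow_succ', MulAut.mul_apply]; exact hS _ ih

include h in
theorem le_center [Finite Q] : C ≤ Subgroup.center Q := by
  intro c hc
  by_cases hc1 : c = 1
  · rw [hc1]; exact one_mem _
  haveI : Fact (Nat.Prime 2) := ⟨Nat.prime_two⟩
  haveI : Nontrivial Q := ⟨⟨c, 1, hc1⟩⟩
  haveI := IsPGroup.center_nontrivial h.pgroup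
  have hchar : ∀ f : MulAut Q, ∀ z ∈ Subgroup.center Q, f z ∈ Subgroup.center Q := fun f z hz => by
    rw [Subgroup.mem_center_iff] at hz ⊢
    intro t
    obtain ⟨t', rfl⟩ := f.surjective t
    rw [← map_mul, ← map_mul, hz t']
  -- a fixed point in the centre
  obtain ⟨z, hz, hz1, hzf⟩ : ∃ z ∈ Subgroup.center Q, z ≠ 1 ∧ α z = z := by
    obtain ⟨⟨z, hz⟩, hz1⟩ := exists_ne (1 : Subgroup.center Q)
    by_cases hw : z * α z = 1
    · obtain ⟨k, hk⟩ := h.pgroup z
      obtain ⟨j, hj, hj'⟩ : ∃ j, z ^ 2 ^ j ≠ 1 ∧ z ^ 2 ^ (j + 1) = 1 := by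
        by_contra hno
        push Not at hno
        have hall : ∀ j, z ^ 2 ^ j ≠ 1 := fun j => by
          induction j with
          | zero => simpa using fun e : z = 1 => hz1 (Subtype.ext e)
          | succ j ih => exact hno j ih
        exact hall k hk
      refine ⟨z ^ 2 ^ j, pow_mem hz _, hj, ?_⟩
      rw [map_pow, eq_inv_of_mul_eq_one_right hw, inv_pow]
      refine inv_eq_of_mul_eq_one_right ?_
      rw [← pow_add, ← two_mul, ← pow_succ']
      exact hj'
    · refine ⟨z * α z, mul_mem hz (hchar α z hz), hw, ?_⟩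
      rw [map_mul, h.invol]
      exact Subgroup.mem_center_iff.mp hz (α z)
  exact h.mem_of_invariant (S := (Subgroup.center Q : Set Q)) (hchar ρ) hz ((h.mem z).mpr hzf) hz1 hc hc1

include h in
theorem commute_left [Finite Q] {c : Q} (hc : c ∈ C) (t : Q) : c * t = t * c :=
  (Subgroup.mem_center_iff.mp (h.le_center hc) t).symm

include h in
theorem normal [Finite Q] : C.Normal :=
  ⟨fun k hk t => by rwa [← h.commute_left hk t, mul_inv_cancel_right]⟩

/-- The elements moved by `α` only inside `C`. -/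
def next (α : MulAut Q) (C : Subgroup Q) : Subgroup Q := Subgroup.closure {x | dev α x ∈ C}

include h in
theorem mem_next [Finite Q] {x : Q} : x ∈ next α C ↔ dev α x ∈ C := by
  constructor
  · intro hx
    refine Subgroup.closure_induction (p := fun y _ => dev α y ∈ C) (fun y hy => hy) (by simp [dev_one]) ?_ ?_ hx
    · intro a b _ _ ha hb
      rw [dev_mul]
      exact mul_mem (h.normal.conj_mem' _ ha b) hb
    · intro a _ ha
      have : dev α a⁻¹ = a * (dev α a)⁻¹ * a⁻¹ := by simp [dev, mul_assoc]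
      rw [this]
      exact h.normal.conj_mem _ (inv_mem ha) a
  · exact fun hx => Subgroup.subset_closure hx

include h in
theorem le_next [Finite Q] : C ≤ next α C := fun c hc => by
  rw [h.mem_next, (h.dev_eq_one c).mpr hc]; exact one_mem C

include h in
theorem dev_mul_next [Finite Q] {x : Q} (hx : x ∈ next α C) (y : Q) :
    dev α (x * y) = dev α x * dev α y := by
  rw [dev_mul, mul_assoc y⁻¹, h.commute_left (h.mem_next.mp hx) y, inv_mul_cancel_left]

include h in
theorem rho_next [Finite Q] {x : Q} (hx : x ∈ next α C) : ρ x ∈ next α C := by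
  rw [h.mem_next, h.dev_rho]; exact h.rho_mem (h.mem_next.mp hx)

include h in
theorem sq_next [Finite Q] {x : Q} (hx : x ∈ next α C) : x * x ∈ C := by
  rw [← h.dev_eq_one, h.dev_mul_next hx, h.sq _ (h.mem_next.mp hx)]

include h in
theorem comm'_next [Finite Q] {x y : Q} (hx : x ∈ next α C) (hy : y ∈ next α C) :
    comm' x y ∈ C := by
  have h1 : comm' x y = (x * y * (x * y)) * (y⁻¹ * (x * x)⁻¹ * y) * (y * y)⁻¹ := by
    unfold comm'; group
  rw [h1]
  exact mul_mem (mul_mem (h.sq_next (mul_mem hx hy)) (h.normal.conj_mem' _ (inv_mem (h.sq_next hx)) y))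
    (inv_mem (h.sq_next hy))

include h in
theorem eq_top_of_next_le [Finite Q] (hle : next α C ≤ C) : C = ⊤ := by
  haveI : Fact (Nat.Prime 2) := ⟨Nat.prime_two⟩
  haveI := h.normal
  by_contra hne
  let αb : MulAut (Q ⧸ C) := QuotientGroup.congr C C α (by
    ext z
    constructor
    · rintro ⟨w, hw, rfl⟩; exact ((h.mem w).mp hw).symm ▸ hw
    · intro hz; exact ⟨z, hz, (h.mem z).mp hz⟩)
  have hαb : ∀ t : Q, αb (t : Q ⧸ C) = ((α t : Q) : Q ⧸ C) := fun t => rfl
  have hfp : MonoidHom.FixedPointFree αb := fun y => by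
    induction y using QuotientGroup.induction_on with
    | H t =>
      intro ht
      rw [hαb] at ht
      exact (QuotientGroup.eq_one_iff t).mpr (hle (h.mem_next.mpr (QuotientGroup.eq.mp ht.symm)))
  have hinv : Function.Involutive αb := fun y => by
    induction y using QuotientGroup.induction_on with
    | H t => rw [hαb, hαb, h.invol]
  have hodd : Odd (Nat.card (Q ⧸ C)) := hfp.odd_card_of_involutive hinv
  obtain ⟨k, hk⟩ := IsPGroup.iff_card.mp (h.pgroup.to_quotient C)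
  rcases Nat.eq_zero_or_pos k with rfl | hk0
  · rw [pow_zero, ← Subgroup.index, Subgroup.index_eq_one] at hk
    exact hne hk
  · rw [hk] at hodd
    exact (Nat.not_even_iff_odd.mpr hodd) (Nat.even_pow.mpr ⟨even_two, hk0.ne'⟩)

include h in
theorem exists_dev_ne [Finite Q] (hne : C ≠ ⊤) : ∃ x ∈ next α C, dev α x ≠ 1 := by
  by_contra hno
  push Not at hno
  exact hne (h.eq_top_of_next_le fun x hx => (h.dev_eq_one x).mp (hno x hx))

include h in
theorem dev_surj [Finite Q] (hne : C ≠ ⊤) {c : Q} (hc : c ∈ C) : ∃ x ∈ next α C, dev α x = c := by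
  by_cases hc1 : c = 1
  · exact ⟨1, one_mem _, by rw [dev_one, hc1]⟩
  obtain ⟨x, hx, hx1⟩ := h.exists_dev_ne hne
  exact h.mem_of_invariant (S := {d | ∃ x ∈ next α C, dev α x = d})
    (fun d ⟨x, hx, hd⟩ => ⟨ρ x, h.rho_next hx, by rw [h.dev_rho, hd]⟩)
    ⟨x, hx, rfl⟩ (h.mem_next.mp hx) hx1 hc hc1

include h in
/-- Pairings pulled back from `C` along equivariant surjections: one nontrivial zero forces all. -/
theorem pairing_eq_one [Finite Q] (S S' : Subgroup Q) (θ θ' : Q → Q)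
    (hθC : ∀ x ∈ S, θ x ∈ C) (hθC' : ∀ x ∈ S', θ' x ∈ C)
    (hθm : ∀ x ∈ S, ∀ y ∈ S, θ (x * y) = θ x * θ y)
    (hθm' : ∀ x ∈ S', ∀ y ∈ S', θ' (x * y) = θ' x * θ' y)
    (hSρ : ∀ x ∈ S, ρ x ∈ S) (hSρ' : ∀ x ∈ S', ρ x ∈ S')
    (hθρ : ∀ x ∈ S, θ (ρ x) = ρ (θ x)) (hθρ' : ∀ x ∈ S', θ' (ρ x) = ρ (θ' x))
    (B : Q → Q → Q) (hBC : ∀ x ∈ S, ∀ y ∈ S', B x y ∈ C)
    (hBl : ∀ x ∈ S, ∀ x' ∈ S, ∀ y ∈ S', B (x * x') y = B x y * B x' y)
    (hBr : ∀ x ∈ S, ∀ y ∈ S', ∀ y' ∈ S', B x (y * y') = B x y * B x y')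
    (hBρ : ∀ x ∈ S, ∀ y ∈ S', B (ρ x) (ρ y) = ρ (B x y))
    (hBk : ∀ x ∈ S, θ x = 1 → ∀ y ∈ S', B x y = 1)
    (hBk' : ∀ y ∈ S', θ' y = 1 → ∀ x ∈ S, B x y = 1)
    {x₀ y₀ : Q} (hx : x₀ ∈ S) (hy : y₀ ∈ S') (hx1 : θ x₀ ≠ 1) (hy1 : θ' y₀ ≠ 1) (h0 : B x₀ y₀ = 1) :
    ∀ x ∈ S, ∀ y ∈ S', B x y = 1 := by
  classical
  have hs : ∀ c ∈ C, ∃ x ∈ S, θ x = c := by
    intro c hc
    by_cases hc1 : c = 1
    · refine ⟨1, one_mem S, ?_⟩
      have h1 := hθm 1 (one_mem S) 1 (one_mem S)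
      rw [one_mul] at h1
      rw [hc1]; exact left_eq_mul.mp h1
    exact h.mem_of_invariant (S := {d | ∃ x ∈ S, θ x = d})
      (fun d ⟨x, hx, hd⟩ => ⟨ρ x, hSρ x hx, by rw [hθρ x hx, hd]⟩) ⟨x₀, hx, rfl⟩ (hθC _ hx) hx1 hc hc1
  have hs' : ∀ c ∈ C, ∃ x ∈ S', θ' x = c := by
    intro c hc
    by_cases hc1 : c = 1
    · refine ⟨1, one_mem S', ?_⟩
      have h1 := hθm' 1 (one_mem S') 1 (one_mem S')
      rw [one_mul] at h1
      rw [hc1]; exact left_eq_mul.mp h1
    exact h.mem_of_invariant (S := {d | ∃ x ∈ S', θ' x = d})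
      (fun d ⟨x, hx, hd⟩ => ⟨ρ x, hSρ' x hx, by rw [hθρ' x hx, hd]⟩) ⟨y₀, hy, rfl⟩ (hθC' _ hy) hy1 hc hc1
  have hwd : ∀ x ∈ S, ∀ x' ∈ S, θ x = θ x' → ∀ y ∈ S', B x y = B x' y := by
    intro x hxS x' hxS' he y hyS
    have h1 : θ (x⁻¹ * x') = 1 := by
      have h2 := hθm x hxS (x⁻¹ * x') (mul_mem (inv_mem hxS) hxS')
      rw [mul_inv_cancel_left, ← he] at h2
      exact left_eq_mul.mp h2
    have h3 := hBl x hxS (x⁻¹ * x') (mul_mem (inv_mem hxS) hxS') y hyS
    rw [mul_inv_cancel_left, hBk _ (mul_mem (inv_mem hxS) hxS') h1 y hyS, mul_one] at h3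
    exact h3.symm
  have hwd' : ∀ y ∈ S', ∀ y' ∈ S', θ' y = θ' y' → ∀ x ∈ S, B x y = B x y' := by
    intro y hyS y' hyS' he x hxS
    have h1 : θ' (y⁻¹ * y') = 1 := by
      have h2 := hθm' y hyS (y⁻¹ * y') (mul_mem (inv_mem hyS) hyS')
      rw [mul_inv_cancel_left, ← he] at h2
      exact left_eq_mul.mp h2
    have h3 := hBr x hxS y hyS (y⁻¹ * y') (mul_mem (inv_mem hyS) hyS')
    rw [mul_inv_cancel_left, hBk' _ (mul_mem (inv_mem hyS) hyS') h1 x hxS, mul_one] at h3
    exact h3.symm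
  choose f hfS hf using hs
  choose f' hfS' hf' using hs'
  letI : CommGroup C := { (inferInstance : Group C) with
    mul_comm := fun a b => Subtype.ext (h.comm_mem a.2 b.2) }
  let ι : Subgroup.zpowers ρ →* MulAut C :=
    MonoidHom.mk' (fun k =>
      { toFun := fun c => ⟨(k : MulAut Q) c, by
          obtain ⟨i, hi⟩ := k.2
          rw [← hi, h.mem]
          have hco : Commute α ρ := MulEquiv.ext h.comm
          have h1 := congrArg (fun φ : MulAut Q => φ c) (hco.zpow_right i).eq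
          simp only [MulAut.mul_apply] at h1
          rw [h1, (h.mem c).mp c.2]⟩
        invFun := fun c => ⟨(k : MulAut Q)⁻¹ c, by
          obtain ⟨i, hi⟩ := k.2
          rw [← hi, ← zpow_neg, h.mem]
          have hco : Commute α ρ := MulEquiv.ext h.comm
          have h1 := congrArg (fun φ : MulAut Q => φ c) (hco.zpow_right (-i)).eq
          simp only [MulAut.mul_apply] at h1
          rw [h1, (h.mem c).mp c.2]⟩
        left_inv := fun c => Subtype.ext (MulAut.inv_apply_self _ _ _)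
        right_inv := fun c => Subtype.ext (MulAut.apply_inv_self _ _ _)
        map_mul' := fun a b => Subtype.ext (map_mul _ _ _) })
      (fun a b => by ext c; rfl)
  let b : C → C → C := fun c d => ⟨B (f c c.2) (f' d d.2), hBC _ (hfS _ _) _ (hfS' _ _)⟩
  have hb : ∀ x ∈ S, ∀ y ∈ S', ∀ c d : C, θ x = c → θ' y = d → (b c d : Q) = B x y := by
    intro x hxS y hyS c d hc hd
    show B (f c c.2) (f' d d.2) = B x y
    rw [hwd _ (hfS _ _) x hxS (by rw [hf, hc]) _ (hfS' _ _),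
      hwd' _ (hfS' _ _) y hyS (by rw [hf', hd]) x hxS]
  have hρk : ∀ (k : ℕ), ∀ x ∈ S, ∀ y ∈ S', (ρ ^ k) x ∈ S ∧ (ρ ^ k) y ∈ S' ∧
      θ ((ρ ^ k) x) = (ρ ^ k) (θ x) ∧ θ' ((ρ ^ k) y) = (ρ ^ k) (θ' y) ∧
      B ((ρ ^ k) x) ((ρ ^ k) y) = (ρ ^ k) (B x y) := by
    intro k
    induction k with
    | zero => intro x hxS y hyS; simp [hxS, hyS]
    | succ k ih =>
      intro x hxS y hyS
      obtain ⟨i1, i2, i3, i4, i5⟩ := ih x hxS y hyS
      simp only [pow_succ', MulAut.mul_apply]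
      exact ⟨hSρ _ i1, hSρ' _ i2, by rw [hθρ _ i1, i3], by rw [hθρ' _ i2, i4], by rw [hBρ _ i1 _ i2, i5]⟩
  obtain ⟨e, heC, he1⟩ := h.exists_ne_one
  have hall := equivariant_eq_one (E := C) (K := Subgroup.zpowers ρ) ι (fun c => Subtype.ext (h.sq c c.2))
    (fun k l c => Subtype.ext (by
      obtain ⟨i, hi⟩ := k.2
      obtain ⟨j, hj⟩ := l.2
      show (k : MulAut Q) ((l : MulAut Q) c) = (l : MulAut Q) ((k : MulAut Q) c)
      rw [← hi, ← hj, ← MulAut.mul_apply, ← MulAut.mul_apply, ← zpow_add, ← zpow_add, add_comm]))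
    (e := ⟨e, heC⟩) (fun h1 => he1 (congrArg Subtype.val h1))
    (fun x hx1' => by
      obtain ⟨k, hk⟩ := h.trans e x heC x.2 he1 (fun h1 => hx1' (Subtype.ext h1))
      exact ⟨⟨ρ ^ k, pow_mem (Subgroup.mem_zpowers ρ) k⟩, Subtype.ext hk⟩)
    b
    (fun c c' d => Subtype.ext (by
      rw [hb (f c c.2 * f c' c'.2) (mul_mem (hfS _ _) (hfS _ _)) (f' d d.2) (hfS' _ _) (c * c') d
        (by rw [hθm _ (hfS _ _) _ (hfS _ _), hf, hf]; rfl) (hf' _ _)]
      exact hBl _ (hfS _ _) _ (hfS _ _) _ (hfS' _ _)))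
    (fun c d d' => Subtype.ext (by
      rw [hb (f c c.2) (hfS _ _) (f' d d.2 * f' d' d'.2) (mul_mem (hfS' _ _) (hfS' _ _)) c (d * d')
        (hf _ _) (by rw [hθm' _ (hfS' _ _) _ (hfS' _ _), hf', hf']; rfl)]
      exact hBr _ (hfS _ _) _ (hfS' _ _) _ (hfS' _ _)))
    (fun k c d => by
      obtain ⟨i, hi⟩ : ∃ i : ℕ, ρ ^ i = (k : MulAut Q) := by
        exact mem_powers_iff_mem_zpowers.mpr k.2
      apply Subtype.ext
      obtain ⟨i1, i2, i3, i4, i5⟩ := hρk i (f c c.2) (hfS _ _) (f' d d.2) (hfS' _ _)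
      rw [hb _ i1 _ i2 (ι k c) (ι k d) (by rw [i3, hf, hi]; rfl) (by rw [i4, hf', hi]; rfl), i5, hi]
      rfl)
    (x₀ := ⟨θ x₀, hθC _ hx⟩) (y₀ := ⟨θ' y₀, hθC' _ hy⟩)
    (fun h1 => hx1 (congrArg Subtype.val h1)) (fun h1 => hy1 (congrArg Subtype.val h1))
    (Subtype.ext (by rw [hb x₀ hx y₀ hy _ _ rfl rfl, h0]; rfl))
  intro x hxS y hyS
  have h1 := congrArg Subtype.val (hall ⟨θ x, hθC _ hxS⟩ ⟨θ' y, hθC' _ hyS⟩)
  rw [hb x hxS y hyS _ _ rfl rfl] at h1
  exact h1

include h in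
/-- Alternating pairings pulled back from `C` are trivial. -/
theorem alternating_eq_one [Finite Q] (S : Subgroup Q) (θ : Q → Q) (hθC : ∀ x ∈ S, θ x ∈ C)
    (hθm : ∀ x ∈ S, ∀ y ∈ S, θ (x * y) = θ x * θ y) (hSρ : ∀ x ∈ S, ρ x ∈ S)
    (hθρ : ∀ x ∈ S, θ (ρ x) = ρ (θ x))
    (B : Q → Q → Q) (hBC : ∀ x ∈ S, ∀ y ∈ S, B x y ∈ C)
    (hBl : ∀ x ∈ S, ∀ x' ∈ S, ∀ y ∈ S, B (x * x') y = B x y * B x' y)
    (hBr : ∀ x ∈ S, ∀ y ∈ S, ∀ y' ∈ S, B x (y * y') = B x y * B x y')
    (hBρ : ∀ x ∈ S, ∀ y ∈ S, B (ρ x) (ρ y) = ρ (B x y))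
    (hBalt : ∀ x ∈ S, B x x = 1)
    (hBk : ∀ x ∈ S, θ x = 1 → ∀ y ∈ S, B x y = 1) :
    ∀ x ∈ S, ∀ y ∈ S, B x y = 1 := by
  have hBk' : ∀ y ∈ S, θ y = 1 → ∀ x ∈ S, B x y = 1 := fun y hy hy1 x hx => by
    have h1 := hBalt (x * y) (mul_mem hx hy)
    rw [hBl x hx y hy _ (mul_mem hx hy), hBr x hx x hx y hy, hBr y hy x hx y hy, hBalt x hx, hBalt y hy,
      hBk y hy hy1 x hx] at h1
    simpa using h1
  by_cases hex : ∃ x ∈ S, θ x ≠ 1
  · obtain ⟨x, hx, hx1⟩ := hex
    exact h.pairing_eq_one S S θ θ hθC hθC hθm hθm hSρ hSρ hθρ hθρ B hBC hBl hBr hBρ hBk hBk'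
      hx hx hx1 hx1 (hBalt x hx)
  · push Not at hex
    exact fun x hx y hy => hBk x hx (hex x hx) y hy

/-- The pushed down automorphism. -/
noncomputable def quotAut [C.Normal] (φ : MulAut Q) (hφ : C.map φ.toMonoidHom = C) : MulAut (Q ⧸ C) :=
  QuotientGroup.congr C C φ hφ

include h in
theorem map_alpha : C.map α.toMonoidHom = C := by
  ext z
  constructor
  · rintro ⟨w, hw, rfl⟩; exact ((h.mem w).mp hw).symm ▸ hw
  · intro hz; exact ⟨z, hz, (h.mem z).mp hz⟩

include h in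
theorem map_rho : C.map ρ.toMonoidHom = C := by
  ext z
  constructor
  · rintro ⟨w, hw, rfl⟩; exact h.rho_mem hw
  · intro hz; exact ⟨ρ⁻¹ z, h.rho_inv_mem hz, MulAut.apply_inv_self _ _ _⟩

include h in
/-- The hypothesis passes to the quotient by `C`. -/
theorem quotient [Finite Q] [C.Normal] (hne : C ≠ ⊤) :
    Singer (quotAut α h.map_alpha) (quotAut ρ h.map_rho)
      ((next α C).map (QuotientGroup.mk' C)) n := by
  have hmem : ∀ t : Q, ((t : Q ⧸ C) ∈ (next α C).map (QuotientGroup.mk' C)) ↔ t ∈ next α C := by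
    intro t
    constructor
    · rintro ⟨w, hw, hwt⟩
      have h1 := QuotientGroup.eq.mp hwt
      have : t = w * (w⁻¹ * t) := by group
      rw [this]
      exact mul_mem hw (h.le_next h1)
    · exact fun ht => ⟨t, ht, rfl⟩
  have hmem1 : ∀ t : Q, (t : Q ⧸ C) = 1 ↔ t ∈ C := fun t => QuotientGroup.eq_one_iff t
  refine
    { pgroup := h.pgroup.to_quotient C
      invol := fun y => ?_
      comm := fun y => ?_
      mem := fun y => ?_
      sq := ?_
      card := ?_
      two_le := h.two_le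
      trans := ?_ }
  · induction y using QuotientGroup.induction_on with
    | H t => exact congrArg (fun w : Q => (w : Q ⧸ C)) (h.invol t)
  · induction y using QuotientGroup.induction_on with
    | H t => exact congrArg (fun w : Q => (w : Q ⧸ C)) (h.comm t)
  · induction y using QuotientGroup.induction_on with
    | H t =>
      rw [hmem, h.mem_next]
      show t⁻¹ * α t ∈ C ↔ ((α t : Q) : Q ⧸ C) = (t : Q ⧸ C)
      rw [← QuotientGroup.eq, eq_comm]
  · intro c hc
    induction c using QuotientGroup.induction_on with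
    | H t =>
      rw [← QuotientGroup.mk_mul, hmem1]
      exact h.sq_next ((hmem t).mp hc)
  · rw [← h.card]
    refine Nat.card_congr (Equiv.ofBijective (fun c : C => (⟨((Classical.choose (h.dev_surj hne c.2) : Q) : Q ⧸ C),
      (hmem _).mpr (Classical.choose_spec (h.dev_surj hne c.2)).1⟩ : (next α C).map (QuotientGroup.mk' C))) ⟨?_, ?_⟩).symm
    · intro a b hab
      obtain ⟨ha1, ha2⟩ := Classical.choose_spec (h.dev_surj hne a.2)
      obtain ⟨hb1, hb2⟩ := Classical.choose_spec (h.dev_surj hne b.2)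
      have h1 := QuotientGroup.eq.mp (congrArg Subtype.val hab)
      have h2 := h.dev_mul_next ha1 ((Classical.choose (h.dev_surj hne a.2))⁻¹ * Classical.choose (h.dev_surj hne b.2))
      rw [mul_inv_cancel_left, (h.dev_eq_one _).mpr h1, mul_one, ha2, hb2] at h2
      exact Subtype.ext h2.symm
    · rintro ⟨y, hy⟩
      induction y using QuotientGroup.induction_on with
      | H t =>
        have ht := (hmem t).mp hy
        refine ⟨⟨dev α t, h.mem_next.mp ht⟩, Subtype.ext ?_⟩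
        obtain ⟨ha1, ha2⟩ := Classical.choose_spec (h.dev_surj hne (h.mem_next.mp ht))
        apply QuotientGroup.eq.mpr
        rw [← h.dev_eq_one]
        have h2 := h.dev_mul_next ha1 ((Classical.choose (h.dev_surj hne (h.mem_next.mp ht)))⁻¹ * t)
        rw [mul_inv_cancel_left, ha2] at h2
        exact left_eq_mul.mp h2
  · intro a b
    induction a using QuotientGroup.induction_on with
    | H s =>
      induction b using QuotientGroup.induction_on with
      | H t =>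
        intro hs ht hs1 ht1
        have hs' := (hmem s).mp hs
        have ht' := (hmem t).mp ht
        obtain ⟨k, hk⟩ := h.trans (dev α s) (dev α t) (h.mem_next.mp hs') (h.mem_next.mp ht')
          (fun e => hs1 ((hmem1 s).mpr ((h.dev_eq_one s).mp e)))
          (fun e => ht1 ((hmem1 t).mpr ((h.dev_eq_one t).mp e)))
        refine ⟨k, ?_⟩
        have hkey : ∀ j : ℕ, ∀ x : Q, x ∈ next α C →
            ((quotAut ρ h.map_rho) ^ j) (x : Q ⧸ C) = (((ρ ^ j) x : Q) : Q ⧸ C) ∧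
            (ρ ^ j) x ∈ next α C ∧ dev α ((ρ ^ j) x) = (ρ ^ j) (dev α x) := by
          intro j
          induction j with
          | zero => intro x hx; simp [hx]
          | succ j ih =>
            intro x hx
            obtain ⟨i1, i2, i3⟩ := ih x hx
            simp only [pow_succ', MulAut.mul_apply]
            exact ⟨by rw [i1]; rfl, h.rho_next i2, by rw [h.dev_rho, i3]⟩
        obtain ⟨i1, i2, i3⟩ := hkey k s hs'
        rw [i1, QuotientGroup.eq, ← h.dev_eq_one]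
        have h2 := h.dev_mul_next i2 (((ρ ^ k) s)⁻¹ * t)
        rw [mul_inv_cancel_left, i3, hk] at h2
        exact left_eq_mul.mp h2

end Singer

end CfsgLib.StdForm
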