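import Mathlib
import Cfsg.Agent.Lib.StdForm.SingerBase

/-!
A nonabelian group satisfying `Singer` has order `q³` and all its squares are fixed.
-/

set_option autoImplicit false

namespace CfsgLib.StdForm

universe u

namespace Singer

variable {Q : Type u} [Group Q] [Finite Q] {α ρ : MulAut Q} {C : Subgroup Q} {n : ℕ}
  (h : Singer α ρ C n)

include h in
theorem next_card (hne : C ≠ ⊤) : Nat.card (next α C) = 2 ^ n * 2 ^ n := by
  let f : next α C →* Q := MonoidHom.mk' (fun x => dev α (x : Q)) fun x y => h.dev_mul_next x.2 y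
  have hker : Nat.card f.ker = 2 ^ n := by
    rw [← h.card]
    refine Nat.card_congr ((Equiv.subtypeEquivRight fun w => ?_).trans
      (Subgroup.subgroupOfEquivOfLe h.le_next).toEquiv)
    rw [MonoidHom.mem_ker, Subgroup.mem_subgroupOf]
    exact h.dev_eq_one w
  have hrange : f.range = C := by
    ext c
    constructor
    · rintro ⟨x, rfl⟩; exact h.mem_next.mp x.2
    · intro hc
      obtain ⟨x, hx, hxc⟩ := h.dev_surj hne hc
      exact ⟨⟨x, hx⟩, hxc⟩
  rw [← f.ker.card_mul_index, Subgroup.index_ker, hker, hrange, h.card]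

include h in
theorem next_comm {x y : Q} (hx : x ∈ next α C) (hy : y ∈ next α C) : x * y = y * x := by
  have hcm : ∀ a ∈ next α C, ∀ b ∈ next α C, comm' a b ∈ C := fun a ha b hb => h.comm'_next ha hb
  rw [← comm'_eq_one_iff]
  refine h.alternating_eq_one (next α C) (dev α) (fun a ha => h.mem_next.mp ha)
    (fun a ha b _ => h.dev_mul_next ha b) (fun a ha => h.rho_next ha) (fun a _ => h.dev_rho a)
    comm' hcm ?_ ?_ (fun a _ b _ => (map_comm' ρ a b).symm) (fun a _ => by simp [comm'])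
    (fun a ha ha1 b _ => (comm'_eq_one_iff a b).mpr (h.commute_left ((h.dev_eq_one a).mp ha1) b)) x hx y hy
  · intro a ha a' ha' b hb
    have h1 : comm' (a * a') b = a * comm' a' b * (b * a⁻¹ * b⁻¹) := by unfold comm'; group
    rw [h1, ← h.commute_left (hcm _ ha' _ hb) a, mul_assoc,
      show a * (b * a⁻¹ * b⁻¹) = comm' a b by unfold comm'; group]
    exact h.commute_left (hcm _ ha' _ hb) _
  · intro a ha b hb b' hb'
    have h1 : comm' a (b * b') = a * b * a⁻¹ * comm' a b' * b⁻¹ := by unfold comm'; group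
    rw [h1, mul_assoc, h.commute_left (hcm _ ha _ hb') b⁻¹, ← mul_assoc]
    rfl

include h in
/-- Case of an elementary abelian quotient. -/
theorem card_eq_of_sq_mem (hna : ∃ g k : Q, g * k ≠ k * g) (hsq : ∀ x : Q, x * x ∈ C) :
    Nat.card Q = (2 ^ n) ^ 3 := by
  haveI := h.normal
  have hne : C ≠ ⊤ := fun e => by
    obtain ⟨g, k, hgk⟩ := hna
    exact hgk (h.commute_left (e ▸ Subgroup.mem_top g) k)
  have hsq1 : ∀ y : Q ⧸ C, y * y = 1 := fun y => by
    induction y using QuotientGroup.induction_on with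
    | H t => rw [← QuotientGroup.mk_mul, QuotientGroup.eq_one_iff]; exact hsq t
  have hcomm : ∀ a b : Q ⧸ C, a * b = b * a := fun a b => by
    calc a * b = (a * b)⁻¹ := (inv_eq_of_mul_eq_one_right (hsq1 _)).symm
      _ = b * a := by
        rw [mul_inv_rev, inv_eq_of_mul_eq_one_right (hsq1 a), inv_eq_of_mul_eq_one_right (hsq1 b)]
  let φ : Q →* Q ⧸ C := MonoidHom.mk' (fun x => ((dev α x : Q) : Q ⧸ C)) fun x y => by
    rw [dev_mul, QuotientGroup.mk_mul, QuotientGroup.mk_mul, QuotientGroup.mk_mul,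
      hcomm ((y⁻¹ : Q) : Q ⧸ C), mul_assoc ((dev α x : Q) : Q ⧸ C), ← QuotientGroup.mk_mul, inv_mul_cancel,
      QuotientGroup.mk_one, mul_one]
  have hker : φ.ker = next α C := by
    ext x
    rw [MonoidHom.mem_ker, h.mem_next]
    exact QuotientGroup.eq_one_iff _
  have hdd : ∀ x, dev α x ∈ next α C := fun x => by
    rw [h.mem_next]
    have : dev α (dev α x) = (dev α x * dev α x)⁻¹ := by
      conv_lhs => rw [dev, h.dev_dev]
      rw [← mul_inv_rev]
    rw [this]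
    exact inv_mem (hsq _)
  have hh := h.quotient hne
  have hrange : φ.range = (next α C).map (QuotientGroup.mk' C) := by
    obtain ⟨x, hx⟩ : ∃ x, x ∉ next α C := by
      by_contra hall
      push Not at hall
      obtain ⟨g, k, hgk⟩ := hna
      exact hgk (h.next_comm (hall g) (hall k))
    refine le_antisymm ?_ ?_
    · rintro _ ⟨y, rfl⟩; exact ⟨dev α y, hdd y, rfl⟩
    · intro d hd
      by_cases hd1 : d = 1
      · rw [hd1]; exact one_mem _
      refine hh.mem_of_invariant (S := (φ.range : Set (Q ⧸ C))) ?_ ⟨x, rfl⟩ ⟨dev α x, hdd x, rfl⟩ ?_ hd hd1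
      · rintro _ ⟨y, rfl⟩
        exact ⟨ρ y, congrArg (fun w : Q => (w : Q ⧸ C)) (h.dev_rho y)⟩
      · intro e
        exact hx (hker ▸ (MonoidHom.mem_ker.mpr e))
  rw [← φ.ker.card_mul_index, Subgroup.index_ker, hrange, hh.card, hker, h.next_card hne]
  ring

include h in
/-- An abelian quotient of larger exponent forces an abelian group. -/
theorem sq_mem_of_comm'_mem (hna : ∃ g k : Q, g * k ≠ k * g) (hcm : ∀ g k : Q, comm' g k ∈ C) :
    ∀ x : Q, x * x ∈ C := by
  classical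
  by_contra hno
  push Not at hno
  obtain ⟨x₀, hx₀⟩ := hno
  haveI := h.normal
  have hne : C ≠ ⊤ := fun e => hx₀ (e ▸ Subgroup.mem_top _)
  have hh := h.quotient hne
  set U := next α C with hU
  have hZc : ∀ z ∈ C, ∀ t : Q, z * t = t * z := fun z hz t => h.commute_left hz t
  have hZ2 : ∀ z ∈ C, z * z = 1 := h.sq
  letI : CommGroup (Q ⧸ C) := { (inferInstance : Group (Q ⧸ C)) with
    mul_comm := fun a b => by
      induction a using QuotientGroup.induction_on with
      | H a =>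
        induction b using QuotientGroup.induction_on with
        | H b =>
          rw [← QuotientGroup.mk_mul, ← QuotientGroup.mk_mul, mul_eq_comm'_mul a b, QuotientGroup.mk_mul,
            (QuotientGroup.eq_one_iff _).mpr (hcm a b), one_mul] }
  set Ub := U.map (QuotientGroup.mk' C) with hUb
  have hUbcard : Nat.card Ub = 2 ^ n := hh.card
  have hmemU : ∀ t : Q, (t : Q ⧸ C) ∈ Ub → t ∈ U := by
    rintro t ⟨w, hw, hwt⟩
    have : t = w * (w⁻¹ * t) := by group
    rw [this]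
    exact mul_mem hw (h.le_next (QuotientGroup.eq.mp hwt))
  let sqh : Q ⧸ C →* Q ⧸ C := powMonoidHom 2
  -- squares cover the fixed points
  have hUsq : ∀ u ∈ U, ∃ x : Q, (u : Q)⁻¹ * (x * x) ∈ C := by
    have hαb : ∀ y, y ∈ sqh.range → quotAut α h.map_alpha y ∈ sqh.range := by
      rintro _ ⟨y, rfl⟩
      exact ⟨quotAut α h.map_alpha y, (map_pow _ y 2).symm⟩
    have hρb : ∀ y ∈ (sqh.range : Set (Q ⧸ C)), quotAut ρ h.map_rho y ∈ (sqh.range : Set (Q ⧸ C)) := by
      rintro _ ⟨y, rfl⟩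
      exact ⟨quotAut ρ h.map_rho y, (map_pow _ y 2).symm⟩
    have hnt : ∃ y ∈ sqh.range, y ≠ 1 ∧ quotAut α h.map_alpha y = y := by
      have hy₀ : sqh (x₀ : Q ⧸ C) ≠ 1 := by
        intro e
        apply hx₀
        rw [← QuotientGroup.eq_one_iff, QuotientGroup.mk_mul, ← pow_two]
        exact e
      set y := sqh (x₀ : Q ⧸ C) with hy
      by_cases hyy : y * quotAut α h.map_alpha y = 1
      · obtain ⟨k, hk⟩ := hh.pgroup y
        obtain ⟨j, hj, hj'⟩ : ∃ j, y ^ 2 ^ j ≠ 1 ∧ y ^ 2 ^ (j + 1) = 1 := by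
          by_contra hno
          push Not at hno
          have hall : ∀ j, y ^ 2 ^ j ≠ 1 := fun j => by
            induction j with
            | zero => simpa using hy₀
            | succ j ih => exact hno j ih
          exact hall k hk
        refine ⟨y ^ 2 ^ j, pow_mem (show y ∈ sqh.range from ⟨_, rfl⟩) _, hj, ?_⟩
        rw [map_pow, eq_inv_of_mul_eq_one_right hyy, inv_pow]
        refine inv_eq_of_mul_eq_one_right ?_
        rw [← pow_add, ← two_mul, ← pow_succ']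
        exact hj'
      · refine ⟨y * quotAut α h.map_alpha y, mul_mem ⟨_, rfl⟩ (hαb _ ⟨_, rfl⟩), hyy, ?_⟩
        rw [map_mul, hh.invol, mul_comm]
    obtain ⟨y, hy, hy1, hyf⟩ := hnt
    intro u hu
    have hle : (u : Q ⧸ C) ∈ sqh.range := by
      by_cases hu1 : (u : Q ⧸ C) = 1
      · rw [hu1]; exact one_mem _
      · exact hh.mem_of_invariant hρb hy ((hh.mem y).mpr hyf) hy1 ⟨u, hu, rfl⟩ hu1
    obtain ⟨x, hx⟩ := hle
    induction x using QuotientGroup.induction_on with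
    | H x =>
      refine ⟨x, QuotientGroup.eq.mp ?_⟩
      rw [← hx]
      exact pow_two (x : Q ⧸ C)
  -- `U` is central
  have hUc : ∀ u ∈ U, ∀ t : Q, u * t = t * u := by
    intro u hu t
    obtain ⟨x, hx⟩ := hUsq u hu
    rw [← comm'_eq_one_iff]
    have h2 : comm' (x * x) t = 1 := by rw [comm'_mul_left hZc hcm, hZ2 _ (hcm x t)]
    have hu' : u = x * x * (u⁻¹ * (x * x))⁻¹ := by group
    rw [hu', comm'_mul_left hZc hcm, h2, one_mul, comm'_eq_one_iff]
    exact hZc _ (inv_mem hx) t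
  have hxax : ∀ x : Q, x * α x ∈ U := by
    intro x
    apply hmemU
    rw [hUb, hh.mem]
    show ((α (x * α x) : Q) : Q ⧸ C) = ((x * α x : Q) : Q ⧸ C)
    rw [map_mul, h.invol, QuotientGroup.mk_mul, QuotientGroup.mk_mul, mul_comm]
  let P : Subgroup (Q ⧸ C) := Ub.comap sqh
  let P' : Subgroup Q := P.comap (QuotientGroup.mk' C)
  have hP' : ∀ x, x ∈ P' ↔ x * x ∈ U := fun x => by
    show (x : Q ⧸ C) ^ 2 ∈ Ub ↔ _
    rw [pow_two, ← QuotientGroup.mk_mul]
    exact ⟨hmemU _, fun hx => ⟨_, hx, rfl⟩⟩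
  have hdevP : ∀ x ∈ P', dev α x ∈ U := fun x hx => by
    have e : dev α x = (x * x)⁻¹ * (x * α x) := by unfold dev; group
    rw [e]
    exact mul_mem (inv_mem ((hP' x).mp hx)) (hxax x)
  let f : P' →* Q := MonoidHom.mk' (fun x => dev α (x : Q)) fun x y => by
    show dev α ((x : Q) * y) = _
    rw [dev_mul, mul_assoc (y : Q)⁻¹, hUc _ (hdevP _ x.2) (y : Q), inv_mul_cancel_left]
  have hfr : f.range ≤ U := by rintro _ ⟨x, rfl⟩; exact hdevP _ x.2
  have hCP : C ≤ P' := fun c hc => (hP' c).mpr (by rw [h.sq c hc]; exact one_mem _)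
  have hPcard : Nat.card P' ≤ 2 ^ n * (2 ^ n * 2 ^ n) := by
    rw [← f.ker.card_mul_index, Subgroup.index_ker]
    refine Nat.mul_le_mul (le_of_eq ?_) ((Subgroup.card_le_of_le hfr).trans_eq (h.next_card hne))
    rw [← h.card]
    refine Nat.card_congr ((Equiv.subtypeEquivRight fun w => ?_).trans
      (Subgroup.subgroupOfEquivOfLe hCP).toEquiv)
    rw [MonoidHom.mem_ker, Subgroup.mem_subgroupOf]
    exact h.dev_eq_one w
  have hPP : Nat.card P' = 2 ^ n * Nat.card P := by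
    have h1 := ((QuotientGroup.mk' C).comp P'.subtype).ker.card_mul_index
    rw [Subgroup.index_ker, MonoidHom.range_comp, Subgroup.range_subtype] at h1
    rw [← h1, Subgroup.map_comap_eq_self_of_surjective (QuotientGroup.mk'_surjective C) P]
    congr 1
    rw [← h.card]
    refine Nat.card_congr ((Equiv.subtypeEquivRight fun w => ?_).trans
      (Subgroup.subgroupOfEquivOfLe hCP).toEquiv)
    rw [MonoidHom.mem_ker, Subgroup.mem_subgroupOf]
    exact QuotientGroup.eq_one_iff _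
  -- the involutions of the quotient are its fixed points
  have hkerle : sqh.ker ≤ P := by
    intro y hy
    show sqh y ∈ Ub
    rw [MonoidHom.mem_ker.mp hy]
    exact one_mem _
  have hP : Nat.card P = Nat.card sqh.ker * 2 ^ n := by
    have h1 := (sqh.comp P.subtype).ker.card_mul_index
    rw [Subgroup.index_ker] at h1
    have hr : (sqh.comp P.subtype).range = Ub := by
      ext y
      constructor
      · rintro ⟨p, rfl⟩; exact p.2
      · intro hy
        obtain ⟨u, hu, rfl⟩ := hy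
        obtain ⟨x, hx⟩ := hUsq u hu
        have he : sqh (x : Q ⧸ C) = (u : Q ⧸ C) := by
          show (x : Q ⧸ C) ^ 2 = _
          rw [pow_two, ← QuotientGroup.mk_mul]
          exact (QuotientGroup.eq.mpr hx).symm
        exact ⟨⟨(x : Q ⧸ C), show sqh (x : Q ⧸ C) ∈ Ub from he.symm ▸ ⟨u, hu, rfl⟩⟩, he⟩
    rw [hr, hUbcard] at h1
    rw [← h1]
    congr 1
    refine Nat.card_congr ((Equiv.subtypeEquivRight fun w => ?_).trans
      (Subgroup.subgroupOfEquivOfLe hkerle).toEquiv)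
    rw [MonoidHom.mem_ker, Subgroup.mem_subgroupOf, MonoidHom.mem_ker]
    rfl
  have hUker : Ub ≤ sqh.ker := fun y hy => by
    rw [MonoidHom.mem_ker]
    show y ^ 2 = 1
    rw [pow_two, hh.sq y hy]
  have hkerU : Ub = sqh.ker := Subgroup.eq_of_le_of_card_ge hUker (by
    rw [hUbcard]
    have h3 : 2 ^ n * (Nat.card sqh.ker * 2 ^ n) ≤ 2 ^ n * (2 ^ n * 2 ^ n) := by
      rw [← hP, ← hPP]; exact hPcard
    exact Nat.le_of_mul_le_mul_right (Nat.le_of_mul_le_mul_left h3 (by positivity)) (by positivity))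
  -- the power map onto the fixed points
  have hex : ∃ k, ∀ y : Q ⧸ C, y ^ 2 ^ k = 1 := by
    obtain ⟨k, hk⟩ := IsPGroup.iff_card.mp hh.pgroup
    exact ⟨k, fun y => hk ▸ pow_card_eq_one'⟩
  obtain ⟨k, hk, hkmin⟩ : ∃ k, (∀ y : Q ⧸ C, y ^ 2 ^ k = 1) ∧ ∀ j < k, ¬ ∀ y : Q ⧸ C, y ^ 2 ^ j = 1 :=
    ⟨Nat.find hex, Nat.find_spec hex, fun j hj => Nat.find_min hex hj⟩
  obtain ⟨m, rfl⟩ : ∃ m, k = m + 2 := by
    refine ⟨k - 2, ?_⟩
    by_contra hk2
    apply hx₀
    rw [← QuotientGroup.eq_one_iff, QuotientGroup.mk_mul, ← pow_two]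
    have h4 : ((x₀ : Q) : Q ⧸ C) ^ 2 ^ k = 1 := hk _
    rcases (by omega : k = 0 ∨ k = 1) with rfl | rfl
    · rw [pow_zero, pow_one] at h4; rw [h4, one_pow]
    · simpa using h4
  let φ : Q ⧸ C →* Q ⧸ C := powMonoidHom (2 ^ (m + 1))
  have hφker : ∀ y, φ y ∈ sqh.ker := fun y => by
    rw [MonoidHom.mem_ker]
    show (y ^ 2 ^ (m + 1)) ^ 2 = 1
    rw [← pow_mul, ← pow_succ]
    exact hk y
  have hφU : ∀ y, φ y ∈ Ub := fun y => by rw [hkerU]; exact hφker y
  have hφrange : φ.range = Ub := by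
    refine le_antisymm (by rintro _ ⟨y, rfl⟩; exact hφU y) ?_
    obtain ⟨y₁, hy₁⟩ : ∃ y, φ y ≠ 1 := by
      by_contra hall
      push Not at hall
      exact hkmin (m + 1) (by omega) hall
    intro d hd
    by_cases hd1 : d = 1
    · rw [hd1]; exact one_mem _
    refine hh.mem_of_invariant (S := (φ.range : Set (Q ⧸ C))) ?_ ⟨y₁, rfl⟩ (hφU y₁) hy₁ hd hd1
    rintro _ ⟨y, rfl⟩
    exact ⟨quotAut ρ h.map_rho y, (map_pow _ y _).symm⟩
  have hsle : sqh.range ≤ φ.ker := by
    rintro _ ⟨y, rfl⟩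
    rw [MonoidHom.mem_ker]
    show (y ^ 2) ^ 2 ^ (m + 1) = 1
    rw [← pow_mul, ← pow_succ']
    exact hk y
  have hkereq : sqh.range = φ.ker := Subgroup.eq_of_le_of_card_ge hsle (by
    have h1 := φ.ker.card_mul_index
    have h2 := sqh.ker.card_mul_index
    rw [Subgroup.index_ker, hφrange, hUbcard] at h1
    rw [Subgroup.index_ker, ← hkerU, hUbcard, ← h1, mul_comm] at h2
    exact (Nat.eq_of_mul_eq_mul_right (by positivity) h2).ge)
  -- conclusion: the group is abelian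
  have hz : ∀ z : Q, z ^ 2 ^ (m + 1) ∈ U := fun z => by
    apply hmemU
    rw [QuotientGroup.mk_pow]
    exact hφU _
  obtain ⟨g, g', hgg⟩ := hna
  apply hgg
  rw [← comm'_eq_one_iff]
  refine h.alternating_eq_one ⊤ (fun x => dev α (x ^ 2 ^ (m + 1))) (fun x _ => h.mem_next.mp (hz x))
    ?_ (fun x _ => Subgroup.mem_top _) (fun x _ => by show dev α (ρ x ^ _) = _; rw [← map_pow, h.dev_rho])
    comm' (fun x _ y _ => hcm x y) (fun a _ a' _ b _ => comm'_mul_left hZc hcm a a' b)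
    (fun a _ b _ b' _ => comm'_mul_right hZc hcm a b b') (fun a _ b _ => (map_comm' ρ a b).symm)
    (fun a _ => by simp [comm']) ?_ g (Subgroup.mem_top g) g' (Subgroup.mem_top g')
  · intro x _ y _
    show dev α ((x * y) ^ _) = _ * _
    have hc : (x ^ 2 ^ (m + 1) * y ^ 2 ^ (m + 1))⁻¹ * (x * y) ^ 2 ^ (m + 1) ∈ C := by
      refine QuotientGroup.eq.mp ?_
      rw [QuotientGroup.mk_mul, QuotientGroup.mk_pow, QuotientGroup.mk_pow, QuotientGroup.mk_pow,
        QuotientGroup.mk_mul, mul_pow]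
    conv_lhs => rw [← mul_inv_cancel_left (x ^ 2 ^ (m + 1) * y ^ 2 ^ (m + 1)) ((x * y) ^ 2 ^ (m + 1))]
    rw [h.dev_mul_next (mul_mem (hz x) (hz y)), (h.dev_eq_one _).mpr hc, mul_one, h.dev_mul_next (hz x)]
  · intro x _ hx y _
    have h1 : (x : Q ⧸ C) ∈ φ.ker := by
      rw [MonoidHom.mem_ker]
      show (x : Q ⧸ C) ^ 2 ^ (m + 1) = 1
      rw [← QuotientGroup.mk_pow, QuotientGroup.eq_one_iff]
      exact (h.dev_eq_one _).mp hx
    rw [← hkereq] at h1
    obtain ⟨w, hw⟩ := h1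
    induction w using QuotientGroup.induction_on with
    | H w =>
      have hc : (w * w)⁻¹ * x ∈ C := QuotientGroup.eq.mp (by
        rw [QuotientGroup.mk_mul, ← pow_two]; exact hw)
      have hx' : x = w * w * ((w * w)⁻¹ * x) := by group
      rw [hx', comm'_mul_left hZc hcm, comm'_mul_left hZc hcm, hZ2 _ (hcm w y), one_mul, comm'_eq_one_iff]
      exact hZc _ hc y

include h in
/-- The quotient by the fixed points cannot itself be nonabelian. -/
theorem no_nonabelian_quotient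
    (hsqU : ∀ x : Q, x * x ∈ next α C) (hUC : ∀ u ∈ next α C, ∀ t : Q, comm' u t ∈ C)
    (hdev : ∀ x : Q, dev α x ∈ next α C → ∀ y, dev α y ∈ next α C → comm' x y ∈ C) :
    ∀ g k : Q, comm' g k ∈ C := by
  classical
  haveI := h.normal
  set U := next α C with hU
  have hZc : ∀ z ∈ C, ∀ t : Q, z * t = t * z := fun z hz t => h.commute_left hz t
  have hUn : ∀ u ∈ U, ∀ t : Q, t⁻¹ * u * t ∈ U := fun u hu t => by
    have e : t⁻¹ * u * t = u * comm' u⁻¹ t⁻¹ := by unfold comm'; group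
    rw [e]
    exact mul_mem hu (h.le_next (hUC _ (inv_mem hu) _))
  have hcU : ∀ g k : Q, comm' g k ∈ U := fun g k => by
    have h1 : comm' g k = (g * k * (g * k)) * (k⁻¹ * (g * g)⁻¹ * k) * (k * k)⁻¹ := by
      unfold comm'; group
    rw [h1]
    exact mul_mem (mul_mem (hsqU _) (hUn _ (inv_mem (hsqU g)) k)) (inv_mem (hsqU k))
  have hdd : ∀ x : Q, dev α (dev α x) = (dev α x * dev α x)⁻¹ := fun x => by
    conv_lhs => rw [dev, h.dev_dev]
    rw [← mul_inv_rev]
  have hddU : ∀ x, dev α (dev α x) ∈ U := fun x => by rw [hdd]; exact inv_mem (hsqU _)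
  -- the second step
  let U2 : Subgroup Q :=
    { carrier := {x | dev α x ∈ U}
      one_mem' := by show dev α 1 ∈ U; rw [dev_one]; exact one_mem U
      mul_mem' := fun {a b} (ha : dev α a ∈ U) (hb : dev α b ∈ U) => by
        show dev α (a * b) ∈ U
        rw [dev_mul]
        exact mul_mem (hUn _ ha b) hb
      inv_mem' := fun {a} (ha : dev α a ∈ U) => by
        show dev α a⁻¹ ∈ U
        have e : dev α a⁻¹ = (a⁻¹)⁻¹ * (dev α a)⁻¹ * a⁻¹ := by unfold dev; rw [map_inv]; group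
        rw [e]
        exact hUn _ (inv_mem ha) _ }
  have hmem2 : ∀ x, x ∈ U2 ↔ dev α x ∈ U := fun x => Iff.rfl
  let θ1 : Q → Q := dev α
  let θ2 : Q → Q := fun x => dev α (dev α x)
  let θ3 : Q → Q := fun x => dev α (dev α (dev α x))
  have hθ2C : ∀ a ∈ U2, θ2 a ∈ C := fun a ha => h.mem_next.mp ha
  have hθ3C : ∀ x, θ3 x ∈ C := fun x => h.mem_next.mp (hddU x)
  have hdevC : ∀ u ∈ U, ∀ c ∈ C, dev α (u * c) = dev α u := fun u hu c hc => by
    rw [h.dev_mul_next hu, (h.dev_eq_one c).mpr hc, mul_one]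
  have hcj : ∀ u ∈ U, ∀ t : Q, ∃ c ∈ C, t⁻¹ * u * t = u * c := fun u hu t =>
    ⟨comm' u⁻¹ t⁻¹, hUC _ (inv_mem hu) _, by unfold comm'; group⟩
  have hθ2m : ∀ a ∈ U2, ∀ b ∈ U2, θ2 (a * b) = θ2 a * θ2 b := by
    intro a ha b _
    show dev α (dev α (a * b)) = dev α (dev α a) * dev α (dev α b)
    obtain ⟨c, hc, hceq⟩ := hcj _ ha b
    rw [dev_mul, hceq, h.dev_mul_next (mul_mem ha (h.le_next hc)), hdevC _ ha c hc]
  have hθ3m : ∀ x y : Q, θ3 (x * y) = θ3 x * θ3 y := by
    intro x y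
    show dev α (dev α (dev α (x * y))) = dev α (dev α (dev α x)) * dev α (dev α (dev α y))
    have hd2 : ∀ z, dev α z ∈ U2 := hddU
    have hv : comm' (dev α x)⁻¹ y⁻¹ ∈ U := hcU _ _
    have hv2 : comm' (dev α x)⁻¹ y⁻¹ ∈ U2 := by
      rw [hmem2]; exact h.le_next (h.mem_next.mp hv)
    have e : y⁻¹ * dev α x * y = dev α x * comm' (dev α x)⁻¹ y⁻¹ := by unfold comm'; group
    rw [dev_mul, e]
    show θ2 (dev α x * comm' (dev α x)⁻¹ y⁻¹ * dev α y) = θ2 (dev α x) * θ2 (dev α y)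
    rw [hθ2m _ (mul_mem (hd2 x) hv2) _ (hd2 y), hθ2m _ (hd2 x) _ hv2]
    have h1 : θ2 (comm' (dev α x)⁻¹ y⁻¹) = 1 := by
      show dev α (dev α (comm' (dev α x)⁻¹ y⁻¹)) = 1
      exact (h.dev_eq_one _).mpr (h.mem_next.mp hv)
    rw [h1, mul_one]
  have hk2 : ∀ a ∈ U2, θ2 a = 1 → a ∈ U := fun a _ h1 => h.mem_next.mpr ((h.dev_eq_one _).mp h1)
  have hk3 : ∀ x, θ3 x = 1 → x ∈ U2 := fun x h1 => h.mem_next.mpr ((h.dev_eq_one _).mp h1)
  have hk3' : ∀ x ∈ U2, θ3 x = 1 := fun x hx => (h.dev_eq_one _).mpr (hθ2C x hx)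
  have hU2ρ : ∀ x ∈ U2, ρ x ∈ U2 := fun x hx => by
    rw [hmem2, h.dev_rho]; exact h.rho_next hx
  by_cases hU2top : ∀ x, x ∈ U2
  · exact fun g k => hdev g (hU2top g) k (hU2top k)
  push Not at hU2top
  obtain ⟨b₀, hb₀⟩ := hU2top
  have hb₀3 : θ3 b₀ ≠ 1 := fun e => hb₀ (hk3 _ e)
  have hθ3ρ : ∀ x, θ3 (ρ x) = ρ (θ3 x) := fun x => by simp [θ3, h.dev_rho]
  have hsurj3 : ∀ c ∈ C, ∃ x, θ3 x = c := by
    intro c hc
    by_cases hc1 : c = 1
    · exact ⟨1, by show dev α (dev α (dev α 1)) = c; rw [dev_one, dev_one, dev_one, hc1]⟩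
    · exact h.mem_of_invariant (S := {d | ∃ x, θ3 x = d})
        (fun d ⟨x, hd⟩ => ⟨ρ x, by rw [hθ3ρ, hd]⟩) ⟨b₀, rfl⟩ (hθ3C b₀) hb₀3 hc hc1
  -- bilinearity on Q × U
  have hPl : ∀ x x' : Q, ∀ u ∈ U, comm' (x * x') u = comm' x u * comm' x' u := fun x x' u hu => by
    have h1 : comm' (x * x') u = x * comm' x' u * (u * x⁻¹ * u⁻¹) := by unfold comm'; group
    have hc : comm' x' u ∈ C := by
      rw [show comm' x' u = (comm' u x')⁻¹ by unfold comm'; group]; exact inv_mem (hUC u hu x')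
    rw [h1, ← hZc _ hc x, mul_assoc, show x * (u * x⁻¹ * u⁻¹) = comm' x u by unfold comm'; group]
    exact hZc _ hc _
  have hPC : ∀ x : Q, ∀ u ∈ U, comm' x u ∈ C := fun x u hu => by
    rw [show comm' x u = (comm' u x)⁻¹ by unfold comm'; group]; exact inv_mem (hUC u hu x)
  have hPr : ∀ x : Q, ∀ u ∈ U, ∀ u' ∈ U, comm' x (u * u') = comm' x u * comm' x u' := fun x u _ u' hu' => by
    have h1 : comm' x (u * u') = x * u * x⁻¹ * comm' x u' * u⁻¹ := by unfold comm'; group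
    rw [h1, mul_assoc, hZc _ (hPC x u' hu') u⁻¹, ← mul_assoc]
    rfl
  -- U2 centralises U
  have hU2U : ∀ a ∈ U2, ∀ u ∈ U, comm' a u = 1 := by
    have hd : ∀ b : Q, ∀ u ∈ U, comm' (dev α b) u = 1 := by
      intro b u hu
      have hfix : α (comm' b u) = comm' b u := (h.mem _).mp (hPC b u hu)
      have huc : dev α u ∈ C := h.mem_next.mp hu
      rw [map_comm', ← mul_dev α b, ← mul_dev α u, hPl _ _ _ (mul_mem hu (h.le_next huc)),
        hPr b u hu _ (h.le_next huc), hPr (dev α b) u hu _ (h.le_next huc),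
        (comm'_eq_one_iff b _).mpr (hZc _ huc b).symm,
        (comm'_eq_one_iff (dev α b) _).mpr (hZc _ huc (dev α b)).symm, mul_one, mul_one] at hfix
      exact mul_eq_left.mp hfix
    intro a ha u hu
    obtain ⟨b, hb⟩ := hsurj3 _ (hθ2C a ha)
    have hbU2 : dev α b ∈ U2 := hddU b
    have h1 : θ2 ((dev α b)⁻¹ * a) = 1 := by
      have h2 := hθ2m _ hbU2 _ (mul_mem (inv_mem hbU2) ha)
      rw [mul_inv_cancel_left, show θ2 (dev α b) = θ3 b from rfl, hb] at h2
      exact left_eq_mul.mp h2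
    have hm : (dev α b)⁻¹ * a ∈ U := hk2 _ (mul_mem (inv_mem hbU2) ha) h1
    calc comm' a u = comm' (dev α b * ((dev α b)⁻¹ * a)) u := by rw [mul_inv_cancel_left]
      _ = 1 := by rw [hPl _ _ _ hu, hd b u hu, (comm'_eq_one_iff _ u).mpr (h.next_comm hm hu), one_mul]
  -- U is central
  have hUc : ∀ u ∈ U, ∀ t : Q, comm' t u = 1 := by
    by_contra hP
    push Not at hP
    obtain ⟨u₀, hu₀, t₀, hP⟩ := hP
    have hinj : ∀ b : Q, b ∉ U2 → ∀ u ∈ U, comm' b u = 1 → u ∈ C := by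
      intro b hb u hu h0
      by_contra huC
      exact hP (h.pairing_eq_one ⊤ U θ3 θ1 (fun x _ => hθ3C x) (fun x hx => h.mem_next.mp hx)
        (fun x _ y _ => hθ3m x y) (fun x hx y _ => h.dev_mul_next hx y) (fun x _ => Subgroup.mem_top _)
        (fun x hx => h.rho_next hx) (fun x _ => hθ3ρ x) (fun x _ => h.dev_rho x)
        comm' (fun x _ y hy => hPC x y hy) (fun x _ x' _ y hy => hPl x x' y hy)
        (fun x _ y hy y' hy' => hPr x y hy y' hy') (fun x _ y _ => (map_comm' ρ x y).symm)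
        (fun x _ hx1 y hy => hU2U x (hk3 x hx1) y hy)
        (fun y _ hy1 x _ => (comm'_eq_one_iff x y).mpr (hZc _ ((h.dev_eq_one y).mp hy1) x).symm)
        (Subgroup.mem_top b) hu (fun e => hb (hk3 b e)) (fun e => huC ((h.dev_eq_one u).mp e)) h0
        t₀ (Subgroup.mem_top _) u₀ hu₀)
    have hsqC : ∀ b : Q, b ∉ U2 → b * b ∈ C := fun b hb =>
      hinj b hb _ (hsqU b) ((comm'_eq_one_iff _ _).mpr (by rw [mul_assoc]))
    have hkey : ∀ a ∈ U2, ∀ b : Q, b ∉ U2 → b⁻¹ * a * b * a ∈ C := by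
      intro a ha b hb
      have hba : b * a ∉ U2 := fun e => hb (by simpa using mul_mem e (inv_mem ha))
      have e : b⁻¹ * a * b * a = (b * b)⁻¹ * (b * a * (b * a)) := by group
      rw [e]
      exact mul_mem (inv_mem (hsqC b hb)) (hsqC _ hba)
    -- two elements with product outside U2
    obtain ⟨c₁, hc₁, hc₁1⟩ := h.exists_ne_one
    obtain ⟨c₂, hc₂, hc₂1, hc₂₁⟩ : ∃ c ∈ C, c ≠ 1 ∧ c ≠ c₁ := by
      by_contra hall
      push Not at hall
      have hsub : (C : Set Q) ⊆ {1, c₁} := fun c hc => by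
        by_cases hc1 : c = 1
        · exact Or.inl hc1
        · exact Or.inr (hall c hc hc1)
      have h1 := Set.ncard_le_ncard hsub (Set.toFinite _)
      rw [← Nat.card_coe_set_eq] at h1
      have h2 : Set.ncard ({1, c₁} : Set Q) ≤ 2 := Set.ncard_insert_le _ _ |>.trans (by simp)
      have h3 : Nat.card (C : Set Q) = 2 ^ n := h.card
      have h4 : 2 ^ 2 ≤ 2 ^ n := Nat.pow_le_pow_right (by norm_num) h.two_le
      omega
    obtain ⟨b, hb⟩ := hsurj3 c₁ hc₁
    obtain ⟨b', hb'⟩ := hsurj3 c₂ hc₂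
    have hbU : b ∉ U2 := fun e => hc₁1 (hb.symm.trans (hk3' b e))
    have hb'U : b' ∉ U2 := fun e => hc₂1 (hb'.symm.trans (hk3' b' e))
    have hbb : b * b' ∉ U2 := fun e => by
      have h1 := hk3' _ e
      rw [hθ3m, hb, hb'] at h1
      exact hc₂₁ (by rw [eq_inv_of_mul_eq_one_right h1, inv_eq_of_mul_eq_one_right (h.sq c₁ hc₁)])
    set a := dev α b with ha
    have ha2 : a ∈ U2 := hddU b
    have k1 := hkey a ha2 b hbU
    have k2 := hkey a ha2 b' hb'U
    have k3 := hkey a ha2 _ hbb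
    have haa : a * a ∈ C := by
      have hq1 := (QuotientGroup.eq_one_iff _).mpr k1
      have hq2 := (QuotientGroup.eq_one_iff _).mpr k2
      have hq3 := (QuotientGroup.eq_one_iff _).mpr k3
      simp only [QuotientGroup.mk_mul, QuotientGroup.mk_inv, mul_inv_rev] at hq1 hq2 hq3
      rw [mul_eq_one_iff_eq_inv] at hq1 hq2 hq3
      rw [← QuotientGroup.eq_one_iff, QuotientGroup.mk_mul, ← eq_inv_iff_mul_eq_one]
      rw [← hq3]
      calc (a : Q ⧸ C) = ((b' : Q ⧸ C)⁻¹ * (a : Q ⧸ C) * b')⁻¹ := by rw [hq2, inv_inv]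
        _ = (b' : Q ⧸ C)⁻¹ * (a : Q ⧸ C)⁻¹ * b' := by group
        _ = (b' : Q ⧸ C)⁻¹ * ((b : Q ⧸ C)⁻¹ * (a : Q ⧸ C) * b) * b' := by rw [hq1]
        _ = _ := by simp only [mul_assoc]
    apply hc₁1
    rw [← hb]
    show dev α (dev α (dev α b)) = 1
    rw [hdd b]
    exact (h.dev_eq_one _).mpr (inv_mem haa)
  have hUcc : ∀ u ∈ U, ∀ t : Q, u * t = t * u := fun u hu t => ((comm'_eq_one_iff t u).mp (hUc u hu t)).symm
  have hl := fun a b d : Q => comm'_mul_left hUcc hcU a b d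
  have hr := fun a b d : Q => comm'_mul_right hUcc hcU a b d
  have hU1 : ∀ u ∈ U, ∀ t : Q, comm' u t = 1 ∧ comm' t u = 1 := fun u hu t =>
    ⟨(comm'_eq_one_iff u t).mpr (hUcc u hu t), hUc u hu t⟩
  have hU2comm : ∀ a ∈ U2, ∀ a' ∈ U2, comm' a a' = 1 :=
    h.alternating_eq_one U2 θ2 hθ2C hθ2m hU2ρ (fun x _ => by simp [θ2, h.dev_rho]) comm'
      (fun x hx y hy => hdev x hx y hy) (fun x _ x' _ y _ => hl x x' y) (fun x _ y _ y' _ => hr x y y')
      (fun x _ y _ => (map_comm' ρ x y).symm) (fun x _ => by simp [comm'])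
      (fun x hx hx1 y _ => (hU1 x (hk2 x hx hx1) y).1)
  have hQU2 : ∀ g : Q, ∀ a ∈ U2, comm' g a ∈ C := by
    intro g a ha
    rw [h.mem, map_comm', ← mul_dev α g, ← mul_dev α a, hl, hr g, hr (dev α g),
      (hU1 _ ha g).2, (hU1 _ ha (dev α g)).2, mul_one, mul_one, hU2comm _ (hddU g) a ha, mul_one]
  intro g k
  rw [← h.dev_eq_one]
  refine h.alternating_eq_one ⊤ θ3 (fun x _ => hθ3C x) (fun x _ y _ => hθ3m x y)
    (fun x _ => Subgroup.mem_top _) (fun x _ => hθ3ρ x) (fun x y => dev α (comm' x y))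
    (fun x _ y _ => h.mem_next.mp (hcU x y))
    (fun x _ x' _ y _ => by show dev α _ = _; rw [hl, h.dev_mul_next (hcU x y)])
    (fun x _ y _ y' _ => by show dev α _ = _; rw [hr, h.dev_mul_next (hcU x y)])
    (fun x _ y _ => by show dev α _ = _; rw [← map_comm', h.dev_rho])
    (fun x _ => by show dev α _ = 1; rw [show comm' x x = 1 by simp [comm'], dev_one])
    ?_ g (Subgroup.mem_top g) k (Subgroup.mem_top k)
  intro x _ hx y _
  show dev α (comm' x y) = 1
  rw [h.dev_eq_one, show comm' x y = (comm' y x)⁻¹ by unfold comm'; group]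
  exact inv_mem (hQU2 y x (hk3 x hx))

end Singer

/-- A nonabelian group with the `Singer` hypothesis has order `q³` and fixed squares. -/
theorem singer_order {Q : Type u} [Group Q] [Finite Q] {α ρ : MulAut Q} {C : Subgroup Q} {n : ℕ}
    (h : Singer α ρ C n) (hna : ∃ g k : Q, g * k ≠ k * g) :
    Nat.card Q = (2 ^ n) ^ 3 ∧ ∀ x : Q, x * x ∈ C := by
  suffices key : ∀ (N : ℕ) (Q : Type u) [Group Q] [Finite Q], Nat.card Q = N →
      ∀ (α ρ : MulAut Q) (C : Subgroup Q), Singer α ρ C n → (∃ g k : Q, g * k ≠ k * g) →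
      Nat.card Q = (2 ^ n) ^ 3 ∧ ∀ x : Q, x * x ∈ C from key _ Q rfl α ρ C h hna
  clear h hna α ρ C
  intro N
  induction N using Nat.strong_induction_on with
  | _ N ih =>
    intro Q _ _ hN α ρ C h hna
    suffices hcm : ∀ g k : Q, comm' g k ∈ C from
      ⟨h.card_eq_of_sq_mem hna (h.sq_mem_of_comm'_mem hna hcm), h.sq_mem_of_comm'_mem hna hcm⟩
    haveI := h.normal
    have hne : C ≠ ⊤ := fun e => by
      obtain ⟨g, k, hgk⟩ := hna
      exact hgk (h.commute_left (e ▸ Subgroup.mem_top g) k)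
    by_cases hqna : ∃ g k : Q ⧸ C, g * k ≠ k * g
    swap
    · push Not at hqna
      intro g k
      rw [← QuotientGroup.eq_one_iff]
      simp [comm', hqna (g : Q ⧸ C) k]
    have hh := h.quotient hne
    have hlt : Nat.card (Q ⧸ C) < N := by
      rw [← hN, Subgroup.card_eq_card_quotient_mul_card_subgroup C, h.card]
      exact lt_mul_of_one_lt_right Nat.card_pos (Nat.one_lt_two_pow (by have := h.two_le; omega))
    obtain ⟨-, hsq⟩ := ih _ hlt (Q ⧸ C) rfl _ _ _ hh hqna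
    have hmem : ∀ t : Q, ((t : Q ⧸ C) ∈ (Singer.next α C).map (QuotientGroup.mk' C)) → t ∈ Singer.next α C := by
      rintro t ⟨w, hw, hwt⟩
      have : t = w * (w⁻¹ * t) := by group
      rw [this]
      exact mul_mem hw (h.le_next (QuotientGroup.eq.mp hwt))
    refine h.no_nonabelian_quotient (fun x => hmem _ ?_) ?_ ?_
    · rw [QuotientGroup.mk_mul]; exact hsq (x : Q ⧸ C)
    · intro u hu t
      rw [← QuotientGroup.eq_one_iff]
      have h1 := hh.commute_left (c := (u : Q ⧸ C)) ⟨u, hu, rfl⟩ (t : Q ⧸ C)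
      simp [comm', h1]
    · intro x hx y hy
      rw [← QuotientGroup.eq_one_iff]
      have hx' : (x : Q ⧸ C) ∈ Singer.next (Singer.quotAut α h.map_alpha)
          ((Singer.next α C).map (QuotientGroup.mk' C)) := hh.mem_next.mpr ⟨dev α x, hx, rfl⟩
      have hy' : (y : Q ⧸ C) ∈ Singer.next (Singer.quotAut α h.map_alpha)
          ((Singer.next α C).map (QuotientGroup.mk' C)) := hh.mem_next.mpr ⟨dev α y, hy, rfl⟩
      simp [comm', hh.next_comm hx' hy']

end CfsgLib.StdForm
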