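import Mathlib
import Cfsg.Agent.Lib.StdForm.SingerOrder

/-!
Field coordinates for a nonabelian group with the `Singer` hypothesis: the squaring map is a
quadratic form.
-/

set_option autoImplicit false

namespace CfsgLib.StdForm

universe u

namespace Singer

variable {Q : Type u} [Group Q] [Finite Q] {α ρ : MulAut Q} {C : Subgroup Q} {n : ℕ}
  (h : Singer α ρ C n)

include h in
/-- A field structure on `C` in which `ρ` is a scalar. -/
theorem exists_scalar :
    ∃ (ψ : Multiplicative (GaloisField 2 n) ≃* C) (a : GaloisField 2 n), a ≠ 0 ∧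
      (∀ x, ρ (ψ (Multiplicative.ofAdd x) : Q) = ψ (Multiplicative.ofAdd (a * x))) ∧
      ∀ b, b ≠ 0 → ∃ k : ℕ, a ^ k = b := by
  classical
  haveI : Fact (Nat.Prime 2) := ⟨Nat.prime_two⟩
  letI : CommGroup C := { (inferInstance : Group C) with
    mul_comm := fun a b => Subtype.ext (h.comm_mem a.2 b.2) }
  have hco : Commute α ρ := MulEquiv.ext h.comm
  have hkC : ∀ k ∈ Subgroup.zpowers ρ, ∀ c ∈ C, (k : MulAut Q) c ∈ C := by
    rintro _ ⟨i, rfl⟩ c hc
    rw [h.mem]
    have h1 := congrArg (fun φ : MulAut Q => φ c) (hco.zpow_right i).eq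
    simp only [MulAut.mul_apply] at h1
    rw [h1, (h.mem c).mp hc]
  let ι : Subgroup.zpowers ρ →* MulAut C :=
    MonoidHom.mk' (fun k =>
      { toFun := fun c => ⟨(k : MulAut Q) c, hkC _ k.2 _ c.2⟩
        invFun := fun c => ⟨(k : MulAut Q)⁻¹ c, hkC _ (inv_mem k.2) _ c.2⟩
        left_inv := fun c => Subtype.ext (MulAut.inv_apply_self _ _ _)
        right_inv := fun c => Subtype.ext (MulAut.apply_inv_self _ _ _)
        map_mul' := fun a b => Subtype.ext (map_mul _ _ _) })
      (fun a b => by ext c; rfl)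
  obtain ⟨e, heC, he1⟩ := h.exists_ne_one
  obtain ⟨F, _, _, ψ, hψ1, hψ⟩ := CfsgLib.SuzukiTwo.exists_field_structure ι
    (fun k l c => Subtype.ext (by
      obtain ⟨i, hi⟩ := k.2
      obtain ⟨j, hj⟩ := l.2
      show (k : MulAut Q) ((l : MulAut Q) c) = (l : MulAut Q) ((k : MulAut Q) c)
      rw [← hi, ← hj, ← MulAut.mul_apply, ← MulAut.mul_apply, ← zpow_add, ← zpow_add, add_comm]))
    (e := ⟨e, heC⟩) (fun h1 => he1 (congrArg Subtype.val h1))
    (fun x hx1 => by
      obtain ⟨k, hk⟩ := h.trans e x heC x.2 he1 (fun h1 => hx1 (Subtype.ext h1))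
      exact ⟨⟨ρ ^ k, pow_mem (Subgroup.mem_zpowers ρ) k⟩, Subtype.ext hk⟩)
  obtain ⟨a, ha0, ha⟩ := hψ ⟨ρ, Subgroup.mem_zpowers ρ⟩
  have haQ : ∀ x, ρ (ψ (Multiplicative.ofAdd x) : Q) = ψ (Multiplicative.ofAdd (a * x)) := fun x =>
    congrArg Subtype.val (ha x)
  have hak : ∀ (k : ℕ) (x : F), (ρ ^ k) (ψ (Multiplicative.ofAdd x) : Q) =
      ψ (Multiplicative.ofAdd (a ^ k * x)) := by
    intro k
    induction k with
    | zero => intro x; simp
    | succ k ih => intro x; rw [pow_succ', MulAut.mul_apply, ih, haQ, pow_succ', mul_assoc]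
  have hpow : ∀ b : F, b ≠ 0 → ∃ k : ℕ, a ^ k = b := by
    intro b hb
    obtain ⟨k, hk⟩ := h.trans e (ψ (Multiplicative.ofAdd b)) heC (ψ (Multiplicative.ofAdd b)).2 he1
      (fun h1 => hb (by
        have h2 : ψ (Multiplicative.ofAdd b) = 1 := Subtype.ext h1
        exact ψ.injective (h2.trans (map_one ψ).symm)))
    refine ⟨k, ?_⟩
    have h1 := hak k 1
    rw [hψ1] at h1
    rw [hk, mul_one] at h1
    exact (Multiplicative.ofAdd.injective (ψ.injective (Subtype.ext h1))).symm
  have hn : n ≠ 0 := by have := h.two_le; omega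
  haveI : Fintype (GaloisField 2 n) := Fintype.ofFinite _
  have hcard : Fintype.card (GaloisField 2 n) = Fintype.card F := by
    rw [← Nat.card_eq_fintype_card, ← Nat.card_eq_fintype_card, GaloisField.card 2 n hn,
      Nat.card_congr (Multiplicative.ofAdd.trans ψ.toEquiv), h.card]
  let φ : GaloisField 2 n ≃+* F := FiniteField.ringEquivOfCardEq hcard
  let Φ : Multiplicative (GaloisField 2 n) ≃* C := (AddEquiv.toMultiplicative φ.toAddEquiv).trans ψ
  have hΦ : ∀ x, Φ (Multiplicative.ofAdd x) = ψ (Multiplicative.ofAdd (φ x)) := fun x => rfl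
  refine ⟨Φ, φ.symm a, fun h0 => ha0 (by simpa using congrArg φ h0), fun x => ?_, fun b hb => ?_⟩
  · rw [hΦ, hΦ, map_mul, φ.apply_symm_apply, haQ]
  · obtain ⟨k, hk⟩ := hpow (φ b) (fun h0 => hb (φ.injective (h0.trans (map_zero φ).symm)))
    exact ⟨k, φ.injective (by rw [map_pow, φ.apply_symm_apply, hk])⟩

include h in
/-- The squaring map in field coordinates is the form `y² + x y + e x²`. -/
theorem exists_quadratic (hρ : ρ ^ (2 ^ n - 1) = 1) (hna : ∃ g k : Q, g * k ≠ k * g) :
    ∃ (e : GaloisField 2 n) (π : Q →* Multiplicative (GaloisField 2 n × GaloisField 2 n))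
      (ι : Multiplicative (GaloisField 2 n) →* Q),
      Function.Surjective π ∧ Function.Injective ι ∧ π.ker = ι.range ∧
      (∀ z g, g * ι z = ι z * g) ∧
      ∀ g x y, π g = Multiplicative.ofAdd (x, y) →
        g * g = ι (Multiplicative.ofAdd (y * y + x * y + e * (x * x))) := by
  classical
  haveI : Fact (Nat.Prime 2) := ⟨Nat.prime_two⟩
  obtain ⟨hcard, hsq⟩ := singer_order h hna
  obtain ⟨ψ, a, ha0, ha, hgen⟩ := h.exists_scalar
  have hn : n ≠ 0 := by have := h.two_le; omega
  haveI hCn := h.normal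
  have hne : C ≠ ⊤ := fun e => by
    obtain ⟨g, k, hgk⟩ := hna
    exact hgk (h.commute_left (e ▸ Subgroup.mem_top g) k)
  let co : Q → GaloisField 2 n := fun c =>
    if hc : c ∈ C then Multiplicative.toAdd (ψ.symm ⟨c, hc⟩) else 0
  have hco : ∀ c (hc : c ∈ C), (ψ (Multiplicative.ofAdd (co c)) : Q) = c := fun c hc => by
    simp [co, hc]
  have coψ : ∀ x, co (ψ (Multiplicative.ofAdd x) : Q) = x := fun x => by simp [co]
  have co_one : co 1 = 0 := by
    have h1 : (1 : Q) = (ψ (Multiplicative.ofAdd 0) : Q) := by simp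
    rw [h1, coψ]
  have co_mul : ∀ c ∈ C, ∀ d ∈ C, co (c * d) = co c + co d := fun c hc d hd => by
    conv_lhs => rw [← hco c hc, ← hco d hd, ← Subgroup.coe_mul, ← map_mul, ← ofAdd_add, coψ]
  have co_inj : ∀ c ∈ C, co c = 0 → c = 1 := fun c hc h0 => by
    rw [← hco c hc, h0]; simp
  have co_rho : ∀ c ∈ C, co (ρ c) = a * co c := fun c hc => by
    conv_lhs => rw [← hco c hc, ha, coψ]
  have h2 : ∀ x : GaloisField 2 n, x + x = 0 := CharTwo.add_self_eq_zero
  have hroot : ∀ x : GaloisField 2 n, ∃ y, y * y = x :=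
    (Finite.injective_iff_surjective (f := fun y : GaloisField 2 n => y * y)).1 (fun x y (hxy : x * x = y * y) => by
      have h3 : (x + y) * (x + y) = 0 := by linear_combination hxy + h2 (y * y) + h2 (x * y)
      linear_combination mul_self_eq_zero.mp h3 - h2 y)
  have hdevU : ∀ x, dev α x ∈ next α C := fun x => by
    rw [h.mem_next]
    have e : dev α (dev α x) = (dev α x * dev α x)⁻¹ := by
      conv_lhs => rw [dev, h.dev_dev]
      rw [← mul_inv_rev]
    rw [e]
    exact inv_mem (hsq _)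
  have hcm : ∀ g k : Q, comm' g k ∈ C := fun g k => by
    have h1 : comm' g k = (g * k * (g * k)) * (k⁻¹ * (g * g)⁻¹ * k) * (k * k)⁻¹ := by
      unfold comm'; group
    rw [h1]
    exact mul_mem (mul_mem (hsq _) (hCn.conj_mem' _ (inv_mem (hsq g)) k)) (inv_mem (hsq k))
  have hZc : ∀ z ∈ C, ∀ t : Q, z * t = t * z := fun z hz t => h.commute_left hz t
  let θ : Q → GaloisField 2 n := fun x => co (dev α (dev α x))
  have hθadd : ∀ x y, θ (x * y) = θ x + θ y := by
    intro x y
    show co (dev α (dev α (x * y))) = co (dev α (dev α x)) + co (dev α (dev α y))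
    have e : dev α (x * y) = dev α x * comm' (dev α x)⁻¹ y⁻¹ * dev α y := by
      rw [dev_mul]; unfold comm'; group
    rw [e, h.dev_mul_next (mul_mem (hdevU x) (h.le_next (hcm _ _))), h.dev_mul_next (hdevU x),
      (h.dev_eq_one _).mpr (hcm _ _), mul_one, co_mul _ (h.mem_next.mp (hdevU x)) _ (h.mem_next.mp (hdevU y))]
  have hθU : ∀ u ∈ next α C, θ u = 0 := fun u hu => by
    show co (dev α (dev α u)) = 0
    rw [(h.dev_eq_one _).mpr (h.mem_next.mp hu), co_one]
  have hθρ : ∀ x, θ (ρ x) = a * θ x := fun x => by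
    show co (dev α (dev α (ρ x))) = _
    rw [h.dev_rho, h.dev_rho, co_rho _ (h.mem_next.mp (hdevU x))]
  -- an additive retraction
  obtain ⟨r, hradd, hrU⟩ : ∃ r : Q → GaloisField 2 n, (∀ x y, r (x * y) = r x + r y) ∧
      ∀ u ∈ next α C, r u = co (dev α u) := by
    letI : CommGroup (Q ⧸ C) := { (inferInstance : Group (Q ⧸ C)) with
      mul_comm := fun a b => by
        induction a using QuotientGroup.induction_on with
        | H a =>
          induction b using QuotientGroup.induction_on with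
          | H b =>
            rw [← QuotientGroup.mk_mul, ← QuotientGroup.mk_mul, mul_eq_comm'_mul a b, QuotientGroup.mk_mul,
              (QuotientGroup.eq_one_iff _).mpr (hcm a b), one_mul] }
    letI : Module (ZMod 2) (Additive (Q ⧸ C)) := AddCommGroup.zmodModule (fun y => by
      obtain ⟨y, rfl⟩ := Additive.ofMul.surjective y
      induction y using QuotientGroup.induction_on with
      | H t =>
        rw [two_nsmul, ← ofMul_mul, ← QuotientGroup.mk_mul, (QuotientGroup.eq_one_iff _).mpr (hsq t)]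
        rfl)
    let Ub : Submodule (ZMod 2) (Additive (Q ⧸ C)) :=
      AddSubgroup.toZModSubmodule 2 (((next α C).map (QuotientGroup.mk' C)).toAddSubgroup)
    have hpre : ∀ v : Ub, ∃ u ∈ next α C, Additive.ofMul (u : Q ⧸ C) = (v : Additive (Q ⧸ C)) := fun v => by
      obtain ⟨u, hu, he⟩ := v.2
      exact ⟨u, hu, he⟩
    choose pre hpreU hpre using hpre
    have hwd : ∀ v : Ub, ∀ u ∈ next α C, Additive.ofMul (u : Q ⧸ C) = (v : Additive (Q ⧸ C)) →
        co (dev α (pre v)) = co (dev α u) := fun v u hu he => by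
      have hc : (pre v)⁻¹ * u ∈ C := QuotientGroup.eq.mp (Additive.ofMul.injective ((hpre v).trans he.symm))
      have h1 := h.dev_mul_next (hpreU v) ((pre v)⁻¹ * u)
      rw [mul_inv_cancel_left, (h.dev_eq_one _).mpr hc, mul_one] at h1
      rw [h1]
    let f : Ub →+ GaloisField 2 n := AddMonoidHom.mk' (fun v => co (dev α (pre v))) (fun v w => by
      rw [hwd (v + w) (pre v * pre w) (mul_mem (hpreU v) (hpreU w))
        (by rw [QuotientGroup.mk_mul, ofMul_mul, hpre, hpre]; rfl),
        h.dev_mul_next (hpreU v), co_mul _ (h.mem_next.mp (hpreU v)) _ (h.mem_next.mp (hpreU w))])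
    letI : Algebra (ZMod 2) (GaloisField 2 n) := ZMod.algebra _ 2
    obtain ⟨g, hg⟩ := LinearMap.exists_extend (f.toZModLinearMap 2)
    refine ⟨fun x => g (Additive.ofMul (x : Q ⧸ C)), fun x y => ?_, fun u hu => ?_⟩
    · dsimp only
      rw [QuotientGroup.mk_mul, ofMul_mul, map_add]
    · have hv : Additive.ofMul (u : Q ⧸ C) ∈ Ub := ⟨u, hu, rfl⟩
      exact (LinearMap.congr_fun hg ⟨_, hv⟩).trans (hwd ⟨_, hv⟩ u hu rfl)
  have hN : a ^ (2 ^ n - 1) = 1 := by
    haveI : Fintype (GaloisField 2 n) := Fintype.ofFinite _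
    have h1 := FiniteField.pow_card_sub_one_eq_one a ha0
    rwa [← Nat.card_eq_fintype_card, GaloisField.card 2 n hn] at h1
  set N := 2 ^ n - 1 with hNdef
  have hNodd : Odd N := by
    obtain ⟨m, rfl⟩ : ∃ m, n = m + 1 := ⟨n - 1, by omega⟩
    exact ⟨2 ^ m - 1, by have := Nat.one_le_two_pow (n := m); rw [hNdef, pow_succ]; omega⟩
  -- averaging
  let η : Q → GaloisField 2 n := fun x => ∑ i ∈ Finset.range N, a⁻¹ ^ i * r ((ρ ^ i) x)
  have hηadd : ∀ x y, η (x * y) = η x + η y := fun x y => by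
    simp only [η, map_mul, hradd, mul_add, Finset.sum_add_distrib]
  have hρU : ∀ (i : ℕ) (u : Q), u ∈ next α C →
      (ρ ^ i) u ∈ next α C ∧ co (dev α ((ρ ^ i) u)) = a ^ i * co (dev α u) := by
    intro i
    induction i with
    | zero => intro u hu; simp [hu]
    | succ i ih =>
      intro u hu
      obtain ⟨i1, i2⟩ := ih u hu
      rw [pow_succ', MulAut.mul_apply]
      exact ⟨h.rho_next i1, by rw [h.dev_rho, co_rho _ (h.mem_next.mp i1), i2, pow_succ', mul_assoc]⟩
  have hηU : ∀ u ∈ next α C, η u = co (dev α u) := fun u hu => by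
    show ∑ i ∈ Finset.range N, _ = _
    rw [Finset.sum_congr rfl fun i _ => by
      rw [hrU _ (hρU i u hu).1, (hρU i u hu).2, ← mul_assoc, ← mul_pow, inv_mul_cancel₀ ha0, one_pow, one_mul]]
    obtain ⟨m, hm⟩ := hNodd
    rw [Finset.sum_const, Finset.card_range, hm, add_nsmul, mul_nsmul, two_nsmul, one_nsmul, h2]
    simp
  have hηρ : ∀ x, η (ρ x) = a * η x := fun x => by
    let g : ℕ → GaloisField 2 n := fun i => a⁻¹ ^ i * r ((ρ ^ i) x)
    have h1 : η (ρ x) = a * ∑ i ∈ Finset.range N, g (i + 1) := by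
      rw [Finset.mul_sum]
      refine Finset.sum_congr rfl fun i _ => ?_
      simp only [g]
      rw [pow_succ' a⁻¹, ← mul_assoc, ← mul_assoc, mul_inv_cancel₀ ha0, one_mul, pow_succ ρ,
        MulAut.mul_apply]
    have h3 : g N = g 0 := by simp [g, inv_pow, hN, hρ]
    have h4 : ∑ i ∈ Finset.range N, g (i + 1) = ∑ i ∈ Finset.range N, g i := by
      have e1 := Finset.sum_range_succ g N
      have e2 := Finset.sum_range_succ' g N
      rw [h3] at e1
      rw [e1] at e2
      exact (add_right_cancel e2).symm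
    rw [h1, h4]
  let π : Q →* Multiplicative (GaloisField 2 n × GaloisField 2 n) :=
    MonoidHom.mk' (fun x => Multiplicative.ofAdd (θ x, η x)) fun x y => by
      rw [hθadd, hηadd]; rfl
  have hπ : ∀ x, π x = Multiplicative.ofAdd (θ x, η x) := fun x => rfl
  have hker : ∀ x, π x = 1 ↔ x ∈ C := by
    intro x
    constructor
    · intro hx
      have h1 : θ x = 0 ∧ η x = 0 := by
        have := congrArg Multiplicative.toAdd hx
        exact ⟨congrArg Prod.fst this, congrArg Prod.snd this⟩
      have hxU : x ∈ next α C := h.mem_next.mpr ((h.dev_eq_one _).mp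
        (co_inj _ (h.mem_next.mp (hdevU x)) h1.1))
      rw [hηU x hxU] at h1
      exact (h.dev_eq_one x).mp (co_inj _ (h.mem_next.mp hxU) h1.2)
    · intro hx
      rw [hπ, hθU x (h.le_next hx), hηU x (h.le_next hx), (h.dev_eq_one x).mpr hx, co_one]
      rfl
  have hπsurj : Function.Surjective π := by
    rw [← MonoidHom.range_eq_top]
    apply Subgroup.eq_top_of_card_eq
    have h1 := π.ker.card_mul_index
    rw [Subgroup.index_ker, hcard] at h1
    have h3 : π.ker = C := by ext x; exact hker x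
    rw [h3, h.card] at h1
    rw [Nat.card_congr Multiplicative.toAdd, Nat.card_prod, GaloisField.card 2 n hn]
    apply Nat.eq_of_mul_eq_mul_left (show 0 < 2 ^ n by positivity)
    rw [h1]
    ring
  choose pre hpre using fun v : GaloisField 2 n × GaloisField 2 n => hπsurj (Multiplicative.ofAdd v)
  have hwdq : ∀ g g' : Q, π g = π g' → g * g = g' * g' := fun g g' he => by
    have hc : g⁻¹ * g' ∈ C := (hker _).mp (by rw [map_mul, map_inv, he, inv_mul_cancel])
    have e : g' = g * (g⁻¹ * g') := by group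
    rw [e, sq_mul' hZc hcm, h.sq _ hc, mul_one, (comm'_eq_one_iff _ _).mpr (hZc _ hc g), one_mul]
  have hwdc : ∀ g g' k k' : Q, π g = π g' → π k = π k' → comm' g k = comm' g' k' := fun g g' k k' he hek => by
    have hc : g⁻¹ * g' ∈ C := (hker _).mp (by rw [map_mul, map_inv, he, inv_mul_cancel])
    have hd : k⁻¹ * k' ∈ C := (hker _).mp (by rw [map_mul, map_inv, hek, inv_mul_cancel])
    have e : g' = g * (g⁻¹ * g') := by group
    have e' : k' = k * (k⁻¹ * k') := by group
    rw [e, e', comm'_mul_left hZc hcm, (comm'_eq_one_iff (g⁻¹ * g') _).mpr (hZc _ hc _), mul_one,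
      comm'_mul_right hZc hcm, (comm'_eq_one_iff g _).mpr (hZc _ hd g).symm, mul_one]
  let q : GaloisField 2 n × GaloisField 2 n → GaloisField 2 n := fun v => co (pre v * pre v)
  let B : GaloisField 2 n × GaloisField 2 n → GaloisField 2 n × GaloisField 2 n → GaloisField 2 n :=
    fun v w => co (comm' (pre v) (pre w))
  have hqadd : ∀ v w, q (v + w) = B w v + (q v + q w) := fun v w => by
    show co _ = _
    rw [hwdq (pre (v + w)) (pre v * pre w) (by rw [map_mul, hpre, hpre, hpre]; rfl), sq_mul' hZc hcm,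
      co_mul _ (hcm _ _) _ (mul_mem (hsq _) (hsq _)), co_mul _ (hsq _) _ (hsq _)]
  have hBl : ∀ v v' w, B (v + v') w = B v w + B v' w := fun v v' w => by
    show co _ = _
    rw [hwdc (pre (v + v')) (pre v * pre v') (pre w) (pre w) (by rw [map_mul, hpre, hpre, hpre]; rfl) rfl,
      comm'_mul_left hZc hcm, co_mul _ (hcm _ _) _ (hcm _ _)]
  have hBr : ∀ v w w', B v (w + w') = B v w + B v w' := fun v w w' => by
    show co _ = _
    rw [hwdc (pre v) (pre v) (pre (w + w')) (pre w * pre w') rfl (by rw [map_mul, hpre, hpre, hpre]; rfl),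
      comm'_mul_right hZc hcm, co_mul _ (hcm _ _) _ (hcm _ _)]
  have hBsymm : ∀ v w, B v w = B w v := fun v w => by
    show co _ = co _
    rw [comm'_symm hZc hcm h.sq]
  have hBalt : ∀ v, B v v = 0 := fun v => by
    show co _ = 0
    rw [show comm' (pre v) (pre v) = 1 by simp [comm'], co_one]
  have hρv : ∀ v, π (ρ (pre v)) = π (pre (a * v.1, a * v.2)) := fun v => by
    have hv := hpre v
    rw [hπ] at hv
    have hv' := Multiplicative.ofAdd.injective hv
    have e1 : θ (pre v) = v.1 := congrArg Prod.fst hv'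
    have e2 : η (pre v) = v.2 := congrArg Prod.snd hv'
    rw [hpre, hπ, hθρ, hηρ, e1, e2]
  have hscal : ∀ b, b ≠ 0 → (∀ x y, q (b * x, b * y) = b * q (x, y)) ∧
      ∀ v w, B (b * v.1, b * v.2) (b * w.1, b * w.2) = b * B v w := by
    intro b hb
    obtain ⟨k, rfl⟩ := hgen b hb
    clear hb
    induction k with
    | zero => simp
    | succ k ih =>
      obtain ⟨i1, i2⟩ := ih
      have s1 : ∀ v, q (a * v.1, a * v.2) = a * q v := fun v => by
        show co _ = a * co _
        rw [← hwdq (ρ (pre v)) _ (hρv v), ← map_mul, co_rho _ (hsq _)]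
      have s2 : ∀ v w, B (a * v.1, a * v.2) (a * w.1, a * w.2) = a * B v w := fun v w => by
        show co _ = a * co _
        rw [← hwdc (ρ (pre v)) _ (ρ (pre w)) _ (hρv v) (hρv w), ← map_comm', co_rho _ (hcm _ _)]
      constructor
      · intro x y
        have e := s1 (a ^ k * x, a ^ k * y)
        simp only [← mul_assoc, ← pow_succ'] at e
        rw [e, i1, pow_succ', mul_assoc]
      · intro v w
        have e := s2 (a ^ k * v.1, a ^ k * v.2) (a ^ k * w.1, a ^ k * w.2)
        simp only [← mul_assoc, ← pow_succ'] at e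
        rw [e, i2, pow_succ', mul_assoc]
  have hq0 : q (0, 0) = 0 := by
    show co _ = 0
    rw [hwdq (pre (0, 0)) 1 (by rw [hpre, map_one]; rfl), one_mul, co_one]
  have hq10 : ∀ x, q (x, 0) = x * q (1, 0) := fun x => by
    by_cases hx : x = 0
    · rw [hx, hq0, zero_mul]
    · simpa using (hscal x hx).1 1 0
  have hq01 : ∀ y, q (0, y) = y * q (0, 1) := fun y => by
    by_cases hy : y = 0
    · rw [hy, hq0, zero_mul]
    · simpa using (hscal y hy).1 0 1
  have hB11 : ∀ x x', B (x, 0) (x', 0) = 0 :=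
    CfsgLib.SuzukiTwo.field_alternating_eq_zero h2 (fun x x' => B (x, 0) (x', 0))
      (fun x x' y => by rw [← hBl]; simp) (fun x => hBalt _)
      (fun b x y hb => by simpa using (hscal b hb).2 (x, 0) (y, 0)) hroot
      (fun x y y' => by rw [← hBr]; simp)
  have hB22 : ∀ y y', B (0, y) (0, y') = 0 :=
    CfsgLib.SuzukiTwo.field_alternating_eq_zero h2 (fun y y' => B (0, y) (0, y'))
      (fun x x' y => by rw [← hBl]; simp) (fun x => hBalt _)
      (fun b x y hb => by simpa using (hscal b hb).2 (0, x) (0, y)) hroot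
      (fun x y y' => by rw [← hBr]; simp)
  have hB21 := equivariant_sq h2 (fun y x => B (0, y) (x, 0))
    (fun x x' y => by rw [← hBl]; simp) (fun x y y' => by rw [← hBr]; simp)
    (fun b x y hb => by simpa using (hscal b hb).2 (0, x) (y, 0))
  set kk := B (0, 1) (1, 0) * B (0, 1) (1, 0) with hkk
  set β := q (1, 0) * q (1, 0) with hβ
  set γ := q (0, 1) * q (0, 1) with hγ
  have hq : ∀ x y, q (x, y) * q (x, y) = β * (x * x) + γ * (y * y) + kk * (x * y) := by
    intro x y
    have e : q (x, y) = B (0, y) (x, 0) + (q (x, 0) + q (0, y)) := by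
      rw [← hqadd]; simp
    have e2 := hB21 y x
    rw [e, hq10, hq01, hβ, hγ, hkk]
    linear_combination e2 + h2 (B (0, y) (x, 0) * (x * q (1, 0))) + h2 (B (0, y) (x, 0) * (y * q (0, 1)))
      + h2 (x * q (1, 0) * (y * q (0, 1)))
  -- the involution
  have hαv : γ = kk := by
    have h1 : π (α (pre (1, 0))) = π (pre (1, 1)) := by
      have hv := hpre (1, 0)
      rw [hπ] at hv
      have hv' := Multiplicative.ofAdd.injective hv
      rw [← mul_dev α, map_mul, hπ, hπ, hpre, hθU _ (hdevU _), hηU _ (hdevU _), ← ofAdd_add]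
      show Multiplicative.ofAdd ((θ (pre (1, 0)), η (pre (1, 0))) + ((0 : GaloisField 2 n), θ (pre (1, 0)))) = _
      have e1 : θ (pre (1, 0)) = 1 := congrArg Prod.fst hv'
      have e2 : η (pre (1, 0)) = 0 := congrArg Prod.snd hv'
      rw [e1, e2]
      simp
    have h3 : q (1, 1) = q (1, 0) := by
      show co _ = co _
      rw [← hwdq _ _ h1, ← map_mul, (h.mem _).mp (hsq _)]
    have h4 := hq 1 1
    rw [h3, hq 1 0] at h4
    linear_combination h4.symm - h2 kk
  have hkk0 : kk ≠ 0 := by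
    intro h0
    have hz : ∀ y x, B (0, y) (x, 0) = 0 := fun y x => by
      have e2 := hB21 y x
      rw [h0, zero_mul] at e2
      exact mul_self_eq_zero.mp e2
    obtain ⟨g, k, hgk⟩ := hna
    apply hgk
    rw [← comm'_eq_one_iff]
    apply co_inj _ (hcm g k)
    rw [hwdc g (pre (θ g, η g)) k (pre (θ k, η k)) (by rw [hpre, hπ]) (by rw [hpre, hπ])]
    show B (θ g, η g) (θ k, η k) = 0
    have e1 : (θ g, η g) = (θ g, (0 : GaloisField 2 n)) + (0, η g) := by simp
    have e2 : (θ k, η k) = (θ k, (0 : GaloisField 2 n)) + (0, η k) := by simp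
    rw [e1, e2, hBl, hBr, hBr, hB11, hB22, hBsymm (θ g, 0), hz, hz]
    simp
  -- the embedding of the centre
  have hsbij : Function.Bijective fun w : GaloisField 2 n => kk⁻¹ * (w * w) :=
    ⟨fun x y (hxy : kk⁻¹ * (x * x) = kk⁻¹ * (y * y)) => by
      have h1 := mul_left_cancel₀ (inv_ne_zero hkk0) hxy
      have h3 : (x + y) * (x + y) = 0 := by linear_combination h1 + h2 (y * y) + h2 (x * y)
      linear_combination mul_self_eq_zero.mp h3 - h2 y,
    fun z => by
      obtain ⟨w, hw⟩ := hroot (kk * z)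
      exact ⟨w, by simp only [hw]; rw [← mul_assoc, inv_mul_cancel₀ hkk0, one_mul]⟩⟩
  let S : GaloisField 2 n ≃+ GaloisField 2 n :=
    { Equiv.ofBijective _ hsbij with
      map_add' := fun x y => by
        show kk⁻¹ * ((x + y) * (x + y)) = kk⁻¹ * (x * x) + kk⁻¹ * (y * y)
        linear_combination kk⁻¹ * h2 (x * y) }
  let ι : Multiplicative (GaloisField 2 n) →* Q :=
    C.subtype.comp (ψ.toMonoidHom.comp (AddEquiv.toMultiplicative S.symm).toMonoidHom)
  have hι : ∀ t, ι (Multiplicative.ofAdd t) = (ψ (Multiplicative.ofAdd (S.symm t)) : Q) := fun t => rfl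
  refine ⟨β * kk⁻¹, π, ι, hπsurj, ?_, ?_, ?_, ?_⟩
  · exact C.subtype_injective.comp (ψ.injective.comp (AddEquiv.toMultiplicative S.symm).injective)
  · ext x
    rw [MonoidHom.mem_ker, hker]
    constructor
    · intro hx
      exact ⟨Multiplicative.ofAdd (S (co x)), by rw [hι, S.symm_apply_apply, hco x hx]⟩
    · rintro ⟨t, rfl⟩
      exact SetLike.coe_mem _
  · intro z g
    exact (hZc _ (SetLike.coe_mem _) g).symm
  · intro g x y hg
    rw [hι]
    have e : g * g = pre (x, y) * pre (x, y) := hwdq _ _ (by rw [hpre, hg])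
    rw [e, ← hco _ (hsq (pre (x, y)))]
    congr 3
    rw [eq_comm, S.symm_apply_eq]
    show _ = kk⁻¹ * (q (x, y) * q (x, y))
    rw [hq, hαv]
    field_simp
    ring

end Singer

end CfsgLib.StdForm
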