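import Mathlib
import Cfsg.Agent.Lib.StdForm.QuadFour
import Cfsg.Agent.Lib.PGroup.Basic

/-!
Automorphisms of finite 2-groups in which all involutions are central and there are at most three
of them.
-/

set_option autoImplicit false

namespace CfsgLib.StdForm

variable {C : Type*} [Group C]

/-- A moved element whose displacement is fixed has displacement killed by the order of the map. -/
theorem disp_pow_eq_one (β : MulAut C) {r : ℕ} (hβ : β ^ r = 1) {g m : C} (hg : β g = g * m)
    (hm : β m = m) : m ^ r = 1 := by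
  have key : ∀ j : ℕ, (β ^ j) g = g * m ^ j := by
    intro j
    induction j with
    | zero => simp
    | succ j ih => rw [pow_succ', MulAut.mul_apply, ih, map_mul, map_pow, hg, hm, pow_succ', mul_assoc]
  have := key r
  rw [hβ, MulAut.one_apply] at this
  exact mul_eq_left.mp this.symm

theorem eq_one_of_pow_odd_of_isPGroup (h2 : IsPGroup 2 C) {m : C} {r : ℕ} (hr : Odd r)
    (hm : m ^ r = 1) : m = 1 := by
  obtain ⟨k, hk⟩ := h2 m
  exact orderOf_eq_one_iff.mp (Nat.eq_one_of_dvd_coprimes
    ((Nat.coprime_two_right.mpr hr).pow_right k) (orderOf_dvd_of_pow_eq_one hm) (orderOf_dvd_of_pow_eq_one hk))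

/-- The standard class 2 characteristic self-centralizing subgroup, with its two layers. -/
theorem exists_class_two_selfCentralizing [Finite C] (h2 : IsPGroup 2 C) :
    ∃ A D : Subgroup C, A.Characteristic ∧ D.Characteristic ∧ A ≤ D ∧
      (∀ a ∈ A, ∀ d ∈ D, a * d = d * a) ∧ (∀ d ∈ D, d * d ∈ A) ∧
      (∀ d ∈ D, ∀ g : C, d * g * d⁻¹ * g⁻¹ ∈ A) ∧ Subgroup.centralizer (D : Set C) ≤ A ∧
      ∀ e ∈ Subgroup.center C, e * e = 1 → e ∈ D := by
  haveI : Fact (Nat.Prime 2) := ⟨Nat.prime_two⟩
  let S := {A : Subgroup C | A.Characteristic ∧ IsMulCommutative ↥A}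
  have hne : (Subgroup.center C) ∈ S := ⟨inferInstance, inferInstance⟩
  obtain ⟨A, -, hAmax⟩ := (Set.toFinite S).exists_le_maximal hne
  obtain ⟨hAc, hAab⟩ := hAmax.1
  have hA : ∀ a ∈ A, ∀ b ∈ A, a * b = b * a := fun a ha b hb =>
    congrArg Subtype.val (hAab.is_comm.comm (⟨a, ha⟩ : A) ⟨b, hb⟩)
  haveI : A.Normal := inferInstance
  have hZA : Subgroup.center C ≤ A := by
    have hsup : (A ⊔ Subgroup.center C) ∈ S := by
      refine ⟨?_, ?_⟩
      · rw [Subgroup.characteristic_iff_map_eq]
        intro φ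
        rw [Subgroup.map_sup, Subgroup.characteristic_iff_map_eq.mp hAc φ,
          Subgroup.characteristic_iff_map_eq.mp (inferInstance : (Subgroup.center C).Characteristic) φ]
      · rw [Subgroup.sup_eq_closure]
        refine Subgroup.isMulCommutative_closure (k := (A : Set C) ∪ (Subgroup.center C : Set C)) ?_
        rintro x (hx | hx) y (hy | hy)
        · exact hA x hx y hy
        · exact Subgroup.mem_center_iff.mp hy x
        · exact (Subgroup.mem_center_iff.mp hx y).symm
        · exact Subgroup.mem_center_iff.mp hy x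
    exact le_sup_right.trans (hAmax.2 hsup le_sup_left)
  let mk := QuotientGroup.mk' A
  let Z1 : Subgroup (C ⧸ A) :=
    { carrier := {c | c ∈ Subgroup.center (C ⧸ A) ∧ c * c = 1}
      mul_mem' := by
        intro a b ha hb
        refine ⟨mul_mem ha.1 hb.1, ?_⟩
        have hc : b * a = a * b := Subgroup.mem_center_iff.mp ha.1 b
        rw [mul_assoc, ← mul_assoc b a, hc, mul_assoc a b, hb.2, mul_one, ha.2]
      one_mem' := ⟨one_mem _, one_mul 1⟩
      inv_mem' := by
        intro a ha
        exact ⟨inv_mem ha.1, by rw [← mul_inv_rev, ha.2, inv_one]⟩ }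
  let D := Subgroup.centralizer (A : Set C) ⊓ Z1.comap mk
  have memD : ∀ x, x ∈ D ↔ x ∈ Subgroup.centralizer (A : Set C) ∧ x * x ∈ A ∧ ∀ g, x * g * x⁻¹ * g⁻¹ ∈ A := by
    intro x
    simp only [D, Z1, Subgroup.mem_inf, Subgroup.mem_comap, Subgroup.mem_mk, Submonoid.mem_mk,
      Subsemigroup.mem_mk, Set.mem_setOf_eq]
    refine and_congr_right fun _ => ?_
    constructor
    · rintro ⟨h1, h2⟩
      refine ⟨(QuotientGroup.eq_one_iff _).mp h2, fun g => (QuotientGroup.eq_one_iff _).mp ?_⟩
      have := Subgroup.mem_center_iff.mp h1 (mk g)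
      show mk (x * g * x⁻¹ * g⁻¹) = 1
      simp only [map_mul, map_inv]
      rw [← this]; group
    · rintro ⟨h1, h2⟩
      refine ⟨Subgroup.mem_center_iff.mpr fun g => ?_, (QuotientGroup.eq_one_iff _).mpr h1⟩
      obtain ⟨g, rfl⟩ := QuotientGroup.mk'_surjective A g
      have h4 : mk (x * g * x⁻¹ * g⁻¹) = 1 := (QuotientGroup.eq_one_iff _).mpr (h2 g)
      simp only [map_mul, map_inv] at h4
      exact ((mul_inv_eq_iff_eq_mul.mp (mul_inv_eq_one.mp h4))).symm
  have hDc : D.Characteristic := by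
    rw [Subgroup.characteristic_iff_le_comap]
    intro φ x hx
    rw [memD] at hx
    rw [Subgroup.mem_comap, memD]
    have hAφ : ∀ a, a ∈ A → φ a ∈ A := fun a ha => (Subgroup.characteristic_iff_le_comap.mp hAc φ) ha
    have hAφ' : ∀ a, a ∈ A → φ.symm a ∈ A := fun a ha => (Subgroup.characteristic_iff_le_comap.mp hAc φ.symm) ha
    refine ⟨Subgroup.mem_centralizer_iff.mpr fun a ha => ?_, ?_, fun g => ?_⟩
    · have := congrArg φ (Subgroup.mem_centralizer_iff.mp hx.1 _ (hAφ' a ha))
      simpa using this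
    · simpa using hAφ _ hx.2.1
    · simpa using hAφ _ (hx.2.2 (φ.symm g))
  have hAD : A ≤ D := fun a ha => (memD a).mpr ⟨Subgroup.mem_centralizer_iff.mpr fun b hb => hA b hb a ha,
    mul_mem ha ha, fun g => by
      rw [mul_assoc, mul_assoc, ← mul_assoc g]
      exact mul_mem ha (‹A.Normal›.conj_mem _ (inv_mem ha) g)⟩
  have hAcD : ∀ a ∈ A, ∀ d ∈ D, a * d = d * a := fun a ha d hd =>
    Subgroup.mem_centralizer_iff.mp ((memD d).mp hd).1 a ha
  haveI := hDc
  have hCD : Subgroup.centralizer (D : Set C) ≤ A := by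
    -- its intersection with `D` is `A`
    have hmeet : D ⊓ Subgroup.centralizer (D : Set C) ≤ A := by
      refine hAmax.2 (show D ⊓ Subgroup.centralizer (D : Set C) ∈ S from ⟨?_, ?_⟩) ?_
      · rw [Subgroup.characteristic_iff_map_eq]
        intro φ
        rw [Subgroup.map_inf _ _ _ φ.injective, Subgroup.characteristic_iff_map_eq.mp hDc φ,
          Subgroup.characteristic_iff_map_eq.mp (inferInstance : (Subgroup.centralizer (D : Set C)).Characteristic) φ]
      · exact ⟨⟨fun x y => Subtype.ext (Subgroup.mem_centralizer_iff.mp y.2.2 x x.2.1)⟩⟩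
      · exact fun a ha => ⟨hAD ha, Subgroup.mem_centralizer_iff.mpr fun d hd => (hAcD a ha d hd).symm⟩
    by_contra hle
    have hHn : ((Subgroup.centralizer (D : Set C)).map mk).Normal :=
      Subgroup.Normal.map inferInstance _ (QuotientGroup.mk'_surjective A)
    have hne' : (Subgroup.centralizer (D : Set C)).map mk ≠ ⊥ := by
      rw [Ne, Subgroup.map_eq_bot_iff, QuotientGroup.ker_mk']
      exact hle
    obtain ⟨z, hz, hzc, hzo⟩ := CfsgLib.PGroup.exists_central_orderOf_eq (p := 2) (h2.to_quotient A) _ hne'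
    obtain ⟨h, hh, rfl⟩ := Subgroup.mem_map.mp hz
    have hhA : h ∉ A := by
      intro hm
      have h1 : mk h = 1 := (QuotientGroup.eq_one_iff h).mpr hm
      rw [h1, orderOf_one] at hzo
      omega
    apply hhA
    refine hmeet ⟨?_, hh⟩
    refine Subgroup.mem_inf.mpr ⟨?_, ?_⟩
    · exact Subgroup.centralizer_le (fun a ha => hAD ha) hh
    · refine ⟨hzc, ?_⟩
      rw [← sq, ← hzo, pow_orderOf_eq_one]
  refine ⟨A, D, hAc, hDc, hAD, hAcD, fun d hd => ((memD d).mp hd).2.1, fun d hd => ((memD d).mp hd).2.2, hCD, ?_⟩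
  intro e he _
  exact hAD (hZA he)

/-- A group of automorphisms of a finite 2-group fixing all involutions, which are all central and
at most three in number, is solvable. -/
theorem isSolvable_of_fix_involutions [Finite C] (h2 : IsPGroup 2 C) (E : Subgroup C)
    (hE : ∀ x, x ∈ E ↔ x * x = 1) (hEc : E ≤ Subgroup.center C) (hE4 : Nat.card ↥E ≤ 4)
    (H : Subgroup (MulAut C)) (hfix : ∀ β ∈ H, ∀ e ∈ E, (β : MulAut C) e = e) :
    Group.IsSolvable ↥H := by
  classical
  haveI : Fact (Nat.Prime 2) := ⟨Nat.prime_two⟩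
  obtain ⟨A, D, hAc, hDc, hAD, hAcD, hsqA, hcomA, hCD, hED⟩ := exists_class_two_selfCentralizing h2
  have hAmap : ∀ (β : MulAut C), ∀ a ∈ A, β a ∈ A := fun β a ha => (Subgroup.characteristic_iff_le_comap.mp hAc β) ha
  have hDmap : ∀ (β : MulAut C), ∀ d ∈ D, β d ∈ D := fun β d hd => (Subgroup.characteristic_iff_le_comap.mp hDc β) hd
  -- commutators inside `D`
  have hcomm : ∀ x ∈ D, ∀ y ∈ D, y * x = (y * x * y⁻¹ * x⁻¹) * (x * y) ∧ y * x * y⁻¹ * x⁻¹ ∈ E := by
    intro x hx y hy
    refine ⟨by group, (hE _).mpr ?_⟩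
    have hc := hcomA y hy x
    generalize hcdef : y * x * y⁻¹ * x⁻¹ = c at hc
    have e1 : y * x * y⁻¹ = c * x := by rw [← hcdef]; group
    have e2 : y * (c * x) * y⁻¹ = c * (c * x) := by
      calc y * (c * x) * y⁻¹ = (y * c) * x * y⁻¹ := by group
        _ = (c * y) * x * y⁻¹ := by rw [hAcD c hc y hy]
        _ = c * (y * x * y⁻¹) := by group
        _ = c * (c * x) := by rw [e1]
    have e3 : y * (y * x * y⁻¹) * y⁻¹ = x := by
      calc y * (y * x * y⁻¹) * y⁻¹ = (y * y) * x * (y * y)⁻¹ := by group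
        _ = x * (y * y) * (y * y)⁻¹ := by rw [hAcD _ (hsqA y hy) x hx]
        _ = x := by group
    rw [e1, e2, ← mul_assoc] at e3
    exact mul_eq_right.mp e3
  have hsq : ∀ x ∈ D, ∀ y ∈ D, x * y * (x * y) = (y * x * y⁻¹ * x⁻¹) * ((x * x) * (y * y)) := by
    intro x hx y hy
    obtain ⟨h1, hc⟩ := hcomm x hx y hy
    have hcc := Subgroup.mem_center_iff.mp (hEc hc) x
    calc x * y * (x * y) = x * (y * x) * y := by group
      _ = x * ((y * x * y⁻¹ * x⁻¹) * (x * y)) * y := by rw [← h1]
      _ = (x * (y * x * y⁻¹ * x⁻¹)) * (x * y * y) := by group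
      _ = ((y * x * y⁻¹ * x⁻¹) * x) * (x * y * y) := by rw [hcc]
      _ = _ := by group
  let D1 : Subgroup C :=
    { carrier := {x | x ∈ D ∧ x * x ∈ E}
      one_mem' := ⟨D.one_mem, by rw [one_mul]; exact E.one_mem⟩
      mul_mem' := by
        rintro x y ⟨hx, hxx⟩ ⟨hy, hyy⟩
        refine ⟨D.mul_mem hx hy, ?_⟩
        rw [hsq x hx y hy]
        exact E.mul_mem (hcomm x hx y hy).2 (E.mul_mem hxx hyy)
      inv_mem' := by
        rintro x ⟨hx, hxx⟩
        exact ⟨D.inv_mem hx, by rw [← mul_inv_rev]; exact E.inv_mem hxx⟩ }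
  have hED1 : E ≤ D1 := fun e he =>
    ⟨hED e (hEc he) ((hE e).mp he), by rw [(hE e).mp he]; exact E.one_mem⟩
  have hD1map : ∀ β ∈ H, ∀ x ∈ D1, (β : MulAut C) x ∈ D1 := fun β hβ x hx =>
    ⟨hDmap β x hx.1, by rw [← map_mul, hfix β hβ _ hx.2]; exact hx.2⟩
  -- odd order elements fixing `D1` are trivial
  have odd_trivial : ∀ (β : MulAut C) (r : ℕ), Odd r → β ^ r = 1 → (∀ x ∈ D1, β x = x) → β = 1 := by
    intro β r hr hβ h1
    have disp : ∀ g : C, β (g⁻¹ * β g) = g⁻¹ * β g → β g = g := fun g h => by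
      have := eq_one_of_pow_odd_of_isPGroup h2 hr (disp_pow_eq_one β hβ (g := g) (m := g⁻¹ * β g) (by group) h)
      exact (inv_mul_eq_one.mp this).symm
    have fixA : ∀ n : ℕ, ∀ a ∈ A, orderOf a = n → β a = a := by
      intro n
      induction n using Nat.strong_induction_on with
      | _ n ih =>
        intro a ha hn
        by_cases hn2 : a * a = 1
        · exact h1 a (hED1 ((hE a).mpr hn2))
        apply disp
        refine h1 _ (hED1 ((hE _).mpr ?_))
        have hlt : orderOf (a * a) < n := by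
          rw [← sq, orderOf_pow, ← hn]
          have hgd : Nat.gcd (orderOf a) 2 = 2 := by
            obtain ⟨k, hk⟩ := h2 a
            obtain ⟨j, hj, hje⟩ := (Nat.dvd_prime_pow Nat.prime_two).mp (orderOf_dvd_of_pow_eq_one hk)
            rcases j with _ | j
            · exact absurd (by simp [orderOf_eq_one_iff.mp (by simpa using hje)]) hn2
            · exact Nat.gcd_eq_right (hje ▸ dvd_pow_self 2 (by omega))
          rw [hgd]
          exact Nat.div_lt_self (orderOf_pos a) (by norm_num)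
        have hf := ih _ hlt (a * a) (A.mul_mem ha ha) rfl
        rw [map_mul] at hf
        have hab : a⁻¹ * β a = β a * a⁻¹ := by
          apply mul_left_cancel (a := a); apply mul_right_cancel (b := a)
          simp only [mul_assoc, mul_inv_cancel_left, inv_mul_cancel, mul_one]
          exact hAcD (β a) (hAmap β a ha) a (hAD ha)
        calc a⁻¹ * β a * (a⁻¹ * β a) = a⁻¹ * (β a * a⁻¹) * β a := by group
          _ = a⁻¹ * (a⁻¹ * β a) * β a := by rw [← hab]
          _ = (a * a)⁻¹ * (β a * β a) := by group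
          _ = 1 := by rw [hf, inv_mul_cancel]
    have fixD : ∀ d ∈ D, β d = d := by
      intro d hd
      apply disp
      refine h1 _ ⟨D.mul_mem (D.inv_mem hd) (hDmap β d hd), ?_⟩
      have hf := fixA _ (d * d) (hsqA d hd) rfl
      rw [map_mul] at hf
      rw [hsq _ (D.inv_mem hd) _ (hDmap β d hd), hf, ← mul_inv_rev, inv_mul_cancel, mul_one]
      exact (hcomm _ (D.inv_mem hd) _ (hDmap β d hd)).2
    refine MulEquiv.ext fun g => disp g (fixA _ _ (hCD ?_) rfl)
    refine Subgroup.mem_centralizer_iff.mpr fun d hd => ?_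
    have hd' : g * d * g⁻¹ ∈ D := (inferInstance : D.Normal).conj_mem d hd g
    have h3 := fixD _ hd'
    rw [map_mul, map_mul, map_inv, fixD d hd] at h3
    calc d * (g⁻¹ * β g) = g⁻¹ * (g * d * g⁻¹) * β g := by group
      _ = g⁻¹ * (β g * d * (β g)⁻¹) * β g := by rw [h3]
      _ = g⁻¹ * β g * d := by group
  -- the elementary section and its quadratic map
  let E' : Subgroup ↥D1 := E.subgroupOf D1
  haveI : E'.Normal := ⟨fun e he g => by
    have he' : (e : C) ∈ E := he
    show (g : C) * (e : C) * (g : C)⁻¹ ∈ E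
    rw [Subgroup.mem_center_iff.mp (hEc he') g, mul_inv_cancel_right]; exact he'⟩
  have hVsq : ∀ v : ↥D1 ⧸ E', v * v = 1 := by
    intro v
    induction v using QuotientGroup.induction_on with
    | H x => exact (QuotientGroup.eq_one_iff (x * x)).mpr (show (x : C) * x ∈ E from x.2.2)
  letI iV : CommGroup (↥D1 ⧸ E') :=
    { (inferInstance : Group (↥D1 ⧸ E')) with
      mul_comm := fun a b => by
        have h := hVsq (a * b)
        have ha := inv_eq_of_mul_eq_one_left (hVsq a)
        have hb := inv_eq_of_mul_eq_one_left (hVsq b)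
        calc a * b = (a * b)⁻¹ := (inv_eq_of_mul_eq_one_left h).symm
          _ = b * a := by rw [mul_inv_rev, ha, hb] }
  letI iE : CommGroup ↥E :=
    { (inferInstance : Group ↥E) with
      mul_comm := fun a b => Subtype.ext (Subgroup.mem_center_iff.mp (hEc b.2) (a : C)) }
  let q : (↥D1 ⧸ E') → ↥E := fun v => ⟨(v.out : C) * v.out, v.out.2.2⟩
  have hq : ∀ x : ↥D1, ((q (QuotientGroup.mk x)) : C) = (x : C) * x := by
    intro x
    obtain ⟨⟨e, he⟩, hout⟩ := QuotientGroup.mk_out_eq_mul E' x
    show ((QuotientGroup.mk x : ↥D1 ⧸ E').out : C) * _ = _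
    rw [hout]
    have he' : (e : C) ∈ E := he
    have hez := Subgroup.mem_center_iff.mp (hEc he')
    simp only [Subgroup.coe_mul]
    calc (x : C) * e * ((x : C) * e) = (x : C) * ((e : C) * x) * e := by group
      _ = (x : C) * ((x : C) * e) * e := by rw [hez (x : C)]
      _ = (x : C) * x * ((e : C) * e) := by group
      _ = (x : C) * x := by rw [(hE _).mp he', mul_one]
  have hE2 : ∀ e : ↥E, e * e = 1 := fun e => Subtype.ext ((hE e).mp e.2)
  have hpol : ∀ x y : ↥D1, (((qPolar q (QuotientGroup.mk x) (QuotientGroup.mk y)) : ↥E) : C) = (y : C) * x * (y : C)⁻¹ * (x : C)⁻¹ := by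
    intro x y
    show ((q (QuotientGroup.mk x * QuotientGroup.mk y) * q (QuotientGroup.mk x) * q (QuotientGroup.mk y) : ↥E) : C) = _
    rw [Subgroup.coe_mul, Subgroup.coe_mul, hq, hq, ← QuotientGroup.mk_mul, hq, Subgroup.coe_mul, hsq _ x.2.1 _ y.2.1]
    generalize (y : C) * x * (y : C)⁻¹ * (x : C)⁻¹ = c
    have hx4 := (hE _).mp x.2.2
    have hy4 := (hE _).mp y.2.2
    have hxy := Subgroup.mem_center_iff.mp (hEc x.2.2) ((y : C) * y)
    generalize (x : C) * x = a at hx4 hxy ⊢
    generalize (y : C) * y = b at hy4 hxy ⊢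
    calc c * (a * b) * a * b = c * (a * (b * a) * b) := by group
      _ = c * (a * (a * b) * b) := by rw [hxy]
      _ = c * ((a * a) * (b * b)) := by group
      _ = c := by rw [hx4, hy4, mul_one, mul_one]
  have hbil : ∀ u v w : ↥D1 ⧸ E', qPolar q (u * v) w = qPolar q u w * qPolar q v w := by
    intro u v w
    induction u using QuotientGroup.induction_on with | H x => ?_
    induction v using QuotientGroup.induction_on with | H y => ?_
    induction w using QuotientGroup.induction_on with | H z => ?_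
    apply Subtype.ext
    rw [← QuotientGroup.mk_mul, Subgroup.coe_mul, hpol, hpol, hpol, Subgroup.coe_mul]
    have hc1 := Subgroup.mem_center_iff.mp (hEc (hcomm (y : C) y.2.1 (z : C) z.2.1).2) (x : C)
    calc (z : C) * (x * y) * (z : C)⁻¹ * ((x : C) * y)⁻¹
        = ((z : C) * x * (z : C)⁻¹ * (x : C)⁻¹) * ((x : C) * ((z : C) * y * (z : C)⁻¹ * (y : C)⁻¹) * (x : C)⁻¹) := by group
      _ = _ := by rw [hc1, mul_inv_cancel_right]
  have hani : ∀ v, q v = 1 → v = 1 := by
    intro v h
    induction v using QuotientGroup.induction_on with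
    | H x =>
      have h' := congrArg Subtype.val h
      rw [hq] at h'
      exact (QuotientGroup.eq_one_iff x).mpr ((hE _).mpr h')
  let ρ : ↥H →* MulAut (↥D1 ⧸ E') :=
    let res : ↥H → (↥D1 ≃* ↥D1) := fun β =>
      { toFun := fun x => ⟨(β : MulAut C) x, hD1map _ β.2 x x.2⟩
        invFun := fun x => ⟨((β⁻¹ : ↥H) : MulAut C) x, hD1map _ (β⁻¹).2 x x.2⟩
        left_inv := fun x => Subtype.ext (by simp)
        right_inv := fun x => Subtype.ext (by simp)
        map_mul' := fun x y => Subtype.ext (by simp) }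
    have hres : ∀ β, E'.map (res β).toMonoidHom = E' := by
      intro β
      ext x
      constructor
      · rintro ⟨y, hy, rfl⟩
        show (β : MulAut C) (y : C) ∈ E
        rw [hfix _ β.2 (y : C) hy]; exact hy
      · intro hx
        exact ⟨x, hx, Subtype.ext (hfix _ β.2 _ hx)⟩
    { toFun := fun β => QuotientGroup.congr E' E' (res β) (hres β)
      map_one' := by
        ext v; induction v using QuotientGroup.induction_on with
        | H x => rfl
      map_mul' := fun a b => by
        ext v; induction v using QuotientGroup.induction_on with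
        | H x => rfl }
  have hρ : ∀ (β : ↥H) (x : ↥D1), ρ β (QuotientGroup.mk x) = QuotientGroup.mk (⟨(β : MulAut C) x, hD1map _ β.2 x x.2⟩ : ↥D1) :=
    fun β x => rfl
  refine isSolvable_of_ker_range ρ ?_ ?_
  · have hker : IsPGroup 2 ↥ρ.ker := by
      intro β
      obtain ⟨k, r, hr, hord⟩ := Nat.exists_eq_two_pow_mul_odd (orderOf_pos (((β : ↥H)) : MulAut C)).ne'
      refine ⟨k, Subtype.ext (Subtype.ext ?_)⟩
      simp only [SubgroupClass.coe_pow, OneMemClass.coe_one]
      generalize hγ : (((β : ↥H)) : MulAut C) ^ (2 ^ k) = γ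
      have hγr : γ ^ r = 1 := by rw [← hγ, ← pow_mul, ← hord, pow_orderOf_eq_one]
      have hd : ∀ x ∈ D1, x⁻¹ * γ x ∈ E := by
        intro x hx
        have h1 : ρ ((β : ↥H) ^ (2 ^ k)) = 1 := by
          rw [map_pow, show ρ (β : ↥H) = 1 from β.2, one_pow]
        have h3 := MulEquiv.congr_fun h1 (QuotientGroup.mk (⟨x, hx⟩ : ↥D1))
        rw [hρ, MulAut.one_apply] at h3
        have h4 := QuotientGroup.eq.mp h3.symm
        change x⁻¹ * (((β : ↥H) ^ (2 ^ k) : ↥H) : MulAut C) x ∈ E at h4
        rw [SubgroupClass.coe_pow, hγ] at h4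
        exact h4
      refine odd_trivial γ r hr hγr fun x hx => ?_
      have hfe : γ (x⁻¹ * γ x) = x⁻¹ * γ x := by
        have hγH : γ ∈ H := hγ ▸ H.pow_mem (β : ↥H).2 _
        exact hfix γ hγH _ (hd x hx)
      exact (inv_mul_eq_one.mp (eq_one_of_pow_odd_of_isPGroup h2 hr
        (disp_pow_eq_one γ hγr (g := x) (m := x⁻¹ * γ x) (by group) hfe))).symm
    haveI := hker.isNilpotent
    infer_instance
  · refine isSolvable_of_isometry hVsq hE2 hE4 hbil hani ρ.range.subtype Subtype.coe_injective ?_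
    rintro ⟨_, β, rfl⟩ v
    induction v using QuotientGroup.induction_on with
    | H x =>
      apply Subtype.ext
      show ((q (ρ β (QuotientGroup.mk x))) : C) = _
      rw [hρ, hq, hq]
      show (β : MulAut C) x * (β : MulAut C) x = _
      rw [← map_mul]
      exact hfix _ β.2 _ x.2.2

end CfsgLib.StdForm
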